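import Cfsg.Agent.E62.MtDef
import Cfsg.Agent.XSC.UniqPt

/-! Fixed points of the centraliser of an involution, and root involutions of `²E₆(2)`. -/

set_option autoImplicit false

namespace Cfsg.Agent.E62

open Cfsg.Agent.Comp Cfsg.Agent.Comp.BM Cfsg.Agent.WG Subgroup Cfsg.Agent.TT Cfsg.Agent.XSC

section
variable {G : Type*} [Group G] [Finite G]

theorem odd_conj {C H S : Subgroup G} (hi : Odd (C.relIndex H)) (hS : IsPGroup 2 S) (hle : S ≤ H) :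
    ∃ h ∈ H, ∀ s ∈ S, h⁻¹ * s * h ∈ C := by
  have := Fact.mk Nat.prime_two
  obtain ⟨q, hq⟩ := (hS.comap_of_injective H.subtype H.subtype_injective).nonempty_fixed_point_of_prime_not_dvd_card
    (H ⧸ C.subgroupOf H) hi.not_two_dvd_nat
  obtain ⟨h, rfl⟩ := QuotientGroup.mk_surjective q
  refine ⟨h, h.2, fun s hs => ?_⟩
  rw [mul_assoc]
  exact (QuotientGroup.eq (s := C.subgroupOf H) (b := ⟨s, hle hs⟩ * h)).1 (hq ⟨⟨s, hle hs⟩, hs⟩).symm

omit [Finite G] in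
theorem relIndex_eq {O H : Subgroup G} {z : G} (hO : O ≤ H) (ht : ∀ k ∈ H, ∃ o ∈ O, o * z * o⁻¹ = k * z * k⁻¹) :
    (centralizer ({z} : Set G)).relIndex H = (centralizer ({z} : Set G)).relIndex O := by
  refine (Nat.card_congr (Equiv.ofBijective _
    ⟨(quotientSubgroupOfEmbeddingOfLE _ hO).injective, fun x => ?_⟩)).symm
  obtain ⟨b, rfl⟩ := QuotientGroup.mk_surjective x
  obtain ⟨c, hc, h4⟩ := ht b b.2
  refine ⟨QuotientGroup.mk ⟨c, hc⟩, ?_⟩
  rw [quotientSubgroupOfEmbeddingOfLE_apply_mk, QuotientGroup.eq]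
  change c⁻¹ * (b : G) ∈ centralizer ({z} : Set G)
  rw [mem_centralizer_singleton_iff]
  calc c⁻¹ * b * z = c⁻¹ * (b * z * (b : G)⁻¹) * b := by group
    _ = _ := by rw [← h4]; group

theorem two_fix {Ω : Type*} [MulAction G Ω] {z τ : G} (hz : orderOf z = 2) (t2 : τ * τ = 1) (c : z * τ = τ * z)
    (ne : z ≠ τ) {a : Ω} (za : z • a = a) (ta : τ • a = a)
    (uq : ∀ y, IsConj z y → ∀ a b : Ω, y • a = a → y • b = b → a = b)
    (star : ∀ k, k * τ = τ * k → k • a = a → ∀ y, y = k * z * k⁻¹ → y ≠ z → y ≠ z * τ →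
      z * y = y * z ∨ z * y = y * z * τ → IsConj z (z * y) ∨ IsConj z (z * y * τ))
    {g : G} (g1 : g * τ = τ * g) (g2 : g • a ≠ a) {S : Subgroup G} (hS : IsPGroup 2 S)
    (S1 : ∀ s ∈ S, s * τ = τ * s ∧ s • a = a) :
    ∃ k, k * τ = τ * k ∧ k • a = a ∧ ∀ s ∈ S, s * (k * z * k⁻¹) * s⁻¹ = k * z * k⁻¹ ∨
      s * (k * z * k⁻¹) * s⁻¹ = k * z * k⁻¹ * τ := by
  let K := centralizer ({τ} : Set G)
  have mK : ∀ {k}, k ∈ K ↔ k * τ = τ * k := mem_centralizer_singleton_iff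
  let Δ : SubMulAction K Ω := ⟨{b | τ • b = b}, fun k b hb => by
    change τ • k.1 • b = k.1 • b
    rw [smul_smul, ← mK.1 k.2, mul_smul, show τ • b = b from hb]⟩
  let T : Subgroup K := zpowers ⟨τ, mK.2 rfl⟩
  have mT : ∀ {k : K}, k ∈ T ↔ k.1 = 1 ∨ k.1 = τ := by
    intro k; rw [mem_zpowers_invol (Subtype.ext t2), Subtype.ext_iff, Subtype.ext_iff]; rfl
  have : T.Normal := ⟨fun n hn k => mT.2 ((mT.1 hn).imp (fun e => by simp [e]) fun e => by simp [e, mK.1 k.2])⟩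
  let _ : MulAction (K ⧸ T) Δ := MulAction.compHom Δ (QuotientGroup.lift T (MulAction.toPermHom K Δ) fun k hk =>
    Equiv.ext fun b => Subtype.ext (by
      change k.1 • b.1 = b.1
      rcases mT.1 hk with e | e <;> rw [e]
      exacts [one_smul _ _, b.2]))
  have sm : ∀ (k : K) (b : Δ), (k : K ⧸ T) • b = b ↔ k.1 • b.1 = b.1 := fun k b => Subtype.ext_iff
  have eq : ∀ k l : K, (k : K ⧸ T) = l ↔ l.1 = k ∨ l.1 = k * τ := fun k l => by
    rw [QuotientGroup.eq, mT, coe_mul, coe_inv, inv_mul_eq_one, inv_mul_eq_iff_eq_mul, eq_comm]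
  have := Fact.mk Nat.prime_two
  let Z : K := ⟨z, mK.2 c⟩
  let A : Δ := ⟨a, ta⟩
  have u1 : ∀ b b' : Δ, (Z : K ⧸ T) • b = b → (Z : K ⧸ T) • b' = b' → b = b' := fun b b' h h' =>
    Subtype.ext (uq z (IsConj.refl z) _ _ ((sm _ _).1 h) ((sm _ _).1 h'))
  have U : UniqPt Δ (Z : K ⧸ T) := by
    refine ⟨orderOf_eq_prime ?_ fun e => ?_, ⟨A, (sm _ _).2 za⟩, u1, fun y h1 h2 h3 b b' h4 h5 => ?_⟩
    · rw [← QuotientGroup.mk_pow, show Z ^ 2 = 1 from Subtype.ext (hz ▸ pow_orderOf_eq_one z), QuotientGroup.mk_one]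
    · exact (mT.1 ((QuotientGroup.eq_one_iff _).1 e)).elim (fun e => by simp [show z = 1 from e] at hz) ne
    obtain ⟨k, rfl⟩ := isConj_iff.1 h1
    obtain ⟨k, rfl⟩ := QuotientGroup.mk_surjective k
    rw [← QuotientGroup.mk_inv, ← QuotientGroup.mk_mul, ← QuotientGroup.mk_mul] at h2 h3 h4 h5
    have h6 := (sm _ _).1 (u1 _ A (by rw [smul_smul, h2.eq, mul_smul, (sm Z A).2 za]) ((sm _ _).2 za))
    have h7 : k.1 • a = a := uq _ (isConj_iff.2 ⟨k.1, rfl⟩) _ _ (by rw [mul_smul, inv_smul_smul, mul_smul, za]) h6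
    rw [← QuotientGroup.mk_mul, sm] at h4 h5
    rcases star k (mK.1 k.2) h7 _ rfl (fun e => h3 ((eq _ _).2 (Or.inl e)).symm)
      (fun e => h3 ((eq _ _).2 (Or.inr e)).symm) ((eq _ _).1 h2.eq.symm) with h | h
    · exact Subtype.ext (uq _ h _ _ h4 h5)
    · exact Subtype.ext (uq _ h _ _ (by rw [mul_smul, show τ • b.1 = b.1 from b.2]; exact h4)
        (by rw [mul_smul, show τ • b'.1 = b'.1 from b'.2]; exact h5))
  obtain ⟨O, o1, o2, o3⟩ := U.exists_odd_trans (a := A) ((sm _ _).2 za) (g := (⟨g, mK.2 g1⟩ : K)) (mt (sm _ _).1 g2)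
  obtain ⟨k, h1, h2⟩ := odd_conj (C := centralizer {(Z : K ⧸ T)}) (H := MulAction.stabilizer (K ⧸ T) A)
    (S := (S.subgroupOf K).map (QuotientGroup.mk' T)) (by
      rw [relIndex_eq (O := O) o2 fun k hk => o3 _ (isConj_iff.2 ⟨k, rfl⟩)
        (mul_mem (mul_mem hk (show _ ∈ MulAction.stabilizer _ A from (sm Z A).2 za)) (inv_mem hk))]
      exact o1.of_dvd_nat (relIndex_dvd_card _ _))
    ((hS.comap_of_injective K.subtype K.subtype_injective).map _) (by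
      rintro _ ⟨s, hs, rfl⟩; exact (sm _ _).2 (S1 _ hs).2)
  obtain ⟨k, rfl⟩ := QuotientGroup.mk_surjective k
  refine ⟨k, mK.1 k.2, (sm _ _).1 h1, fun s hs => (eq (k * Z * k⁻¹)
    (⟨s, mK.2 (S1 s hs).1⟩ * (k * Z * k⁻¹) * (⟨s, mK.2 (S1 s hs).1⟩ : K)⁻¹)).1 ?_⟩
  have := mem_centralizer_singleton_iff.1 (h2 _ ⟨⟨s, mK.2 (S1 s hs).1⟩, hs, rfl⟩)
  simp only [QuotientGroup.mk_mul, QuotientGroup.mk_inv, QuotientGroup.mk'_apply] at this ⊢
  generalize ((⟨s, _⟩ : K) : K ⧸ T) = s at this ⊢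
  calc _ = k * (Z * ((k : K ⧸ T)⁻¹ * s * k)) * (k : K ⧸ T)⁻¹ * s⁻¹ := by group
    _ = _ := by rw [← this]; group

end

theorem Pre.isConj {G : Type*} [Group G] {z : G} {ψ : ES →* G} {α : G → L} (h : Pre z ψ α) {t : G}
    (ht : t ∈ ψ.range) (h1 : t ≠ 1) (h2 : t ≠ z) : IsConj t (z * t) :=
  let ⟨s, _, e⟩ := h.xs.exists_conj_eq ht h1 h2; isConj_iff.2 ⟨s, e.trans (h.xs.z_comm t ht)⟩

namespace Mt

variable {M : Type*} [Group M] [Finite M] {y : ℕ → M} {B : Cfsg.BNPair M} {e : Fin 4 → B.S} {ψ : ES →* M}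
  {α : M → L} (m : Mt y B e ψ α)
include m

omit [Finite M]

theorem ne_one {t : M} (ht : IsConj (y 40) t) : t ≠ 1 := fun e => m.md.z_ne (isConj_one_left.1 (e ▸ ht))

theorem sq {t : M} (ht : IsConj (y 40) t) : t * t = 1 := by
  obtain ⟨g, rfl⟩ := isConj_iff.1 ht
  rw [conj_mul, m.st.zz, mul_one, mul_inv_cancel]

theorem cls {t : M} (ht : IsConj (y 40) t) (hc : y 40 * t = t * y 40) :
    t ∈ ψ.range ∨ ∃ c, c * y 40 = y 40 * c ∧ c * t * c⁻¹ = y 70 := by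
  have h2 : (y 40 * t) ^ 2 = 1 := by rw [Commute.mul_pow hc, _root_.sq, _root_.sq, m.st.zz, m.sq ht, one_mul]
  rcases m.F2 t ht with h | h | h | h
  exacts [Or.inl h, Or.inr h, (m.ne_one h h2).elim, Or.inl (by
    rw [pow_succ, h2, one_mul, mul_eq_one_iff_inv_eq] at h
    exact h ▸ inv_mem m.st.xs.z_mem)]

theorem star {t : M} (h1 : IsConj (y 40) t) (h2 : IsConj (y 40) (t * (y 40 * y 70)))
    (h3 : t * (y 40 * y 70) = y 40 * y 70 * t) (h4 : t ≠ y 40) (h5 : t * (y 40 * y 70) ≠ y 40)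
    (h6 : y 40 * t = t * y 40 ∨ y 40 * t = t * y 40 * (y 40 * y 70)) :
    IsConj (y 40) (y 40 * t) ∨ IsConj (y 40) (y 40 * t * (y 40 * y 70)) ∨ IsConj (y 40) (y 40 * y 70) := by
  have h0 := m.st
  obtain ⟨c1, c2⟩ : y 70 * y 40 = y 40 * y 70 ∧ α (y 70) = x 28 := m.al 14 (by omega)
  have c3 : y 40 * y 70 * y 40 = y 40 * (y 40 * y 70) := by rw [mul_assoc, c1]
  by_cases hc : y 40 * t = t * y 40
  · have hc' := comm_mul_left hc.symm c3
    rcases m.cls h1 hc with h | ⟨c, h, e⟩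
    · exact Or.inl (h1.trans (h0.isConj h (m.ne_one h1) h4))
    rcases m.cls h2 hc'.symm with h' | ⟨d, h', e'⟩
    · exact Or.inr (Or.inl (mul_assoc (y 40) t _ ▸ h2.trans (h0.isConj h' (m.ne_one h2) h5)))
    obtain ⟨b, b1, w, hw, b2⟩ := m.F4 c⁻¹ (comm_inv_left h)
    have a1 := h0.cj h hc.symm
    have a2 := h0.cj h' hc'
    rw [e, c2] at a1
    rw [e', c2, h0.mul hc.symm c3, h0.mul rfl c1, h0.at_z, c2, one_mul] at a2
    rw [h0.inv h] at b2
    refine (not_prod hw (b⁻¹ * (α d)⁻¹) ?_).elim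
    calc _ = b⁻¹ * (b * el x w * b⁻¹) * (b * x 28) := by group
      _ = b⁻¹ * (α t * x 28) * b := by rw [← b2, b1]; nth_rw 1 [a1]; group
      _ = _ := by nth_rw 2 [a2]; group
  · have h7 : (y 40 * t) ^ 2 = y 40 * y 70 := by
      calc _ = t * y 40 * (y 40 * y 70 * y 40) * t := by rw [_root_.sq]; nth_rw 1 [h6.resolve_left hc]; group
        _ = t * (y 40 * y 40) * (y 40 * y 70 * t) := by rw [c3]; group
        _ = _ := by rw [h0.zz, mul_one, ← mul_assoc, h3, mul_assoc, m.sq h1, mul_one]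
    rcases m.F2 t h1 with h | ⟨c, h, e⟩ | h | h
    · exact (hc (h0.xs.z_comm t h).symm).elim
    · refine (hc ?_).elim
      rw [show t = c⁻¹ * y 70 * c by rw [← e]; group]
      exact (comm_mul_left (comm_mul_left (comm_inv_left h) c1) h).symm
    · exact Or.inr (Or.inr (h7 ▸ h))
    · refine (hc ?_).elim
      have := m.sq h2
      rw [← _root_.sq, Commute.mul_pow h3, _root_.sq, m.sq h1, one_mul, ← h7, ← pow_mul, pow_succ, h, one_mul] at this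
      rw [this, mul_eq_one_comm.1 this]

theorem fin [Finite M] {f : ES} (u1 : ψ f ≠ 1) (u2 : ψ f ≠ y 40) {t : M} (h1 : IsConj (y 40) t) (h2 : IsConj (y 40) (t * ψ f))
    (h3 : ∀ s ∈ ψ.range, s * ψ f = ψ f * s → s * t * s⁻¹ = t ∨ s * t * s⁻¹ = t * ψ f) : IsConj (y 40) (ψ f) := by
  have h0 := m.st
  have k : ∀ s ∈ ψ.range, s * ψ f = ψ f * s → ∃ a : ES, (a = 1 ∨ a = f) ∧ s * t * s⁻¹ = t * ψ a := fun s a b =>
    (h3 s a b).elim (fun e => ⟨1, Or.inl rfl, by simpa using e⟩) fun e => ⟨f, Or.inr rfl, e⟩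
  have hc : y 40 * t = t * y 40 := by
    obtain ⟨s, a1, r, a2, a3, a4, a5⟩ := h0.xs.exists_noncomm_in_centralizer (by rw [h0.card]; norm_num) ⟨f, rfl⟩
    obtain ⟨a, b1, b2⟩ := k s a1 a3
    obtain ⟨b, b3, b4⟩ := k r a2 a4
    have c1 : r * ψ a * r⁻¹ = ψ a := by rcases b1 with rfl | rfl <;> simp [a4]
    have c2 : s * ψ b * s⁻¹ = ψ b := by rcases b3 with rfl | rfl <;> simp [a3]
    have c3 : ψ a * ψ b = ψ b * ψ a := by rcases b1 with rfl | rfl <;> rcases b3 with rfl | rfl <;> simp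
    have c4 : s * r * t * (s * r)⁻¹ = r * s * t * (r * s)⁻¹ := by
      calc _ = s * (r * t * r⁻¹) * s⁻¹ := by group
        _ = r * (s * t * s⁻¹) * r⁻¹ := by rw [b2, b4, ← conj_mul, ← conj_mul, b2, b4, c1, c2, mul_assoc, c3, mul_assoc]
        _ = _ := by group
    rw [a5, mul_inv_rev _ (y 40), mul_assoc _ (y 40), ← mul_assoc, mul_left_inj, mul_assoc, mul_right_inj] at c4
    exact mul_inv_eq_iff_eq_mul.1 c4
  rcases m.cls h1 hc with h | ⟨c, h, e⟩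
  · have i := h0.isConj ⟨f, rfl⟩ u1 u2
    rcases h0.xs.eq_of_comm_centralizer ⟨f, rfl⟩ h (fun s a b => by
      by_contra n
      have := h0.xs.conj_of_ne a h n
      rcases h3 s a b with e | e
      exacts [n (mul_inv_eq_iff_eq_mul.1 e), u2 (mul_left_cancel (e.symm.trans this))]) with e | e | e | e
    exacts [(m.ne_one h1 e).elim, (e ▸ h2).trans i.symm, e ▸ h1, (e.trans (h0.comm f) ▸ h1).trans i.symm]
  · obtain ⟨c1, c2⟩ : y 70 * y 40 = y 40 * y 70 ∧ α (y 70) = x 28 := m.al 14 (by omega)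
    obtain ⟨f', a1, -⟩ := h0.act c h f
    refine (not_quad f'.v fun v hv => ?_).elim
    obtain ⟨s, a2, -⟩ := h0.act c⁻¹ (comm_inv_left h) ⟨v, 0⟩
    obtain ⟨a, b1, b2⟩ := k _ ⟨s, rfl⟩ (by
      have := (h0.comm_iff (b := ⟨v, 0⟩)).2 hv
      rw [← a2, ← mul_left_cancel_iff (a := c), ← mul_right_cancel_iff (a := c⁻¹)]
      simpa [← a1, mul_assoc] using this.symm)
    obtain ⟨a', b3, -⟩ := h0.act c h a
    have := h0.act_v (comm_inv_left c1) (e := ⟨v, 0⟩) (e' := a' * ⟨v, 0⟩) (by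
      rw [map_mul, ← b3, ← e, eq_inv_mul_iff_mul_eq.2 b2.symm, ← a2]; group)
    rw [h0.inv c1, c2, inv_eq_of_mul_eq_one_right (x_sq 14), ESM.mul_v] at this
    rw [← show _ = (x 28).1 v from this, add_assoc, vv, add_zero]
    exact b1.imp (fun e => by rw [h0.inj (b3.symm.trans (by simp [e]) : ψ a' = ψ 1)]; rfl)
      fun e => by rw [h0.inj (b3.symm.trans (e ▸ a1))]

theorem conj70 : IsConj (y 40) (y 70) := by
  have k : ∀ g, QM (g ++ [40]) ([70] ++ g) = true → IsConj (y 40) (y 70) := fun g h => by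
    have := m.md.sound _ _ h
    rw [el_append, el_append] at this
    exact isConj_iff.2 ⟨el y g, by simpa [mul_inv_eq_iff_eq_mul] using this⟩
  exact k (nw 0 ++ nw 1 ++ nw 2 ++ nw 1 ++ nw 0) (by decide +kernel)

theorem sq70 : y 40 * y 70 * (y 40 * y 70) = 1 := by
  rw [mul_assoc, ← mul_assoc (y 70), show y 70 * y 40 = _ from (m.al 14 (by omega)).1, mul_assoc, m.sq m.conj70,
    mul_one, m.st.zz]

theorem exists_S [Finite M] : ∃ S : Subgroup M, IsPGroup 2 S ∧ (∀ s ∈ S, s * (y 40 * y 70) = y 40 * y 70 * s) ∧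
    ∀ t, IsConj (y 40) t → IsConj (y 40) (t * (y 40 * y 70)) →
      (∀ s ∈ S, s * t * s⁻¹ = t ∨ s * t * s⁻¹ = t * (y 40 * y 70)) → IsConj (y 40) (y 40 * y 70) := by
  have := Fact.mk Nat.prime_two
  have n : y 40 * y 70 ≠ 1 := fun e => not_prod (w := [28]) (by decide) 1 (by
    obtain ⟨c1, c2⟩ : y 70 * y 40 = y 40 * y 70 ∧ α (y 70) = x 28 := m.al 14 (by omega)
    have := m.st.mul rfl c1
    rw [e, m.st.one, m.st.at_z, c2, one_mul] at this
    simp [← this])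
  obtain ⟨g, w, hw⟩ := m.F1 _ (orderOf_eq_prime (by rw [_root_.sq, m.sq70]) n)
  have c := fun t : M => isConj_iff.2 ⟨g, (rfl : g * t * g⁻¹ = _)⟩
  refine ⟨(ψ.range ⊓ centralizer {ψ w}).map (MulAut.conj g⁻¹).toMonoidHom,
    ((IsPGroup.of_card m.st.card).to_le inf_le_left).map _, ?_, fun t h1 h2 h3 => ?_⟩
  · rintro _ ⟨s, ⟨-, hs⟩, rfl⟩
    rw [← mul_left_cancel_iff (a := g), ← mul_right_cancel_iff (a := g⁻¹)]
    simpa [← hw, mul_assoc] using mem_centralizer_singleton_iff.1 hs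
  by_cases e : ψ w = y 40
  · exact (isConj_iff.2 ⟨g, hw.trans e⟩).symm
  refine (m.fin (fun e => n (conj_eq_one_iff.1 (hw.trans e))) e (h1.trans (c t)) (by
    rw [← hw, conj_mul]; exact h2.trans (c _)) fun s a b => ?_).trans (hw ▸ (c _).symm)
  refine (h3 _ ⟨s, ⟨a, mem_centralizer_singleton_iff.2 b⟩, rfl⟩).imp (fun e => ?_) fun e => ?_
  · nth_rw 2 [← e]; simp [mul_assoc]
  · rw [← hw, conj_mul, ← e]; simp [mul_assoc]

end Mt

end Cfsg.Agent.E62
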