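import Cfsg.Agent.E62.GC
import Cfsg.Agent.E62.Two

/-! The image of `²E₆(2)` has index at most two. -/

set_option autoImplicit false

namespace Cfsg.Agent.E62

open Cfsg.Agent.Comp Cfsg.Agent.Comp.BM Cfsg.Agent.WG Subgroup Cfsg.Agent.TT Cfsg.Agent.XSC

variable {G M : Type*} [Group G] [Group M] [Finite G] [Finite M] {z : G} {ψ : ES →* G} {α : G → L}
  {y : ℕ → M} {B : Cfsg.BNPair M} {e : Fin 4 → B.S} {ψ0 : ES →* M} {α0 : M → L}

omit [Finite G] in
theorem Pre.exists_fix (h : Pre z ψ α) {t : G} (hc : t * z = z * t) (t2 : t * t = 1) (ht : α t ∈ T2) :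
    ∃ w : ES, w.v ∈ Sp 20 3 ∧ w.v ≠ 0 ∧ t * ψ w * t⁻¹ = ψ w := by
  obtain ⟨a1, a2⟩ := T2_fl ht
  obtain ⟨f, b1, b2⟩ := h.act t hc (eE 0)
  obtain ⟨g, c1, c2⟩ := h.act t hc (eE 1)
  have m0 : ee 0 ∈ Sp 20 3 := vec_mem_Sp (by decide +kernel)
  have m1 : ee 1 ∈ Sp 20 3 := vec_mem_Sp (by decide +kernel)
  have s0 : ψ (eE 0) * ψ (eE 0) = 1 := sq_e ψ 0
  have tz : t * z * t⁻¹ = z := by rw [hc, mul_inv_cancel_right]
  rcases h.eqv (b := eE 0) (b2.trans a1) with e | e <;> rw [e] at b1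
  · exact ⟨_, m0, fun e => absurd (congrFun e 0) (by decide), b1⟩
  rcases a2 with a2 | a2
  · rcases h.eqv (b := eE 1) (c2.trans a2) with e | e <;> rw [e] at c1
    · exact ⟨_, m1, fun e => absurd (congrFun e 1) (by decide), c1⟩
    · exact ⟨eE 0 * eE 1, add_mem m0 m1, fun e => absurd (congrFun e 0) (by decide), by
        rw [map_mul, ← conj_mul, b1, c1, mul_assoc, ← mul_assoc z, ← h.comm, mul_assoc _ z, h.zz, mul_one]⟩
  · have k : t * (t * ψ (eE 1) * t⁻¹) * t⁻¹ = ψ (eE 1) := by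
      rw [← mul_assoc, ← mul_assoc, t2, mul_assoc, ← mul_inv_rev, t2]; simp
    refine (h.xs.z_ne (mul_left_cancel (a := ψ (eE 1)) (Eq.trans ?_ (k.trans (mul_one _).symm)))).elim
    rcases h.eqv (b := eE 1 * eE 0) (c2.trans a2) with e | e <;> rw [e, map_mul] at c1
    · rw [c1, ← conj_mul, c1, b1, mul_assoc, ← mul_assoc (ψ (eE 0)), s0, one_mul]
    · rw [c1, ← conj_mul, ← conj_mul, c1, b1, tz, mul_assoc, mul_assoc _ z z, h.zz, mul_one, mul_assoc _ z, ← h.comm,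
        mul_assoc, ← mul_assoc (ψ (eE 0)), s0, one_mul]

theorem main (h : St z ψ α) {g : G} (hb : g * z * g⁻¹ ∈ ψ.range) (hne : g * z * g⁻¹ ≠ z) (m : Mt y B e ψ0 α0) :
    ∃ f : M →* G, Function.Injective f ∧ f.range.Normal ∧ f.range.index ∣ 2 ∧ f.range ⊔ centralizer {z} = ⊤ ∧
      ∀ c, c * z = z * c → (c ∈ f.range ↔ α c ∈ Mb) := by
  have h0 := m.st
  obtain ⟨_, -, -, -, hP⟩ := h.norm hb hne
  obtain ⟨f, hf⟩ := exists_f hP m
  have fz : f (y 40) = z := by rw [← h0.z_eq, hf, h.z_eq]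
  have fi : Function.Injective f := (MonoidHom.ker_eq_bot_iff f).1
    ((m.md.simple.eq_bot_or_eq_top_of_normal f.ker inferInstance).resolve_right fun e =>
      h.xs.z_ne (fz ▸ e.ge (Subgroup.mem_top (y 40))))
  have cm : ∀ {t}, f t * z = z * f t ↔ t * y 40 = y 40 * t := by
    intro t; rw [← fz, ← map_mul, ← map_mul, fi.eq_iff]
  have αf : ∀ {t}, t * y 40 = y 40 * t → α (f t) = α0 t := fun {t} ht => NN_α h h0 (γ := (f t, t))
    (mem_NN.2 fun a => let ⟨b, h1, _⟩ := h0.act t ht a; ⟨b, by rw [← hf, ← hf, ← h1]; simp, h1⟩)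
  have qf : ψ.range ≤ f.range := by rintro _ ⟨a, rfl⟩; exact ⟨_, hf a⟩
  have mem : ∀ c, c * z = z * c → (c ∈ f.range ↔ α c ∈ Mb) := fun c hc => ⟨by
    rintro ⟨t, rfl⟩; rw [αf (cm.1 hc)]; exact m.le1 t (cm.1 hc), fun hm => by
      obtain ⟨t, h1, h2⟩ := h0.onto _ hm
      simpa using mul_mem (qf (h.ker _ (comm_mul_left hc (comm_inv_left (cm.2 h1))) (by
        rw [h.mul hc (comm_inv_left (cm.2 h1)), h.inv (cm.2 h1), αf h1, h2, mul_inv_cancel]))) ⟨t, rfl⟩⟩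
  have rz : f (y 38 * y 80) * z * (f (y 38 * y 80))⁻¹ = ψ (eE 0) := by
    rw [← fz, ← map_inv, ← map_mul, ← map_mul, m.rho.z_eq, hf]
  have fus : ∀ g, g * z * g⁻¹ ∈ ψ.range → ∃ k ∈ f.range, k * z * k⁻¹ = g * z * g⁻¹ := fun g hg => by
    by_cases e : g * z * g⁻¹ = z
    · exact ⟨1, one_mem _, by simp [e]⟩
    obtain ⟨c, h1, h2, h3, -⟩ := h.norm hg e
    exact ⟨c⁻¹ * f (y 38 * y 80), mul_mem (inv_mem ((mem c h1).2 h2)) ⟨_, rfl⟩, by
      rw [mul_inv_rev, mul_assoc c⁻¹, mul_assoc c⁻¹, ← mul_assoc _ _ c⁻¹⁻¹, rz, ← h3]; group⟩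
  have nC : centralizer {z} ≤ normalizer (f.range : Set G) := fun c hc => by
    replace hc := mem_centralizer_singleton_iff.1 hc
    have := m.gen (f.range.comap ((MulAut.conj c).toMonoidHom.comp f)) (fun t ht => by
      have h1 := cm.2 (mem_centralizer_singleton_iff.1 ht)
      refine (mem _ (comm_mul_left (comm_mul_left hc h1) (comm_inv_left hc))).2 ?_
      have h2 := (mem _ h1).1 ⟨t, rfl⟩
      rw [h.cj hc h1]
      rcases mem_Mb2 (h.le2 c hc) with e | e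
      · exact mul_mem (mul_mem e h2) (inv_mem e)
      · simpa [mul_assoc] using conj_mem_of_norm' sig_norm (mul_mem (mul_mem e h2) (inv_mem e))) (by
      obtain ⟨k, h1, h2⟩ := fus (c * f (y 38 * y 80)) (by
        obtain ⟨a, ha, -⟩ := h.act c hc (eE 0)
        exact ⟨a, by rw [← ha, ← rz]; group⟩)
      obtain ⟨a, ha, -⟩ := h.act (k⁻¹ * (c * f (y 38 * y 80))) (by
        rw [← mul_inv_eq_iff_eq_mul, mul_assoc k⁻¹, mul_inv_rev k⁻¹, mul_assoc k⁻¹, ← mul_assoc _ _ k⁻¹⁻¹, ← h2]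
        group) (eE 19)
      have h3 : y 80 = y 38 * y 80 * y 38 * (y 38 * y 80)⁻¹ := by
        have c2 := m.rho.inv
        have c3 : y 38 * y 38 = 1 := m.psi 19 ▸ sq_e ψ0 19
        rw [show ψ0 (eE 19) = y 38 from m.psi 19] at c2
        have c4 : (y 38 * y 80)⁻¹ = _ := inv_eq_of_mul_eq_one_right (pow_three (y 38 * y 80) ▸ m.rho.cube)
        calc _ = y 38 * (y 38 * y 80) * (y 38)⁻¹ * y 38 := by rw [← mul_assoc, c3]; group
          _ = y 38 * y 80 * (y 38 * y 38) * (y 38 * y 80) * (y 38)⁻¹ := by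
            rw [c2, c4, c3, inv_eq_of_mul_eq_one_right c3, mul_one]
          _ = _ := by rw [← c2]; group
      have := mul_mem (mul_mem h1 (qf ⟨a, rfl⟩)) (inv_mem h1)
      rw [← ha, ← hf, show ψ0 (eE 19) = y 38 from m.psi 19] at this
      change c * f (y 80) * c⁻¹ ∈ f.range
      rw [h3, map_mul _ _ (y 38 * y 80)⁻¹, map_mul _ _ (y 38), map_inv]
      convert this using 1
      group)
    exact mem_normalizer_fintype (by rintro _ ⟨t, rfl⟩; exact this.ge (Subgroup.mem_top t))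
  generalize hH : f.range ⊔ centralizer {z} = H
  have l1 : f.range ≤ H := hH ▸ le_sup_left
  have l2 : centralizer {z} ≤ H := hH ▸ le_sup_right
  have cH : ∀ {c}, c * z = z * c → c ∈ H := fun hc => l2 (mem_centralizer_singleton_iff.2 hc)
  have nH : H ≤ normalizer (f.range : Set G) := hH ▸ sup_le le_normalizer nC
  have dec : ∀ k ∈ H, ∃ t c, c * z = z * c ∧ k = f t * c := fun k hk => by
    rw [← hH, ← SetLike.mem_coe, coe_mul_of_right_le_normalizer_left _ _ nC] at hk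
    obtain ⟨_, ⟨t, rfl⟩, c, hc, rfl⟩ := hk
    exact ⟨t, c, mem_centralizer_singleton_iff.1 hc, rfl⟩
  have dz : ∀ k ∈ H, ∃ t, f t * z * (f t)⁻¹ = k * z * k⁻¹ := fun k hk => by
    obtain ⟨t, c, hc, rfl⟩ := dec k hk
    exact ⟨t, by rw [mul_assoc _ c, hc]; group⟩
  have out : ∀ a ∈ H, ∀ b ∈ H, a ∉ f.range → b ∉ f.range → a * b ∈ f.range := fun a ha b hb na nb => by
    obtain ⟨t, c, hc, rfl⟩ := dec a ha
    obtain ⟨s, d, hd, rfl⟩ := dec b hb
    rw [mul_mem_cancel_left (MonoidHom.mem_range.2 ⟨_, rfl⟩)] at na nb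
    simpa [mul_assoc] using mul_mem (mul_mem (⟨t, rfl⟩ : f t ∈ f.range) (conj_mem_of_norm (y := f s) (nH (cH hc)) ⟨s, rfl⟩))
      ((mem _ (comm_mul_left hc hd)).2 (h.mul hc hd ▸ mul_mem_Mb (h.le2 c hc) (h.le2 d hd) (mt (mem c hc).2 na)
        (mt (mem d hd).2 nb)))
  have i2 : f.range.relIndex H ∣ 2 := relIndex_dvd_two_iff.2 (by
    by_cases e : ∃ a ∈ H, a ∉ f.range
    · obtain ⟨a, ha, na⟩ := e
      exact ⟨a, ha, fun b hb => or_iff_not_imp_right.2 fun nb => out b hb a ha nb na⟩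
    · exact ⟨1, one_mem _, fun b hb => Or.inr (not_not.1 fun nb => e ⟨b, hb, nb⟩)⟩)
  have ix : (centralizer {z}).relIndex H = 3968055 := by
    rw [relIndex_eq l1 fun k hk => let ⟨t, ht⟩ := dz k hk; ⟨_, ⟨t, rfl⟩, ht⟩, ← index_comap, ← m.idx]
    congr 1
    ext t
    rw [mem_comap, mem_centralizer_singleton_iff, mem_centralizer_singleton_iff, cm]
  have oz : orderOf z = 2 := orderOf_eq_prime (by rw [sq, h.zz]) h.xs.z_ne
  have iv : ∀ t ∈ H, t * t = 1 → ∃ k ∈ H, k⁻¹ * t * k * z = z * (k⁻¹ * t * k) := fun t ht t2 =>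
    let ⟨k, h1, h2⟩ := odd_conj (S := zpowers t) (ix ▸ by decide) (fun a => ⟨1, Subtype.ext (by
      rcases (mem_zpowers_invol t2).1 a.2 with e | e <;> simp [sq, e, t2])⟩) (zpowers_le.2 ht)
    ⟨k, h1, mem_centralizer_singleton_iff.1 (h2 t (mem_zpowers t))⟩
  have f0 : ∀ t ∈ f.range, IsConj z t → ∃ k ∈ H, k * z * k⁻¹ = t := by
    rintro _ ⟨t, rfl⟩ ht
    obtain ⟨u, hu⟩ := isConj_iff.1 ht
    obtain ⟨g, a, ha⟩ := m.F1 t (by rw [← orderOf_injective f fi, ← hu, ← MulAut.conj_apply, MulEquiv.orderOf_eq, oz])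
    obtain ⟨k, h1, h2⟩ := fus (f g * u) ⟨a, by rw [← hf, ← ha, map_mul, map_mul, map_inv, ← hu]; group⟩
    exact ⟨(f g)⁻¹ * k, l1 (mul_mem (inv_mem ⟨g, rfl⟩) h1), by
      rw [mul_assoc _ k, mul_inv_rev, mul_assoc, ← mul_assoc _ k⁻¹, h2, ← hu]; group⟩
  have cj' : ∀ a b c : G, a⁻¹ * b * a * (a⁻¹ * c * a) = a⁻¹ * (b * c) * a := fun a b c => by group
  have f1 : ∀ t ∈ H, IsConj z t → t ∈ f.range := fun t ht hc => by
    by_contra n
    obtain ⟨u, rfl⟩ := isConj_iff.1 hc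
    obtain ⟨k, h1, h2⟩ := iv _ ht (by rw [conj_mul, h.zz]; simp)
    obtain ⟨c, h3, h4⟩ : ∃ c, c * z = z * c ∧ α c * α (k⁻¹ * (u * z * u⁻¹) * k) * (α c)⁻¹ ∈ T2 := by
      have h5 : α _ * α _ = 1 := (h.mul h2 h2).symm.trans (by
        rw [cj', conj_mul, h.zz]; simpa using h.one)
      obtain ⟨a, h6, h7⟩ := (sylIn_of_card Nat.prime_two T2_le_Mb2 (m := 280665) card_T2 (by rw [card_Mb2]; norm_num)
        (by norm_num)).exists_conj (fun a => ⟨1, Subtype.ext (by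
          rcases (mem_zpowers_invol h5).1 a.2 with e | e <;> simp [sq, e, h5])⟩) (zpowers_le.2 (h.le2 _ h2))
      by_cases e : a ∈ Mb
      · obtain ⟨c, h8, rfl⟩ := h.onto a e
        exact ⟨c, h8, h7 _ (mem_zpowers _)⟩
      · obtain ⟨c, h8, h9⟩ := h.onto _ (mul_mem_Mb h6 (h.le2 _ h2) e (mt (mem _ h2).2 fun e => n (by
          simpa [mul_assoc] using conj_mem_of_norm (nH h1) e)))
        exact ⟨c, h8, by simpa [h9, mul_assoc] using h7 _ (mem_zpowers _)⟩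
    rw [← h.cj h3 h2] at h4
    obtain ⟨w, w1, w2, w3⟩ := h.exists_fix (comm_mul_left (comm_mul_left h3 h2) (comm_inv_left h3)) (by
      rw [conj_mul, cj', conj_mul, h.zz]; simp) h4
    have key : ∀ w : ES, w.v ∈ Sp 20 3 → w ≠ 1 → ∀ v, v = c * k⁻¹ * u → v * z * v⁻¹ * ψ w * (v * z * v⁻¹)⁻¹ = ψ w →
        v⁻¹ * ψ w * v * z = z * (v⁻¹ * ψ w * v) ∧ α (v⁻¹ * ψ w * v) ∉ Mb := fun w a1 a2 v hv a3 => by
      have b1 : v⁻¹ * ψ w * v * z = z * (v⁻¹ * ψ w * v) := by nth_rw 1 [← a3]; group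
      obtain ⟨s, hs⟩ := isConj_iff.1 (m.F3 w a1 a2)
      replace hs : f s * z * (f s)⁻¹ = ψ w := by rw [← fz, ← hf, ← hs]; simp
      refine ⟨b1, fun e => n ?_⟩
      obtain ⟨l, b2, b3⟩ := f0 _ ((mem _ b1).2 e) (isConj_iff.2 ⟨v⁻¹ * f s, by rw [← hs]; group⟩)
      have b4 : (f s)⁻¹ * v * l ∈ H := cH (by
        rw [← mul_inv_eq_iff_eq_mul]
        calc _ = (f s)⁻¹ * v * (l * z * l⁻¹) * v⁻¹ * f s := by group
          _ = _ := by rw [b3, ← hs]; group)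
      rw [mul_mem_cancel_right b2, mul_mem_cancel_left (inv_mem (l1 ⟨s, rfl⟩)), hv,
        mul_mem_cancel_left (mul_mem (cH h3) (inv_mem h1))] at b4
      exact conj_mem_of_norm (nH b4) ⟨_, fz⟩
    have n1 : w ≠ 1 := fun e => w2 (e ▸ rfl)
    have e1 : c * (k⁻¹ * (u * z * u⁻¹) * k) * c⁻¹ = c * k⁻¹ * u * z * (c * k⁻¹ * u)⁻¹ := by group
    have e2 := comm_mul_left (comm_mul_left h3 h2) (comm_inv_left h3)
    rw [e1] at w3 e2
    obtain ⟨a1, a2⟩ := key w w1 n1 _ rfl w3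
    obtain ⟨b1, b2⟩ := key zE (zero_mem _) ESM.z_ne _ rfl (by rw [h.z_eq, e2, mul_inv_cancel_right])
    refine (key (zE * w) (by simpa using w1) (fun e => w2 (by simpa using congrArg ESM.v e)) _ rfl (by
      rw [map_mul, ← conj_mul, w3, h.z_eq, e2, mul_inv_cancel_right])).2 ?_
    rw [map_mul, ← cj', h.mul b1 a1]
    exact mul_mem_Mb (h.le2 _ b1) (h.le2 _ a1) b2 a2
  have hfu := fun t ht hc => f0 t (f1 t ht hc) hc
  have uq := fun t ht => fix_unique l2 hfu (t := t) ht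
  have hm : ∀ x : G, x • ((1 : G) : G ⧸ H) = (1 : G) ↔ x ∈ H := fun x => by
    change ((x * 1 : G) : G ⧸ H) = (1 : G) ↔ _
    rw [QuotientGroup.eq]; simp
  have cf : ∀ {s t}, IsConj s t → IsConj (f s) (f t) := fun h => f.map_isConj h
  have hτ : ∀ a : G ⧸ H, f (y 40 * y 70) • a = a → a = (1 : G) := fun a ha => by
    have t1 := (hm _).2 (l1 ⟨y 40 * y 70, rfl⟩)
    by_contra ne
    have n : ¬ IsConj (y 40) (y 40 * y 70) := fun e => ne (uq _ (fz ▸ cf e) _ _ ha t1)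
    have t2 : f (y 40 * y 70) * f (y 40 * y 70) = 1 := by rw [← map_mul, m.sq70, map_one]
    have t3 : z * f (y 40 * y 70) = f (y 70) := by rw [map_mul, fz, ← mul_assoc, h.zz, one_mul]
    have t4 : z * f (y 40 * y 70) = f (y 40 * y 70) * z :=
      (cm.2 (by rw [mul_assoc, show y 70 * y 40 = _ from (m.al 14 (by omega)).1])).symm
    have kt : ∀ k, k * f (y 40 * y 70) = f (y 40 * y 70) * k → k • ((1 : G) : G ⧸ H) = (1 : G) → ∃ t, k * z * k⁻¹ = f t ∧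
        IsConj (y 40) t ∧ IsConj (y 40) (t * (y 40 * y 70)) ∧ t * (y 40 * y 70) = y 40 * y 70 * t := fun k h1 h2 => by
      obtain ⟨s, hs⟩ := dz k ((hm k).1 h2)
      obtain ⟨u, hu⟩ := isConj_iff.1 m.conj70
      obtain ⟨r, hr⟩ := dz _ (mul_mem ((hm k).1 h2) (l1 ⟨u, rfl⟩))
      have e : k * z * k⁻¹ = f (s * y 40 * s⁻¹) := by simp [← hs, fz]
      refine ⟨_, e, isConj_iff.2 ⟨s, rfl⟩, isConj_iff.2 ⟨r, fi ?_⟩, fi ?_⟩
      · rw [map_mul _ _ (_ * _), ← e, mul_assoc _ k⁻¹, comm_inv_left h1, ← mul_assoc, mul_assoc k, t3, ← hu]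
        simp only [map_mul, map_inv, fz, hr]; group
      · rw [map_mul, map_mul _ (y 40 * y 70), ← e]
        exact comm_mul_left (comm_mul_left h1 t4) (comm_inv_left h1)
    obtain ⟨g, rfl⟩ := QuotientGroup.mk_surjective a
    obtain ⟨k, h1, h2⟩ := iv (g⁻¹ * f (y 40 * y 70) * g) (by
      simpa [mul_assoc] using QuotientGroup.eq.1 (ha.symm : (g : G ⧸ H) = (f (y 40 * y 70) * g : G)))
      (by rw [cj', t2]; simp)
    obtain ⟨S, s1, s2, s3⟩ := m.exists_S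
    obtain ⟨l, a1, a2, a3⟩ := two_fix oz t2 t4 (fun e => n (fi (fz.trans e) ▸ IsConj.refl _)) ((hm z).2 (cH rfl)) t1 uq
      (fun k b1 b2 t b3 b4 b5 b6 => by
        obtain ⟨t, e, c1, c2, c3⟩ := kt k b1 b2
        obtain rfl := b3.trans e
        simpa only [map_mul, fz] using ((m.star c1 c2 c3 (fun e => b4 (e ▸ fz)) (fun e => b5 (by
          rw [fz.symm.trans (congrArg f e.symm), map_mul f t, mul_assoc, t2, mul_one])) (b6.imp (fun e => fi (by simpa [fz] using e))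
            fun e => fi (by simpa [fz] using e))).imp_right (·.resolve_right n)).imp cf cf)
      (g := g * k * z * (g * k)⁻¹) (by
        calc _ = g * k * (z * (k⁻¹ * (g⁻¹ * f (y 40 * y 70) * g) * k)) * (g * k)⁻¹ := by group
          _ = _ := by rw [← h2]; group)
      (fun e => ne (uq _ (isConj_iff.2 ⟨_, rfl⟩) _ _ (QuotientGroup.eq.2 (by
        simpa [mul_assoc] using mul_mem (mul_mem h1 (inv_mem (cH rfl))) (inv_mem h1))) e)) (s1.map f) (by
      rintro _ ⟨s, hs, rfl⟩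
      exact ⟨by rw [← map_mul, s2 s hs, map_mul], (hm _).2 (l1 ⟨s, rfl⟩)⟩)
    obtain ⟨t, e, c1, c2, -⟩ := kt l a1 a2
    exact n (s3 t c1 c2 fun s hs => (e ▸ a3 _ ⟨s, hs, rfl⟩).imp (fun e => fi (by simpa using e))
      fun e => fi (by simpa using e))
  have top : H = ⊤ := by
    refine eq_top_of_primes oz l2 hfu (fun t h1 h2 h3 a b ha hb => ?_) (p := 17) (q := 13) (by norm_num) (by norm_num)
      (by norm_num) (by norm_num) (ix ▸ by norm_num) ?_ fun a ha b hb oa ob hc => ?_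
    · obtain ⟨k, h4, rfl⟩ := hfu t (cH h2.symm) h1
      obtain ⟨s, h5⟩ := dz k h4
      have h6 : k * z * k⁻¹ = f (s * y 40 * s⁻¹) := by simp [← h5, fz]
      rw [h6] at h1 h2 h3 ha hb
      rcases m.cls (isConj_iff.2 ⟨s, rfl⟩) (cm.1 h2.symm).symm with ⟨w, hw⟩ | ⟨c, h7, h8⟩
      · exact uq _ (h1.trans (h.isConj ⟨w, by rw [← hw, hf]⟩ (fun e => h.xs.z_ne (isConj_one_left.1 (e ▸ h1))) h3))
          a b ha hb
      · have k : ∀ a : G ⧸ H, (z * f (s * y 40 * s⁻¹)) • a = a → f c • a = (1 : G) := fun a ha => hτ _ (by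
          rw [← h8, smul_smul, ← map_mul, show y 40 * (c * (s * y 40 * s⁻¹) * c⁻¹) * c = c * (y 40 * (s * y 40 * s⁻¹)) by
            rw [← mul_assoc, ← mul_assoc, ← mul_assoc, ← h7]; group, map_mul, map_mul, mul_smul, fz, ha])
        exact MulAction.injective (f c) ((k a ha).trans (k b hb).symm)
    · have c1 := Grp.card_mul_relIndex l1
      rw [← Nat.card_congr (MonoidHom.ofInjective fi).toEquiv, m.md.card] at c1
      rw [← c1]
      rcases (Nat.dvd_prime Nat.prime_two).1 i2 with e | e <;> rw [e] <;> norm_num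
    · have k : ∀ a ∈ H, ∀ n, (a * a) ^ n = a → a ∈ f.range := fun a ha n e =>
        not_not.1 fun na => na (e ▸ pow_mem (out a ha a ha na na) n)
      obtain ⟨s, rfl⟩ := k a ha 9 (by rw [← sq, ← pow_mul, pow_succ, ← oa, pow_orderOf_eq_one, one_mul])
      obtain ⟨t, rfl⟩ := k b hb 7 (by rw [← sq, ← pow_mul, pow_succ, ← ob, pow_orderOf_eq_one, one_mul])
      rw [orderOf_injective f fi] at oa ob
      exact absurd (oa ▸ orderOf_dvd_of_pow_eq_one (m.md.no221 t s ob (fi (by simpa using hc.eq)))) (by norm_num)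
  subst top
  exact ⟨f, fi, normalizer_eq_top_iff.1 (top_le_iff.1 nH), by simpa using i2, hH, mem⟩

end Cfsg.Agent.E62
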