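import Cfsg.Agent.Chev.BNCount
import Cfsg.Agent.XSC.Gr

/-! Graphs of homomorphisms over the minimal parabolic subgroups of a group with a (B,N)-pair glue
together if the braid relations hold for the double cosets. -/

set_option autoImplicit false

namespace Cfsg.Agent.E62

open Subgroup Cfsg.Agent.Chev Cfsg.Agent.Chev.BN Cfsg.Agent.XSC
open scoped Pointwise

variable {G M ι : Type*} [Group G] [Group M] {P : Cfsg.BNPair M}

/-- graphs over the minimal parabolic subgroups -/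
structure Am (P : Cfsg.BNPair M) (e : ι → P.S) (B : Subgroup (G × M)) (Γ : ι → Subgroup (G × M)) :
    Prop where
  bij : Function.Bijective e
  le : ∀ i, B ≤ Γ i
  gr : ∀ i, Gr (Γ i)
  grB : Gr B
  snd : ∀ γ ∈ B, γ.2 ∈ P.B
  onto : ∀ b ∈ P.B, ∃ γ ∈ B, γ.2 = b
  ex : ∀ i, ∃ ν ∈ Γ i, ν.2 ∈ cell P (gen P (e i))

/-- the lift of a cell -/
def Cl (e : ι → P.S) (Γ : ι → Subgroup (G × M)) (i : ι) : Set (G × M) :=
  {γ | γ ∈ Γ i ∧ γ.2 ∈ cell P (gen P (e i))}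

namespace Am

variable {e : ι → P.S} {B : Subgroup (G × M)} {Γ : ι → Subgroup (G × M)} (h : Am P e B Γ)
include h

theorem mem_B {i : ι} {γ : G × M} (h1 : γ ∈ Γ i) (h2 : γ.2 ∈ P.B) : γ ∈ B := by
  obtain ⟨β, hβ, e⟩ := h.onto _ h2
  exact (h.gr i).eq (h.le i hβ) h1 e ▸ hβ

theorem mul_cl {i : ι} {β γ : G × M} (hβ : β ∈ B) (hγ : γ ∈ Cl e Γ i) : β * γ ∈ Cl e Γ i :=
  ⟨mul_mem (h.le i hβ) hγ.1, mul_mem_cell (h.snd β hβ) hγ.2⟩

theorem cl_mul {i : ι} {β γ : G × M} (hγ : γ ∈ Cl e Γ i) (hβ : β ∈ B) : γ * β ∈ Cl e Γ i :=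
  ⟨mul_mem hγ.1 (h.le i hβ), mem_cell_mul hγ.2 (h.snd β hβ)⟩

theorem exists_cl {i : ι} {ν : G × M} (hν : ν ∈ Cl e Γ i) {g : M} (hg : g ∈ cell P (gen P (e i))) :
    ∃ β ∈ B, ∃ β' ∈ B, (β * ν * β').2 = g := by
  obtain ⟨b, hb, b', hb', rfl⟩ := exists_mul_of_mem_cell hν.2 hg
  obtain ⟨β, h1, rfl⟩ := h.onto b hb
  obtain ⟨β', h2, rfl⟩ := h.onto b' hb'
  exact ⟨β, h1, β', h2, rfl⟩

theorem eq_cl {i : ι} {ν γ : G × M} (hν : ν ∈ Cl e Γ i) (hγ : γ ∈ Cl e Γ i) :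
    ∃ β ∈ B, ∃ β' ∈ B, γ = β * ν * β' := by
  obtain ⟨β, h1, β', h2, e⟩ := h.exists_cl hν hγ.2
  exact ⟨β, h1, β', h2, (h.gr i).eq hγ.1 (h.cl_mul (h.mul_cl h1 hν) h2).1 e.symm⟩

theorem snd_mem {l : List ι} (hl : Reduced (gen P ∘ e) l) {γ : G × M}
    (hγ : γ ∈ wprod (Cl e Γ) l * (B : Set (G × M))) : γ.2 ∈ cell P (wprod (gen P ∘ e) l) := by
  induction l generalizing γ with
  | nil => exact mem_cell_one.2 (h.snd γ (by simpa using hγ))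
  | cons a l ih =>
    rw [wprod_cons, mul_assoc] at hγ
    obtain ⟨x, hx, y, hy, rfl⟩ := hγ
    have h1 := (involGen_comp e h.bij).reduced_tail hl
    refine cell_gen_mul_of_le (w := wprod (gen P ∘ e) l) ?_ hx.2 (ih h1 hy)
    rw [Reduced, wlen_comp_surjective h.bij.2] at hl h1
    rw [h1]
    exact (Nat.le_succ _).trans hl.ge

theorem exists_snd (l : List ι) {g : M} (hg : g ∈ cell P (wprod (gen P ∘ e) l)) :
    ∃ γ ∈ wprod (Cl e Γ) l * (B : Set (G × M)), γ.2 = g := by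
  induction l generalizing g with
  | nil => simpa using h.onto g (mem_cell_one.1 hg)
  | cons a l ih =>
    obtain ⟨x, hx, y, hy, rfl⟩ := exists_mul_of_mem_cell_gen_mul hg
    obtain ⟨ν, h1, h2⟩ := h.ex a
    obtain ⟨β, h3, β', h4, rfl⟩ := h.exists_cl ⟨h1, h2⟩ hx
    obtain ⟨γ, h5, rfl⟩ := ih hy
    rw [wprod_cons, mul_assoc]
    exact ⟨_, Set.mul_mem_mul (h.cl_mul (h.mul_cl h3 ⟨h1, h2⟩) h4) h5, rfl⟩

theorem absorb (a : ι) (l : List ι) :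
    wprod (Cl e Γ) (a :: l) * (B : Set (G × M)) ⊆ wprod (Cl e Γ) (a :: l) := by
  induction l generalizing a with
  | nil =>
    rw [wprod_singleton]
    rintro _ ⟨x, hx, y, hy, rfl⟩
    exact h.cl_mul hx hy
  | cons b l ih =>
    rw [wprod_cons, mul_assoc]
    exact Set.mul_subset_mul_left (ih b)

theorem reduced_alt [Finite M] (a b : ι) :
    Reduced (gen P ∘ e) (alt a b (orderOf (gen P (e a) * gen P (e b)))) := by
  obtain ⟨w, hw⟩ := Finite.exists_max (wlen (gen P ∘ e))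
  obtain ⟨l, h1, h2⟩ := (exchange_comp e h.bij).exists_alt_prefix (involGen_comp e h.bij) (w := w)
    (orderOf (gen P (e a) * gen P (e b))) a b (hw _) (hw _)
    fun j h0 hj => pow_ne_one_of_lt_orderOf h0.ne' hj
  exact ((involGen_comp e h.bij).reduced_append (by rw [Reduced, h1, h2])).1

/-- the braid relation inside a common graph -/
theorem braid_of_le [Finite M] {a b : ι} {Δ : Subgroup (G × M)} (hΔ : Gr Δ) (hB : B ≤ Δ)
    (ha : ∃ ν ∈ Cl e Γ a, ν ∈ Δ) (hb : ∃ ν ∈ Cl e Γ b, ν ∈ Δ) :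
    wprod (Cl e Γ) (alt a b (orderOf (gen P (e a) * gen P (e b)))) ⊆
      wprod (Cl e Γ) (alt b a (orderOf (gen P (e a) * gen P (e b)))) := by
  have k1 : ∀ {c}, (∃ ν ∈ Cl e Γ c, ν ∈ Δ) → Cl e Γ c ⊆ Δ := by
    rintro c ⟨ν, h1, h2⟩ γ hγ
    obtain ⟨β, h3, β', h4, rfl⟩ := h.eq_cl h1 hγ
    exact mul_mem (mul_mem (hB h3) h2) (hB h4)
  have k2 : ∀ k c d, Cl e Γ c ⊆ Δ → Cl e Γ d ⊆ Δ → wprod (Cl e Γ) (alt c d k) ⊆ Δ := by
    intro k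
    induction k with
    | zero => intro c d _ _ γ hγ; exact (Set.mem_one.1 hγ) ▸ one_mem _
    | succ k ih =>
      intro c d hc hd
      rw [alt_succ, wprod_cons]
      rintro _ ⟨x, hx, y, hy, rfl⟩
      exact mul_mem (hc hx) (ih d c hd hc hy)
  intro γ hγ
  have h1 := h.snd_mem (h.reduced_alt a b) (Set.mul_mem_mul hγ B.one_mem)
  rw [mul_one, (wprod_alt_eq_iff (gen P ∘ e) (fun i => gen_sq _) (orderOf (gen P (e a) * gen P (e b)))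
    a b).2 (pow_orderOf_eq_one _)] at h1
  obtain ⟨γ', h2, h3⟩ := h.exists_snd _ h1
  obtain ⟨k, hk⟩ := Nat.exists_eq_succ_of_ne_zero (orderOf_pos (gen P (e a) * gen P (e b))).ne'
  rw [hk] at h2 hγ ⊢
  have h4 : γ' ∈ wprod (Cl e Γ) (alt b a k.succ) := h.absorb _ _ h2
  exact hΔ.eq (k2 _ _ _ (k1 hb) (k1 ha) h4) (k2 _ _ _ (k1 ha) (k1 hb) hγ) h3 ▸ h4

theorem step {a : ι} {ν x : G × M} (hν : ν ∈ Cl e Γ a) (hx : x ∈ B)
    (H : ∀ b ∈ P.B, ν.2 * b * ν.2⁻¹ ∈ P.B ∨ ν.2 * (b * x.2⁻¹) * ν.2⁻¹ ∈ P.B) {β : G × M} (hβ : β ∈ B) :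
    ∃ β' ∈ B, ∃ y, (y = 1 ∨ y = x) ∧ ν * β = β' * ν * y := by
  rcases H _ (h.snd β hβ) with e | e
  · exact ⟨ν * β * ν⁻¹, h.mem_B (mul_mem (mul_mem hν.1 (h.le a hβ)) (inv_mem hν.1)) e, 1, Or.inl rfl,
      by group⟩
  · exact ⟨ν * (β * x⁻¹) * ν⁻¹, h.mem_B (mul_mem (mul_mem hν.1 (h.le a (mul_mem hβ (inv_mem hx))))
      (inv_mem hν.1)) e, x, Or.inr rfl, by group⟩

/-- a braid relation of length three over the field with two elements -/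
theorem braid3 {a b : ι} {ν μ x y : G × M} (hν : ν ∈ Cl e Γ a) (hμ : μ ∈ Cl e Γ b) (hx : x ∈ B)
    (hy : y ∈ B)
    (Ha : ∀ b ∈ P.B, ν.2 * b * ν.2⁻¹ ∈ P.B ∨ ν.2 * (b * x.2⁻¹) * ν.2⁻¹ ∈ P.B)
    (Hb : ∀ b ∈ P.B, μ.2 * b * μ.2⁻¹ ∈ P.B ∨ μ.2 * (b * y.2⁻¹) * μ.2⁻¹ ∈ P.B)
    (h1 : μ.2⁻¹ * x.2 * μ.2 ∈ P.B) (h2 : ν.2⁻¹ * y.2 * ν.2 ∈ P.B)
    (h3 : ν.2⁻¹ * (μ.2⁻¹ * x.2 * μ.2) * ν.2 ∈ P.B) (hbr : ν * μ * ν = μ * ν * μ) :
    wprod (Cl e Γ) (alt a b 3) ⊆ wprod (Cl e Γ) (alt b a 3) := by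
  have k1 : μ⁻¹ * x * μ ∈ B := h.mem_B (mul_mem (mul_mem (inv_mem hμ.1) (h.le b hx)) hμ.1) h1
  have k2 : ν⁻¹ * y * ν ∈ B := h.mem_B (mul_mem (mul_mem (inv_mem hν.1) (h.le a hy)) hν.1) h2
  have k3 : ν⁻¹ * (μ⁻¹ * x * μ) * ν ∈ B :=
    h.mem_B (mul_mem (mul_mem (inv_mem hν.1) (h.le a k1)) hν.1) h3
  simp only [alt_succ, alt_zero, wprod_cons, wprod_nil, mul_one]
  rintro _ ⟨γ1, g1, _, ⟨γ2, g2, γ3, g3, rfl⟩, rfl⟩
  obtain ⟨β1, b1, β2, b2, rfl⟩ := h.eq_cl hν g1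
  obtain ⟨β3, b3, β4, b4, rfl⟩ := h.eq_cl hμ g2
  obtain ⟨β5, b5, β6, b6, rfl⟩ := h.eq_cl hν g3
  obtain ⟨β7, b7, v, hv, e1⟩ := h.step hμ hy Hb (mul_mem b4 b5)
  obtain ⟨β8, b8, u, hu, e2⟩ := h.step hν hx Ha (mul_mem (mul_mem b2 b3) b7)
  have hu' : ν⁻¹ * (μ⁻¹ * u * μ) * ν ∈ B := by rcases hu with rfl | rfl; simp; exact k3
  have hv' : ν⁻¹ * v * ν ∈ B := by rcases hv with rfl | rfl; simp; exact k2
  refine ⟨_, h.mul_cl (mul_mem b1 b8) hμ, _, ⟨_, hν, _, h.cl_mul hμ (mul_mem (mul_mem hu' hv') b6), rfl⟩,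
    ?_⟩
  calc _ = β1 * β8 * (μ * ν * μ) * (ν⁻¹ * (μ⁻¹ * u * μ) * ν * (ν⁻¹ * v * ν) * β6) := by
        simp only [mul_assoc]
    _ = β1 * (β8 * ν * u) * μ * v * ν * β6 := by rw [← hbr]; group
    _ = β1 * ν * β2 * β3 * (β7 * μ * v) * ν * β6 := by rw [← e2]; group
    _ = _ := by rw [← e1]; simp only [mul_assoc]

theorem exists_hom [Finite G] [Finite M]
    (hbr : ∀ a b, a ≠ b → wprod (Cl e Γ) (alt a b (orderOf (gen P (e a) * gen P (e b)))) ⊆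
      wprod (Cl e Γ) (alt b a (orderOf (gen P (e a) * gen P (e b))))) :
    ∃ f : M →* G, (∀ γ ∈ B, f γ.2 = γ.1) ∧ ∀ i, ∀ γ ∈ Cl e Γ i, f γ.2 = γ.1 := by
  have hi := involGen_comp e h.bij
  have hx := exchange_comp e h.bij
  have ma := hx.matsumoto hi (Cl e Γ) fun a b _ => by
    by_cases hab : a = b
    · rw [hab]
    · refine (hbr a b hab).antisymm ?_
      have := hbr b a (Ne.symm hab)
      rwa [show orderOf (gen P (e b) * gen P (e a)) = orderOf (gen P (e a) * gen P (e b)) by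
        rw [← orderOf_inv, mul_inv_rev, involGen.inv_eq, involGen.inv_eq]] at this
  let S : Set (G × M) := {γ | ∃ l, Reduced (gen P ∘ e) l ∧ γ ∈ wprod (Cl e Γ) l * (B : Set (G × M))}
  have kB : ∀ β ∈ B, ∀ l, ∀ γ ∈ wprod (Cl e Γ) l * (B : Set (G × M)),
      β * γ ∈ wprod (Cl e Γ) l * (B : Set (G × M)) := fun β hβ l γ hγ => by
    cases l with
    | nil => simpa using mul_mem hβ (show γ ∈ B by simpa using hγ)
    | cons a l =>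
      rw [wprod_cons, mul_assoc] at hγ ⊢
      obtain ⟨x, hx, y, hy, rfl⟩ := hγ
      exact ⟨_, h.mul_cl hβ hx, y, hy, mul_assoc _ _ _⟩
  have kC : ∀ i, ∀ ν ∈ Cl e Γ i, ∀ γ ∈ S, ν * γ ∈ S := by
    rintro i ν hν γ ⟨l, hl, hγ⟩
    rcases hx.wlen_simple_mul hi i (wprod (gen P ∘ e) l) with e1 | e1
    · exact ⟨i :: l, by rw [Reduced, wprod_cons, e1, hl]; rfl, by
        rw [wprod_cons, mul_assoc]; exact Set.mul_mem_mul hν hγ⟩
    · obtain ⟨l', h1, h2⟩ := hx.exists_reduced_cons hi (w := wprod (gen P ∘ e) l) (i := i) (by omega)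
      have h3 : Reduced (gen P ∘ e) (i :: l') := by rw [Reduced, h1, h2]
      rw [ma l (i :: l') hl h1 (h2.trans hl), wprod_cons, mul_assoc] at hγ
      obtain ⟨x, hx, y, hy, rfl⟩ := hγ
      rw [← mul_assoc]
      rcases cell_gen_mul hν.2 hx.2 with h4 | h4
      · rw [gen_sq] at h4
        exact ⟨l', hi.reduced_tail h3, kB _ (h.mem_B (mul_mem hν.1 hx.1) (mem_cell_one.1 h4)) _ _ hy⟩
      · exact ⟨i :: l', h3, by
          rw [wprod_cons, mul_assoc]; exact Set.mul_mem_mul ⟨mul_mem hν.1 hx.1, h4⟩ hy⟩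
  let Δ := closure ((B : Set (G × M)) ∪ ⋃ i, Cl e Γ i)
  have kS : ∀ γ ∈ Δ, γ ∈ S := fun γ hγ => by
    have h1 : ∀ x ∈ (B : Set (G × M)) ∪ ⋃ i, Cl e Γ i, ∀ γ ∈ S, x * γ ∈ S := by
      rintro x (hx | hx) γ hγ
      · obtain ⟨l, hl, hγ⟩ := hγ
        exact ⟨l, hl, kB x hx l γ hγ⟩
      · obtain ⟨i, hx⟩ := Set.mem_iUnion.1 hx
        exact kC i x hx γ hγ
    induction hγ using closure_induction_left with
    | one => exact ⟨[], wlen_one _, by simpa using B.one_mem⟩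
    | mul_left x hx y _ ih => exact h1 x hx y ih
    | inv_mul_cancel x hx y _ ih =>
      refine h1 _ ?_ y ih
      rcases hx with hx | hx
      · exact Or.inl (inv_mem hx)
      · obtain ⟨i, hx⟩ := Set.mem_iUnion.1 hx
        exact Or.inr (Set.mem_iUnion.2 ⟨i, inv_mem hx.1, by
          simpa [involGen.inv_eq] using inv_mem_cell hx.2⟩)
  have hG : Gr Δ := fun γ hγ e1 => by
    obtain ⟨l, hl, h1⟩ := kS γ hγ
    have h2 := h.snd_mem hl h1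
    rw [e1] at h2
    rw [Reduced, cell_unique h2 (mem_cell_one.2 P.B.one_mem), wlen_one] at hl
    rw [List.length_eq_zero_iff.1 hl.symm] at h1
    exact h.grB γ (by simpa using h1) e1
  have hw : ∀ l, wprod (Cl e Γ) l ⊆ Δ := fun l => by
    induction l with
    | nil => exact fun γ hγ => (Set.mem_one.1 hγ) ▸ one_mem _
    | cons a l ih =>
      rw [wprod_cons]
      rintro _ ⟨x, hx, y, hy, rfl⟩
      exact mul_mem (subset_closure (Or.inr (Set.mem_iUnion.2 ⟨a, hx⟩))) (ih hy)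
  obtain ⟨f, hf⟩ := hG.exists_hom (MonoidHom.id M) fun g => by
    obtain ⟨w, hw'⟩ := exists_cell (P := P) g
    obtain ⟨l, rfl⟩ := hi.exists_word w
    obtain ⟨_, ⟨x, hx, y, hy, rfl⟩, e1⟩ := h.exists_snd l hw'
    exact ⟨_, mul_mem (hw l hx) (subset_closure (Or.inl hy)), e1⟩
  have k : ∀ γ ∈ Δ, f γ.2 = γ.1 := fun γ hγ => congrArg Prod.fst (hG.eq (hf γ.2) hγ rfl)
  exact ⟨f, fun γ hγ => k γ (subset_closure (Or.inl hγ)), fun i γ hγ =>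
    k γ (subset_closure (Or.inr (Set.mem_iUnion.2 ⟨i, hγ⟩)))⟩

end Am

end Cfsg.Agent.E62
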