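import Cfsg.Agent.Comp.BitGrp

/-! The group `U₆(2)` (and `U₆(2).2`) acting on `Q/⟨z⟩ = 2^20`, in the root basis of `²E₆(2)`. -/

set_option autoImplicit false

namespace Cfsg.Agent.E62

open Cfsg.Agent.Comp Cfsg.Agent.Comp.BM Cfsg.Agent.WG

/-- the module -/
abbrev V : Type := BM.V 20
/-- the general linear group -/
abbrev L : Type := (EV 20)ˣ

def R : ℕ := nat_lit 2462627735819477471478834772908959182061088422696729859886664622502584576226632519972005200658167352298026533126145
def I : ℕ := nat_lit 1291125554700094681454528120150733151374004819596536383975174637135793331478721023188113305127324549703733114332013133825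

/-- Letters (all involutions, letter `2k` and `2k+1` agree): `k = 0..5` unipotent radical of the Borel
subgroup of `L₃(4)`, `6..14` the group `2^9`, `15..18` negative simple root elements, `19` the graph
automorphism. -/
def LL : Lts := [[(2, 2), (3, 2), (6, 14), (7, 48), (8, 16), (13, 4096), (14, 6144), (16, 32768), (17, 32768), (18, 229376)],
  [(2, 2), (3, 2), (6, 14), (7, 48), (8, 16), (13, 4096), (14, 6144), (16, 32768), (17, 32768), (18, 229376)],
  [(3, 2), (6, 6), (7, 16), (8, 32), (13, 2048), (14, 4096), (17, 32768), (18, 98304)],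
  [(3, 2), (6, 6), (7, 16), (8, 32), (13, 2048), (14, 4096), (17, 32768), (18, 98304)],
  [(4, 8), (5, 12), (7, 64), (8, 64), (9, 448), (11, 1024), (12, 1024), (15, 7168), (16, 24576), (17, 8192)],
  [(4, 8), (5, 12), (7, 64), (8, 64), (9, 448), (11, 1024), (12, 1024), (15, 7168), (16, 24576), (17, 8192)],
  [(4, 4), (5, 8), (8, 64), (9, 192), (12, 1024), (15, 3072), (16, 8192), (17, 16384)],
  [(4, 4), (5, 8), (8, 64), (9, 192), (12, 1024), (15, 3072), (16, 8192), (17, 16384)],
  [(4, 2), (7, 8), (8, 4), (9, 34), (13, 1024), (16, 4096), (17, 2048), (18, 17408)],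
  [(4, 2), (7, 8), (8, 4), (9, 34), (13, 1024), (16, 4096), (17, 2048), (18, 17408)],
  [(5, 2), (7, 4), (8, 12), (9, 18), (14, 1024), (16, 2048), (17, 6144), (18, 9216)],
  [(5, 2), (7, 4), (8, 12), (9, 18), (14, 1024), (16, 2048), (17, 6144), (18, 9216)],
  [(1, 1), (10, 64), (11, 128), (12, 256), (15, 512), (19, 262144)],
  [(1, 1), (10, 64), (11, 128), (12, 256), (15, 512), (19, 262144)],
  [(2, 1), (10, 9), (11, 32), (12, 48), (13, 384), (14, 128), (16, 512), (19, 131584)],
  [(2, 1), (10, 9), (11, 32), (12, 48), (13, 384), (14, 128), (16, 512), (19, 131584)],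
  [(3, 1), (10, 5), (11, 16), (12, 32), (13, 128), (14, 256), (17, 512), (19, 66048)],
  [(3, 1), (10, 5), (11, 16), (12, 32), (13, 128), (14, 256), (17, 512), (19, 66048)],
  [(4, 1), (11, 8), (12, 4), (13, 64), (15, 33), (16, 256), (17, 128), (19, 16448)],
  [(4, 1), (11, 8), (12, 4), (13, 64), (15, 33), (16, 256), (17, 128), (19, 16448)],
  [(5, 1), (11, 4), (12, 12), (14, 64), (15, 17), (16, 128), (17, 384), (19, 8256)],
  [(5, 1), (11, 4), (12, 12), (14, 64), (15, 17), (16, 128), (17, 384), (19, 8256)],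
  [(6, 1), (10, 2), (13, 16), (14, 32), (18, 512), (19, 32768)],
  [(6, 1), (10, 2), (13, 16), (14, 32), (18, 512), (19, 32768)],
  [(7, 1), (11, 2), (13, 12), (14, 4), (16, 32), (17, 48), (18, 257), (19, 4098)],
  [(7, 1), (11, 2), (13, 12), (14, 4), (16, 32), (17, 48), (18, 257), (19, 4098)],
  [(8, 1), (12, 2), (13, 4), (14, 8), (16, 16), (17, 32), (18, 129), (19, 2050)],
  [(8, 1), (12, 2), (13, 4), (14, 8), (16, 16), (17, 32), (18, 129), (19, 2050)],
  [(9, 1), (15, 2), (16, 4), (17, 8), (18, 64), (19, 1024)],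
  [(9, 1), (15, 2), (16, 4), (17, 8), (18, 64), (19, 1024)],
  [(0, 2), (6, 1024), (7, 2048), (8, 4096), (9, 32768), (18, 524288)],
  [(0, 2), (6, 1024), (7, 2048), (8, 4096), (9, 32768), (18, 524288)],
  [(1, 68), (3, 64), (4, 128), (5, 256), (11, 8192), (12, 16384), (15, 327680), (17, 262144)],
  [(1, 68), (3, 64), (4, 128), (5, 256), (11, 8192), (12, 16384), (15, 327680), (17, 262144)],
  [(1, 72), (2, 64), (4, 384), (5, 128), (11, 16384), (12, 24576), (15, 393216), (16, 262144)],
  [(1, 72), (2, 64), (4, 384), (5, 128), (11, 16384), (12, 24576), (15, 393216), (16, 262144)],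
  [(2, 16), (3, 32), (6, 640), (8, 512), (10, 34816), (12, 32768), (13, 65536), (14, 131072)],
  [(2, 16), (3, 32), (6, 640), (8, 512), (10, 34816), (12, 32768), (13, 65536), (14, 131072)],
  [(3, 4), (5, 16), (8, 128), (12, 2048), (14, 8192), (17, 65536)],
  [(3, 4), (5, 16), (8, 128), (12, 2048), (14, 8192), (17, 65536)]]

theorem ok : okL 20 R I LL = true := by decide +kernel

/-- the letters -/
noncomputable def x : ℕ → L := lu ok
/-- the oracle -/
noncomputable def Q : List ℕ → List ℕ → Bool := eqB 20 R I LL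

theorem wd : Wd x Q := wd_lu ok

/-- `U₆(2)` -/
noncomputable def Mb : Subgroup L := cl x [[0], [2], [4], [6], [8], [10], [12], [14], [16], [18], [20], [22], [24], [26], [28], [30], [32], [34], [36]]
/-- `U₆(2).2` -/
noncomputable def Mb2 : Subgroup L := cl x [[0], [2], [4], [6], [8], [10], [12], [14], [16], [18], [20], [22], [24], [26], [28], [30], [32], [34], [36], [38]]

instance : Finite (EV 20) := Finite.of_injective (fun f : EV 20 => (f : V → V)) DFunLike.coe_injective

end Cfsg.Agent.E62
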