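import Cfsg.Agent.E62.Rho

/-! The graph of an isomorphism between the normalisers of the four-groups `⟨z, s⟩`. -/

set_option autoImplicit false

namespace Cfsg.Agent.E62

open Cfsg.Agent.Comp Cfsg.Agent.Comp.BM Cfsg.Agent.WG Subgroup Cfsg.Agent.TT Cfsg.Agent.XSC

variable {G M : Type*} [Group G] [Group M] [Finite G] [Finite M] {z : G} {ψ : ES →* G} {α : G → L}
  {z0 : M} {ψ0 : ES →* M} {α0 : M → L}

/-- pairs inducing the same automorphism -/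
def NN (ψ : ES →* G) (ψ0 : ES →* M) : Subgroup (G × M) := normalizer ((ψ.prod ψ0).range : Set (G × M))

theorem mem_NN {γ : G × M} : γ ∈ NN ψ ψ0 ↔ ∀ e, ∃ e', γ.1 * ψ e * γ.1⁻¹ = ψ e' ∧ γ.2 * ψ0 e * γ.2⁻¹ = ψ0 e' :=
  ⟨fun h e => let ⟨e', he⟩ := conj_mem_of_norm h ⟨e, rfl⟩
    ⟨e', congrArg Prod.fst he.symm, congrArg Prod.snd he.symm⟩,
  fun h => mem_normalizer_fintype (by
    rintro _ ⟨e, rfl⟩
    obtain ⟨e', h1, h2⟩ := h e
    exact ⟨e', (Prod.ext h1 h2).symm⟩)⟩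

theorem d_mem (e : ES) : ψ.prod ψ0 e ∈ NN ψ ψ0 := le_normalizer ⟨e, rfl⟩

omit [Finite G] in
theorem Pre.kappa (h : Pre z ψ α) {c : G} (hc : c * z = z * c) :
    ∃ κ : ES →* ES, κ zE = zE ∧ ∀ e, c * ψ e * c⁻¹ = ψ (κ e) ∧ (κ e).v = (α c).1 e.v := by
  choose κ h1 h2 using h.act c hc
  exact ⟨MonoidHom.mk' κ fun a b => h.inj (by rw [map_mul, ← h1, ← h1, ← h1, map_mul, conj_mul]),
    h.inj (by change ψ (κ _) = _; rw [← h1, h.z_eq, hc, mul_inv_cancel_right]), fun e => ⟨h1 e, h2 e⟩⟩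

omit [Finite G] in
theorem Pre.comm_of_norm (h : Pre z ψ α) {c : G} (hc : ∀ e, c * ψ e * c⁻¹ ∈ ψ.range) [Finite G] :
    c * z = z * c := by
  have := h.xs.map_conj c
  rw [show ψ.range.map (MulAut.conj c).toMonoidHom = ψ.range from mem_normalizer_iff_map_conj_eq.1
    (mem_normalizer_fintype (by rintro _ ⟨e, rfl⟩; exact hc e))] at this
  exact mul_inv_eq_iff_eq_mul.1 (this.unique h.xs)

section
variable (h : St z ψ α) (h0 : St z0 ψ0 α0)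
include h h0

omit h0 in
theorem NN_z {γ : G × M} (hγ : γ ∈ NN ψ ψ0) : γ.1 * z = z * γ.1 :=
  h.comm_of_norm fun e => let ⟨e', h1, _⟩ := mem_NN.1 hγ e; ⟨e', h1.symm⟩

omit h in
theorem NN_z0 {γ : G × M} (hγ : γ ∈ NN ψ ψ0) : γ.2 * z0 = z0 * γ.2 :=
  h0.comm_of_norm fun e => let ⟨e', _, h1⟩ := mem_NN.1 hγ e; ⟨e', h1.symm⟩

theorem NN_α {γ : G × M} (hγ : γ ∈ NN ψ ψ0) : α γ.1 = α0 γ.2 :=
  Units.ext (LinearMap.ext fun v => by
    obtain ⟨e, h1, h2⟩ := mem_NN.1 hγ ⟨v, 0⟩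
    exact (h.act_v (NN_z h hγ) h1).symm.trans (h0.act_v (NN_z0 h0 hγ) h2))

theorem NN_lift {c : G} {m : M} (hc : c * z = z * c) (hm : m * z0 = z0 * m) (e : α c = α0 m) :
    ∃ f, (ψ f * c, m) ∈ NN ψ ψ0 := by
  obtain ⟨κ, k1, k2⟩ := h.kappa (comm_inv_left hc)
  obtain ⟨κ0, k3, k4⟩ := h0.kappa hm
  obtain ⟨f, -, hf⟩ := xs0.exists_inner (κ0.comp κ) (by rw [MonoidHom.comp_apply, k1, k3]) fun a _ =>
    ESM.eq_or_of_v_eq (by
      rw [MonoidHom.comp_apply, (k4 _).2, (k2 _).2, h.inv hc, ← e]; simp [← Module.End.mul_apply])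
  refine ⟨f, mem_NN.2 fun a => ⟨κ0 a, ?_, (k4 a).1⟩⟩
  obtain ⟨b, h1, -⟩ := h.act c hc a
  have : κ b = a := h.inj (by rw [← (k2 b).1, ← h1]; group)
  rw [← this, show κ0 (κ b) = _ from hf b trivial, this, map_mul, map_mul, map_inv, ← h1]
  simp [mul_assoc]

theorem NN_ker {c : G} (hc : (c, 1) ∈ NN ψ ψ0) : c = 1 ∨ c = z := by
  have k : ∀ a ∈ ψ.range, a * c = c * a := by
    rintro _ ⟨e, rfl⟩
    obtain ⟨e', h1, h2⟩ := mem_NN.1 hc e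
    obtain rfl : e = e' := h0.inj (by simpa using h2)
    exact (mul_inv_eq_iff_eq_mul.1 h1).symm
  exact h.xs.cent c (h.lx.cent_mem c k) fun a ha => (k a ha).symm

theorem NN_ker0 {c : M} (hc : (1, c) ∈ NN ψ ψ0) : c = 1 ∨ c = z0 := by
  have k : ∀ a ∈ ψ0.range, a * c = c * a := by
    rintro _ ⟨e, rfl⟩
    obtain ⟨e', h1, h2⟩ := mem_NN.1 hc e
    obtain rfl : e = e' := h.inj (by simpa using h1)
    exact (mul_inv_eq_iff_eq_mul.1 h2).symm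
  exact h0.xs.cent c (h0.lx.cent_mem c k) fun a ha => (k a ha).symm

omit h0 in
theorem z_mem_NN : (z, 1) ∈ NN ψ ψ0 :=
  mem_NN.2 fun e => ⟨e, by rw [← h.comm, mul_inv_cancel_right], by simp⟩

theorem NN_onto {m : M} (hm : m * z0 = z0 * m) (h1 : α0 m ∈ Mb) : ∃ c, (c, m) ∈ NN ψ ψ0 := by
  obtain ⟨c, hc, e⟩ := h.onto _ h1
  obtain ⟨f, hf⟩ := NN_lift h h0 hc hm e
  exact ⟨_, hf⟩

end

theorem SS_pres : (∀ g ∈ SS, ∀ v ∈ SP, g.1 v ∈ SP) ∧ (∀ g ∈ SS, ∀ v ∈ W0, g.1 v ∈ W0) ∧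
    ∀ g ∈ SS, ∀ v ∈ Sp 20 1, g.1 v = v := by
  have k : ∀ m (hm : sb m m = true), flB 20 R I LL m m ss = true → ∀ g ∈ SS, ∀ v ∈ Sp 20 m, g.1 v ∈ Sp 20 m :=
    fun m hm e g hg v hv => by simpa [add_assoc, vv] using add_mem ((cl_le_Fl ok (hm := hm) e hg).1 v hv) hv
  refine ⟨k _ (by decide +kernel) (by decide +kernel), k _ (by decide +kernel) (by decide +kernel),
    fun g hg v hv => ?_⟩
  rcases eq_of_mem_Sp_one hv with rfl | rfl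
  · simp
  · exact cl_le_Fx ok (by norm_num) (ws := ss) (by decide +kernel) hg

theorem inV_of_Sp {e : ES} (h : e.v ∈ Sp 20 1) : InV zE (eE 0) e := by
  rcases eq_of_mem_Sp_one h with h | h
  · exact (ESM.v_eq_zero_iff.1 h).imp_right Or.inl
  · exact Or.inr (Or.inr ((ESM.eq_or_of_v_eq (y := eE 0) h).imp_right fun e => e.trans (ESM.z_comm _)))

theorem InV.mem_Sp {e : ES} (h : InV zE (eE 0) e) : e.v ∈ Sp 20 1 := by
  have : ee 0 ∈ Sp 20 1 := vec_mem_Sp (by decide +kernel)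
  rcases h with rfl | rfl | rfl | rfl
  exacts [zero_mem _, zero_mem _, this, by simpa using this]

theorem comm_inV {e w : ES} (he : e.v ∈ SP) (hw : w.v ∈ Sp 20 1) : e * w = w * e := by
  have : eE 0 * e = e * eE 0 := (comm_iff (a := eE 0)).2 ((B0_e0 _).trans (mem_SP.1 he))
  exact (inV_of_Sp hw).comm (ESM.z_comm e) this.symm

section
variable {P : Subgroup G} (h : Pr z ψ α P) (h0 : St z0 ψ0 α0) {ρ : G} {ρ0 : M} (r1 : Rho z ψ ρ)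
  (r0 : Rho z0 ψ0 ρ0)
include h h0 r1 r0

omit [Finite G] [Finite M] in
theorem rho_V {w : ES} (hw : InV zE (eE 0) w) :
    ∃ w', InV zE (eE 0) w' ∧ (ρ, ρ0) * ψ.prod ψ0 w * (ρ, ρ0)⁻¹ = ψ.prod ψ0 w' := by
  rcases hw with rfl | rfl | rfl | rfl
  · exact ⟨1, Or.inl rfl, by simp⟩
  · exact ⟨_, Or.inr (Or.inr (Or.inl rfl)), Prod.ext (by simpa [h.z_eq] using r1.z_eq)
      (by simpa [h0.z_eq] using r0.z_eq)⟩
  · exact ⟨_, Or.inr (Or.inr (Or.inr rfl)), Prod.ext (by simpa [h.z_eq, h.comm] using r1.s_eq)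
      (by simpa [h0.z_eq, h0.comm] using r0.s_eq)⟩
  · exact ⟨_, Or.inr (Or.inl rfl), Prod.ext (by simpa [h.z_eq, h.comm] using r1.sz_eq h.toPre)
      (by simpa [h0.z_eq, h0.comm] using r0.sz_eq h0.toPre)⟩

theorem rho_norm {r : G × M} (hr : r ∈ zpowers (ρ, ρ0)) :
    r ∈ normalizer (((hat (Sp 20 1)).map (ψ.prod ψ0) : Subgroup _) : Set (G × M)) ∧
      r ∈ normalizer (((hat W0).map (ψ.prod ψ0) : Subgroup _) : Set (G × M)) := by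
  refine (zpowers_le.2 (mem_inf.2 ⟨mem_normalizer_fintype ?_, mem_normalizer_fintype ?_⟩) : _ ≤ _ ⊓ _) hr
  · rintro _ ⟨e, he, rfl⟩
    obtain ⟨w, h1, h2⟩ := rho_V h h0 r1 r0 (inV_of_Sp he)
    exact ⟨w, InV.mem_Sp h1, h2.symm⟩
  · rintro _ ⟨e, he, rfl⟩
    obtain ⟨ε, h3, w, hw, rfl⟩ := W0_dec he
    obtain ⟨w', h1, h2⟩ := rho_V h h0 r1 r0 hw
    refine ⟨w' * ε, add_mem (Sp_mono (by decide +kernel) (InV.mem_Sp h1)) (le_W0 h3.1), ?_⟩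
    rw [map_mul, map_mul, ← h2, ← conj_mul,
      show (ρ, ρ0) * ψ.prod ψ0 ε = ψ.prod ψ0 ε * (ρ, ρ0) from Prod.ext (r1.comm ε h3) (r0.comm ε h3),
      mul_inv_cancel_right]

theorem conj_mem_NN (le1 : ∀ m, m * z0 = z0 * m → α0 m ∈ Mb)
    (hS : ∀ g ∈ SS, ∃ γ ∈ NN ψ ψ0, γ * (ρ, ρ0) = (ρ, ρ0) * γ ∧ α γ.1 = g)
    {r : G × M} (hr : r ∈ zpowers (ρ, ρ0)) {e : ES} (he : e.v ∈ SP) :
    r * ψ.prod ψ0 e * r⁻¹ ∈ NN ψ ψ0 := by
  obtain ⟨n1, n2⟩ := rho_norm h h0 r1 r0 hr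
  let Rel : V → V → Prop := fun u w => ∃ e y : ES, e.v = u ∧ y.v = w ∧
    r * ψ.prod ψ0 e * r⁻¹ * (ψ y, 1) ∈ NN ψ ψ0
  have k0 : ∀ e : ES, e.v ∈ W0 → r * ψ.prod ψ0 e * r⁻¹ ∈ NN ψ ψ0 := fun e he => by
    obtain ⟨f, -, hf⟩ := conj_mem_of_norm n2 ⟨e, he, rfl⟩
    exact hf ▸ d_mem f
  have add : ∀ u w u' w', w ∈ W0 → Rel u w → Rel u' w' → ∃ w'' ∈ Sp 20 1, Rel (u + u') (w + w'' + w') ∧
      (w ∈ Sp 20 1 → u' ∈ SP → w'' = 0) := by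
    rintro _ _ _ _ hw ⟨e, y, rfl, rfl, p⟩ ⟨e', y', rfl, rfl, q⟩
    have key : ∀ w : ES, r.1 * (ψ e')⁻¹ * (r.1⁻¹ * ψ y * r.1) * ψ e' * r.1⁻¹ = ψ (y * w) →
        Rel (e.v + e'.v) (y.v + w.v + y'.v) := fun w e1 => by
      refine ⟨e * e', y * w * y', rfl, rfl, ?_⟩
      convert mul_mem p q using 1
      rw [map_mul ψ, ← e1]
      ext <;> simp [mul_assoc]
    by_cases c : y.v ∈ Sp 20 1 ∧ e'.v ∈ SP
    · obtain ⟨f, hf, e1⟩ := conj_mem_of_norm' n1 ⟨y, c.1, rfl⟩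
      have e2 : ψ f = r.1⁻¹ * ψ y * r.1 := congrArg Prod.fst e1
      exact ⟨0, zero_mem _, key 1 (by
        rw [← e2, mul_assoc _ (ψ f), ← map_mul, ← comm_inV c.2 hf, map_mul, e2]; simp [mul_assoc]), fun _ _ => rfl⟩
    obtain ⟨f, -, e1⟩ := conj_mem_of_norm' n2 ⟨y, hw, rfl⟩
    have e2 : ψ f = r.1⁻¹ * ψ y * r.1 := congrArg Prod.fst e1
    rcases h.xs.conj (inv_mem ⟨e', rfl⟩) ⟨f, rfl⟩ with e3 | e3
    · exact ⟨0, zero_mem _, key 1 (by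
        rw [← e2, mul_assoc r.1, mul_assoc r.1, ← inv_inv (ψ e'), inv_inv (ψ e')⁻¹, e3, e2]; simp [mul_assoc]),
        fun _ _ => rfl⟩
    · obtain ⟨w, h1, e4⟩ := conj_mem_of_norm n1 ⟨zE, (Sp 20 1).zero_mem, rfl⟩
      have e5 : ψ w = r.1 * ψ zE * r.1⁻¹ := congrArg Prod.fst e4
      exact ⟨w.v, h1, key w (by
        rw [← e2, mul_assoc r.1, mul_assoc r.1, ← inv_inv (ψ e'), inv_inv (ψ e')⁻¹, e3, e2, map_mul, e5, h.z_eq]
        simp [mul_assoc]), fun a b => absurd ⟨a, b⟩ c⟩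
  have eqv : ∀ g ∈ SS, ∀ u w, Rel u w → Rel (g.1 u) (g.1 w) := by
    rintro g hg _ _ ⟨e, y, rfl, rfl, p⟩
    obtain ⟨γ, g1, g2, rfl⟩ := hS g hg
    obtain ⟨e', e1, e2⟩ := mem_NN.1 g1 e
    obtain ⟨y', e3, e4⟩ := h.act _ (NN_z h.toSt g1) y
    refine ⟨e', y', h.act_v (NN_z h.toSt g1) e1, e4, ?_⟩
    obtain ⟨k, rfl⟩ := hr
    have e5 := (Commute.zpow_right g2 k).eq
    convert mul_mem (mul_mem g1 p) (inv_mem g1) using 1
    rw [show ψ.prod ψ0 e' = γ * ψ.prod ψ0 e * γ⁻¹ from (Prod.ext e1 e2).symm,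
      show ((ψ y', 1) : G × M) = γ * (ψ y, 1) * γ⁻¹ from Prod.ext e3.symm (by simp), ← mul_assoc, ← mul_assoc,
      ← mul_assoc, ← mul_assoc, ← e5, mul_assoc _ γ⁻¹, ← mul_inv_rev, ← e5]
    group
  have fin := hom0 (Rl := fun u w => u ∈ SP ∧ w ∈ W0 ∧ ∃ w' ∈ Sp 20 1, Rel u (w + w')) (by
      rintro u w u' w' ⟨a1, a2, a, a3, a4⟩ ⟨b1, b2, b, b3, b4⟩
      obtain ⟨c, c1, c2, -⟩ := add _ _ _ _ (add_mem a2 (Sp_mono (by decide +kernel) a3)) a4 b4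
      exact ⟨add_mem a1 b1, add_mem a2 b2, a + c + b, add_mem (add_mem a3 c1) b3, by convert c2 using 1; abel⟩)
    (by
      rintro g hg u w ⟨a1, a2, a, a3, a4⟩
      exact ⟨SS_pres.1 g hg u a1, SS_pres.2.1 g hg w a2, a, a3, by
        simpa only [map_add, SS_pres.2.2 g hg a a3] using eqv g hg _ _ a4⟩)
    (fun u hu => ⟨W0_le_SP hu, zero_mem _, 0, zero_mem _, ⟨u, 0⟩, 1, rfl, by simp, by
      simpa only [map_one, Prod.mk_one_one, mul_one] using k0 ⟨u, 0⟩ hu⟩)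
    (fun w hw => ⟨zero_mem _, Sp_mono (by decide +kernel) hw, w, hw, 1, 1, rfl, (vv w).symm, by
      simp only [map_one, Prod.mk_one_one, mul_one, mul_inv_cancel, one_mem]⟩)
    (fun u hu => by
      obtain ⟨w, h1, e1⟩ := conj_mem_of_norm' n1 ⟨zE, (Sp 20 1).zero_mem, rfl⟩
      have e2 : ψ0 w = r.2⁻¹ * ψ0 zE * r.2 := congrArg Prod.snd e1
      have hm : r.2 * ψ0 ⟨u, 0⟩ * r.2⁻¹ * z0 = z0 * (r.2 * ψ0 ⟨u, 0⟩ * r.2⁻¹) := by
        calc _ = r.2 * (ψ0 ⟨u, 0⟩ * ψ0 w) * r.2⁻¹ := by rw [e2, h0.z_eq]; group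
          _ = _ := by rw [← map_mul, comm_inV (e := ⟨u, 0⟩) hu h1, map_mul, e2, h0.z_eq]; group
      obtain ⟨c, hc⟩ := NN_onto h.toSt h0 hm (le1 _ hm)
      obtain ⟨y, y1, y2⟩ := h.cent_E (c := (r.1 * ψ ⟨u, 0⟩ * r.1⁻¹)⁻¹ * c) fun f hf => by
        obtain ⟨f1, a1, a2⟩ := mem_NN.1 hc f
        obtain ⟨f2, -, a3⟩ := conj_mem_of_norm (mul_mem (mul_mem n2 (show ψ.prod ψ0 ⟨u, 0⟩ ∈ _ from
          mem_normalizer_fintype (by
            rintro _ ⟨a, ha, rfl⟩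
            exact ⟨⟨u, 0⟩ * a * (⟨u, 0⟩ : ES)⁻¹, show ESM.v _ ∈ W0 by simpa using (show a.v ∈ W0 from ha), by simp⟩))) (inv_mem n2))
          ⟨f, hf, rfl⟩
        obtain rfl : f2 = f1 := h0.inj ((congrArg Prod.snd a3).trans a2)
        have a4 : ψ f2 = r.1 * ψ ⟨u, 0⟩ * r.1⁻¹ * ψ f * (r.1 * ψ ⟨u, 0⟩ * r.1⁻¹)⁻¹ := congrArg Prod.fst a3
        rw [mul_assoc, mul_inv_eq_iff_eq_mul.1 a1, a4]; group
      refine ⟨y.v, y1, hu, y1, 0, zero_mem _, ⟨u, 0⟩, y, rfl, by simp, ?_⟩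
      convert hc using 1
      ext <;> simp [← y2, mul_assoc])
    (by
      rintro w ⟨-, -, a, a1, e, y, a2, a3, a4⟩
      have := mul_mem (inv_mem (k0 e (a2 ▸ zero_mem _))) a4
      rw [inv_mul_cancel_left] at this
      have a5 : y.v = 0 := ESM.v_eq_zero_iff.2 ((NN_ker h.toSt h0 this).imp (fun e => h.inj (by simpa using e))
        fun e => h.inj (e.trans h.z_eq.symm))
      rwa [eq_neg_of_add_eq_zero_left (a3.symm.trans a5), neg_mem_iff])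
  let K := (NN ψ ψ0).comap ((MulAut.conj r).toMonoidHom.comp (ψ.prod ψ0))
  have hz : zE ∈ K := k0 zE (zero_mem _)
  refine (mem_im (hz := hz)).1 (SP_le' (fun v hv => k0 ⟨v, 0⟩ hv) (fun a ha v hv => ?_) he)
  obtain ⟨-, -, w, a1, a2⟩ := fin v hv
  rw [zero_add] at a2
  have a3 := eqv a ha _ _ a2
  rw [SS_pres.2.2 a ha w a1] at a3
  obtain ⟨_, -, ⟨f, y, b1, b2, b3⟩, b4⟩ := add _ _ _ _ (Sp_mono (by decide +kernel) a1) a3 a2
  rw [b4 a1 hv, add_zero, vv] at b2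
  rw [← b1, mem_im]
  rcases ESM.v_eq_zero_iff.1 b2 with rfl | rfl
  · rwa [map_one, Prod.mk_one_one, mul_one] at b3
  · have := mul_mem b3 (inv_mem (z_mem_NN h.toSt))
    rwa [h.z_eq, mul_inv_cancel_right] at this

end

/-- elements centralising `⟨q, ρ⟩` -/
structure Gd (z0 : M) (ψ0 : ES →* M) (ρ0 m : M) : Prop where
  z : m * z0 = z0 * m
  r : m * ρ0 = ρ0 * m
  q : m * ψ0 (eE 19) = ψ0 (eE 19) * m
  e : ∀ e ∈ EE, ∃ e' ∈ EE, m⁻¹ * ψ0 e * m = ψ0 e'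

theorem exists_GV {P : Subgroup G} (h : Pr z ψ α P) (h0 : St z0 ψ0 α0) {ρ0 : M} (r0 : Rho z0 ψ0 ρ0)
    (le1 : ∀ m, m * z0 = z0 * m → α0 m ∈ Mb) (hS : ∀ u ∈ ss, ∃ m, Gd z0 ψ0 ρ0 m ∧ α0 m = el x u) :
    ∃ (ρ : G) (Γ : Subgroup (G × M)), Gr Γ ∧ (∀ e, ψ.prod ψ0 e ∈ Γ) ∧ (ρ, ρ0) ∈ Γ ∧
      NN ψ ψ0 ⊓ centralizer {(ρ, ρ0)} ≤ Γ ∧
      (∀ e : ES, e.v ∈ SP → (ρ, ρ0) * ψ.prod ψ0 e * (ρ, ρ0)⁻¹ ∈ NN ψ ψ0) ∧
      (∀ e : ES, e.v ∈ W0 → (ρ, ρ0) * ψ.prod ψ0 e * (ρ, ρ0)⁻¹ ∈ (ψ.prod ψ0).range) ∧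
      ∀ m, Gd z0 ψ0 ρ0 m → ∃ γ ∈ NN ψ ψ0 ⊓ centralizer {(ρ, ρ0)}, γ.2 = m := by
  obtain ⟨ρ, r1, hρ⟩ := h.exists_rho
  have lift : ∀ m, Gd z0 ψ0 ρ0 m → ∃ γ ∈ NN ψ ψ0 ⊓ centralizer {(ρ, ρ0)}, γ.2 = m := fun m g => by
    obtain ⟨c, hc⟩ := NN_onto h.toSt h0 g.z (le1 _ g.z)
    have k : ∀ e, m * ψ0 e = ψ0 e * m → c * ψ e = ψ e * c := fun e he => by
      obtain ⟨f, a1, a2⟩ := mem_NN.1 hc e
      obtain rfl : e = f := h0.inj (by rw [← a2, he, mul_inv_cancel_right])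
      exact mul_inv_eq_iff_eq_mul.1 a1
    rcases hρ c (NN_z h.toSt hc) (k _ (r0.z_eq ▸ Commute.mul_right (Commute.mul_right g.r g.z)
      (Commute.inv_right g.r))) (k _ g.q) (fun e he => by
        obtain ⟨f, a1, a2⟩ := mem_NN.1 (inv_mem hc) e
        obtain ⟨f', a3, a4⟩ := g.e e he
        obtain rfl : f' = f := h0.inj (a4.symm.trans (by simpa using a2))
        exact ⟨_, a3, by simpa using a1⟩) with e | e
    · exact ⟨_, ⟨hc, mem_centralizer_singleton_iff.2 (Prod.ext e g.r)⟩, rfl⟩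
    · exact ⟨_, ⟨mul_mem (z_mem_NN h.toSt) hc, mem_centralizer_singleton_iff.2
        (Prod.ext e (by simpa using g.r))⟩, one_mul m⟩
  have hS' : ∀ g ∈ SS, ∃ γ ∈ NN ψ ψ0, γ * (ρ, ρ0) = (ρ, ρ0) * γ ∧ α γ.1 = g := fun g hg => by
    induction hg using closure_induction with
    | mem g hg =>
      obtain ⟨u, hu, rfl⟩ := hg
      obtain ⟨m, a1, a2⟩ := hS u hu
      obtain ⟨γ, b1, rfl⟩ := lift m a1
      exact ⟨γ, b1.1, mem_centralizer_singleton_iff.1 b1.2, (NN_α h.toSt h0 b1.1).trans a2⟩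
    | one => exact ⟨1, one_mem _, by simp, h.one⟩
    | mul _ _ _ _ p q =>
      obtain ⟨a, a1, a2, rfl⟩ := p
      obtain ⟨b, b1, b2, rfl⟩ := q
      exact ⟨a * b, mul_mem a1 b1, comm_mul_left a2 b2, h.mul (NN_z h.toSt a1) (NN_z h.toSt b1)⟩
    | inv _ _ p =>
      obtain ⟨a, a1, a2, rfl⟩ := p
      exact ⟨a⁻¹, inv_mem a1, comm_inv_left a2, h.inv (NN_z h.toSt a1)⟩
  have main := fun {r} hr {e} => conj_mem_NN h h0 r1 r0 le1 hS' (r := r) hr (e := e)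
  let K : Subgroup (G × M) :=
    { carrier := {γ | ∀ r ∈ zpowers (ρ, ρ0), r * γ * r⁻¹ ∈ NN ψ ψ0}
      one_mem' := fun r _ => by simp
      mul_mem' := fun ha hb r hr => by rw [← conj_mul]; exact mul_mem (ha r hr) (hb r hr)
      inv_mem' := fun ha r hr => by rw [← conj_inv]; exact inv_mem (ha r hr) }
  have qr : ψ.prod ψ0 (eE 19) * (ρ, ρ0) * (ψ.prod ψ0 (eE 19))⁻¹ = (ρ, ρ0)⁻¹ := Prod.ext r1.inv r0.inv
  have q2 : ψ.prod ψ0 (eE 19) * ψ.prod ψ0 (eE 19) = 1 := sq_e _ 19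
  have c3 : (ρ, ρ0) ^ 3 = 1 := Prod.ext r1.cube r0.cube
  have qN := d_mem (ψ := ψ) (ψ0 := ψ0) (eE 19)
  have hq : (ψ.prod ψ0 (eE 19)).2 = ψ0 (eE 19) := rfl
  have hK : ∀ e : ES, e.v ∈ SP → ψ.prod ψ0 e ∈ K := fun e he r hr => main hr he
  have he : ∀ e : ES, e.v ∈ SP ∨ (eE 19 * e).v ∈ SP := fun e => by
    rw [mem_SP, mem_SP, ESM.mul_v, Pi.add_apply]
    exact (zmod_two_cases _).imp_right fun h => by rw [h]; decide
  have n1 : (ρ, ρ0) ∈ normalizer (K : Set (G × M)) := mem_normalizer_fintype fun γ hγ r hr => by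
    simpa only [mul_assoc, mul_inv_rev] using hγ _ (mul_mem hr (mem_zpowers _))
  have n2 : ψ.prod ψ0 (eE 19) ∈ normalizer (K : Set (G × M)) := mem_normalizer_fintype fun γ hγ r hr => by
    obtain ⟨k, rfl⟩ := hr
    have := conj_mem_of_norm (le_normalizer qN) (hγ _ (zpow_mem (inv_mem (mem_zpowers _)) k))
    rw [← qr, conj_zpow] at this
    convert this using 1
    simp only [mul_inv_rev, inv_inv, ← mul_assoc, q2, one_mul, inv_eq_of_mul_eq_one_right q2]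
    simp only [mul_assoc, q2, mul_one]
  generalize hq' : ψ.prod ψ0 (eE 19) = q at *
  rw [inv_eq_of_mul_eq_one_right q2] at qr
  have b2 : q * (ρ, ρ0) * (q * (ρ, ρ0)) = 1 := by rw [← mul_assoc, qr, inv_mul_cancel]
  have qq : ∀ w, q * (q * w) = w := fun w => by rw [← mul_assoc, q2, one_mul]
  have m1 : q ∈ K ⊔ closure {q, q * (ρ, ρ0)} := mem_sup_right (subset_closure (Or.inl rfl))
  refine ⟨ρ, K ⊔ closure {q, q * (ρ, ρ0)}, fun γ hγ e => ?_, fun e => ?_, ?_, fun γ hγ => mem_sup_left fun r hr => ?_,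
    fun e => main (mem_zpowers _), fun e he => ?_, lift⟩
  · rw [← SetLike.mem_coe, coe_mul_of_right_le_normalizer_left _ _ ((closure_le _).2
      (Set.insert_subset n2 (Set.singleton_subset_iff.2 (mul_mem n2 n1))))] at hγ
    obtain ⟨k, hk, w, hw, rfl⟩ := hγ
    dsimp only at e ⊢
    have w2 : w.2 = k.2⁻¹ := eq_inv_of_mul_eq_one_right e
    have a1 : w.2 * z0 * w.2⁻¹ = z0 := by
      rw [w2, comm_inv_left (NN_z0 h0 (by simpa using hk 1 (one_mem _))), mul_inv_cancel_right]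
    have a2 : w.2 * ψ0 (eE 0) * w.2⁻¹ = ψ0 (eE 0) := by
      have := NN_z0 h0 (hk _ (inv_mem (mem_zpowers _)))
      simp only [Prod.snd_mul, Prod.snd_inv, inv_inv] at this
      rw [w2, ← r0.z_eq]
      calc _ = k.2⁻¹ * ρ0 * (z0 * (ρ0⁻¹ * k.2 * ρ0)) * ρ0⁻¹ := by group
        _ = _ := by rw [← this]; group
    have s1 : ψ0 (eE 0) ≠ z0 := fun e =>
      absurd (congrFun (congrArg ESM.v (h0.inj (e.trans h0.z_eq.symm))) 0) (by decide)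
    have s2 : ψ0 (eE 0) * z0 ≠ z0 := fun e =>
      absurd (congrFun (congrArg ESM.v (h0.inj ((mul_eq_right.1 e).trans (map_one _).symm))) 0) (by decide)
    have qz : q.2 * z0 * q.2⁻¹ = z0 := by rw [hq, h0.comm, mul_inv_cancel_right]
    have qs := hq ▸ h0.q_s
    rcases mem_closure_braid q2 b2 (by
      rw [qq, mul_assoc _ q, qq, ← mul_left_cancel_iff (a := q), ← mul_assoc, qr, mul_assoc, qq,
        inv_eq_iff_mul_eq_one, ← c3, pow_three]) hw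
      with rfl | rfl | rfl | rfl | rfl | rfl
    · rw [mul_one] at e ⊢
      obtain ⟨c, m⟩ := k
      obtain rfl : m = 1 := e
      rcases NN_ker h.toSt h0 (by simpa using hk 1 (one_mem _)) with rfl | rfl
      · rfl
      · have := hk _ (mem_zpowers _)
        simp only [Prod.mk_mul_mk, Prod.inv_mk, mul_one, mul_inv_cancel, r1.z_eq] at this
        exact ((NN_ker h.toSt h0 this).elim h.pair.hP.z_ne h.pair.ne).elim
    · exact absurd (mul_eq_left.1 (qs.symm.trans a2)) h0.xs.z_ne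
    · exact (s2 (Eq.trans (by rw [← qs, ← r0.z_eq]; simp [mul_assoc]) a1)).elim
    · exact (s1 (r0.z_eq.symm.trans (by rwa [qq] at a1))).elim
    · exact (s2 (Eq.trans (by rw [← qs, ← r0.z_eq]; nth_rw 1 [← qz]; simp [mul_assoc]) a1)).elim
    · exact (s1 (Eq.trans (by rw [← r0.z_eq, qq]; nth_rw 1 [← qz]; simp [mul_assoc]) a1)).elim
  · rcases he e with e1 | e1
    · exact mem_sup_left (hK e e1)
    · have := mul_mem m1 (mem_sup_left (hK _ e1))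
      rwa [map_mul, hq', qq] at this
  · simpa only [qq] using mul_mem m1 (mem_sup_right (subset_closure (Or.inr rfl)))
  · obtain ⟨k, rfl⟩ := hr
    rw [← (Commute.zpow_right (mem_centralizer_singleton_iff.1 hγ.2) k).eq, mul_inv_cancel_right]
    exact hγ.1
  · obtain ⟨f, -, hf⟩ := conj_mem_of_norm (rho_norm h h0 r1 r0 (mem_zpowers _)).2 ⟨e, he, rfl⟩
    exact ⟨f, hf⟩

end Cfsg.Agent.E62
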