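import Cfsg.Agent.E62.Mod
import Cfsg.Agent.Comp.BitSp
import Cfsg.Agent.WG.Tree
import Cfsg.Agent.TT.XS

/-! The Sylow 2-subgroup of `U₆(2).2` and its unique elementary abelian subgroup of order `2^9`. -/

set_option autoImplicit false

namespace Cfsg.Agent.E62

open Cfsg.Agent.Comp Cfsg.Agent.Comp.BM Cfsg.Agent.WG Subgroup

def ts : List (List ℕ) := [[38], [0], [2], [4], [6], [8], [10]]
def as : List (List ℕ) := [[12], [14], [16], [18], [20], [22], [24], [26], [28]]
def ms : List (List ℕ) := [[0], [2], [4], [6], [8], [10], [12], [14], [16], [18], [20], [22], [24], [26], [28], [30], [32], [34], [36]]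

/-- the group `2^9` -/
noncomputable def AA : Subgroup L := cl x as
/-- the Sylow 2-subgroup of `U₆(2).2` -/
noncomputable def T2 : Subgroup L := cl x (ts ++ as)
/-- the Sylow 2-subgroup of `U₆(2)` -/
noncomputable def T1 : Subgroup L := cl x ((ts ++ as).drop 1)

theorem vw (u : List ℕ) (v : ℕ) : vec 20 (wo R LL u v) = (el x u).1 (vec 20 v) := vec_wo ok (by norm_num) u v

theorem pc : Pc x 2 (ts ++ as) :=
  ⟨wd.ser_of (es := [(0, [0, 2, 0, 8, 0, 32, 0, 0, 256, 0, 1024, 0, 0, 8192, 0, 0]),
    (0, [1, 0, 0, 8, 24, 0, 0, 1216, 1024, 1024, 6144, 2048, 0, 0, 0, 0]),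
    (0, [0, 0, 0, 12, 8, 0, 0, 576, 512, 0, 1024, 2048, 0, 0, 0, 0]),
    (0, [1, 2, 6, 0, 0, 0, 0, 0, 128, 192, 0, 0, 3584, 2048, 2048, 0]),
    (0, [0, 3, 2, 0, 0, 0, 0, 0, 32, 64, 0, 0, 1536, 1024, 0, 0]),
    (0, [1, 0, 0, 0, 0, 0, 0, 528, 256, 128, 0, 512, 0, 0, 0, 0]),
    (0, [0, 0, 0, 0, 0, 0, 0, 272, 192, 128, 256, 0, 0, 0, 0, 0]),
    (0, [0, 19, 18, 0, 0, 132, 136, 0, 0, 0, 0, 0, 0, 0, 0, 0]),
    (0, [1, 8, 8, 4, 2, 32, 48, 0, 0, 0, 0, 0, 0, 0, 0, 0]),
    (0, [0, 4, 0, 3, 2, 8, 16, 0, 0, 0, 0, 0, 0, 0, 0, 0]),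
    (0, [1, 12, 4, 0, 0, 0, 16, 0, 0, 0, 0, 0, 0, 0, 0, 0]),
    (0, [0, 2, 4, 0, 0, 8, 0, 0, 0, 0, 0, 0, 0, 0, 0, 0]),
    (0, [0, 0, 0, 7, 6, 0, 0, 0, 0, 0, 0, 0, 0, 0, 0, 0]),
    (0, [1, 0, 0, 2, 2, 0, 0, 0, 0, 0, 0, 0, 0, 0, 0, 0]),
    (0, [0, 0, 0, 1, 0, 0, 0, 0, 0, 0, 0, 0, 0, 0, 0, 0]),
    (0, [0, 0, 0, 0, 0, 0, 0, 0, 0, 0, 0, 0, 0, 0, 0, 0])]) (by decide +kernel),
   str_of_strB ok (fs := [(15, 3, 8), (7, 1, 4), (15, 1, 8), (31, 7, 16), (31, 3, 16), (31, 1, 16), (63, 1, 32), (3, 0, 2), (7, 0, 4), (15, 0, 8), (31, 0, 16), (63, 0, 32), (127, 0, 64), (255, 0, 128), (511, 0, 256), (1023, 0, 512)]) (by decide +kernel)⟩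

theorem card_T2 : Nat.card T2 = 2 ^ 16 := pc.card Nat.prime_two wd
theorem card_T1 : Nat.card T1 = 2 ^ 15 := (pc.drop 1).card Nat.prime_two wd
theorem card_AA : Nat.card AA = 2 ^ 9 := (pc.drop 7).card Nat.prime_two wd
theorem AA_le_T1 : AA ≤ T1 := cl_le_of_subsetL (by decide +kernel)
theorem T1_le_T2 : T1 ≤ T2 := cl_drop_le _ 1
theorem T1_le_Mb : T1 ≤ Mb := cl_le_of_subsetL (by decide +kernel)
theorem AA_le_Mb : AA ≤ Mb := AA_le_T1.trans T1_le_Mb
theorem T2_le_Mb2 : T2 ≤ Mb2 := cl_le_of_subsetL (by decide +kernel)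
theorem Mb_le_Mb2 : Mb ≤ Mb2 := cl_le_of_subsetL (by decide +kernel)
theorem AA_comm : ∀ a ∈ AA, ∀ b ∈ AA, Commute a b := wd.commute_of_comB (by decide +kernel)
theorem T2_norm : T2 ≤ normalizer (AA : Set L) := pc.ser.nrm 7
theorem x_sq (a : ℕ) : x (2 * a) * x (2 * a) = 1 := by
  by_cases h : a < 20
  · simpa using wd.eq ((allLT_iff _ _).1 (show allLT 20 (fun a => Q [2 * a, 2 * a] []) = true by
      decide +kernel) a h)
  · have : x (2 * a) = 1 := Units.ext (by
      change lm 20 LL (2 * a) = 1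
      rw [lm, getL_eq, List.getD_eq_default _ _ (by change 40 ≤ _; omega), lin_nil, add_zero])
    rw [this, mul_one]

theorem AA_sq {a : L} (h : a ∈ AA) : a * a = 1 := by
  induction h using closure_induction with
  | mem a ha =>
    obtain ⟨u, hu, rfl⟩ := ha
    simpa using wd.eq ((allL_iff _ _).1 (show allL as (fun u => Q (appendR u u) []) = true by
      decide +kernel) u hu)
  | one => simp
  | mul a b ha hb h1 h2 => rw [mul_assoc, ← mul_assoc b, ← (AA_comm a ha b hb).eq, mul_assoc a, h2, mul_one, h1]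
  | inv a _ h => rw [← mul_inv_rev, h, inv_one]

theorem sig_norm : x 38 ∈ normalizer (Mb : Set L) := by
  have : cl x [[38]] ≤ normalizer (cl x ms : Set L) := le_normalizer_cl fun g hg u hu => by
    obtain ⟨v, hv⟩ := exists_of_forall₂ (forall₂_of_all2 (show all2 (fun u v => and' (inK 524287 v)
      (Q (cjW [38] u) v)) ms [[0, 2], [2], [4, 6], [6], [8, 10], [10], [12], [14, 16], [16], [18, 20], [20], [22], [24, 26], [26], [28], [30], [32], [32, 34], [36]] = true by decide +kernel)) hu
    rw [and'_eq_true] at hv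
    rw [List.mem_singleton.1 hg, ← wd.el_cjW, wd.eq hv.2]
    exact (wd.kn_of_mem (K := 524287) le_rfl (by decide +kernel)).word hv.1
  have h := this (el_mem_cl List.mem_cons_self)
  rwa [el_cons, el_nil, mul_one] at h

theorem kn_Mb : Kn x Mb 524287 := wd.kn_of_mem (ws := ms) le_rfl (by decide +kernel)

theorem mem_Mb2 {g : L} (hg : g ∈ Mb2) : g ∈ Mb ∨ x 38 * g ∈ Mb := by
  have s : x 38 * x 38 = 1 := x_sq 19
  have k : ∀ a, a ∈ Mb ∨ a = x 38 → ∀ g, g ∈ Mb ∨ x 38 * g ∈ Mb → a * g ∈ Mb ∨ x 38 * (a * g) ∈ Mb := by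
    rintro a (ha | rfl) g (hg | hg)
    · exact Or.inl (mul_mem ha hg)
    · exact Or.inr (by simpa [mul_assoc] using mul_mem (conj_mem_of_norm sig_norm ha) hg)
    · exact Or.inr (by rwa [← mul_assoc, s, one_mul])
    · exact Or.inl hg
  have k2 : ∀ a ∈ {g | ∃ u ∈ ms ++ [[38]], el x u = g}, a ∈ Mb ∨ a = x 38 := by
    rintro _ ⟨u, hu, rfl⟩
    rcases List.mem_append.1 hu with hu | hu
    · exact Or.inl (el_mem_cl hu)
    · exact Or.inr (by simp [List.mem_singleton.1 hu])
  induction hg using closure_induction_left with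
  | one => exact Or.inl (one_mem _)
  | mul_left a ha y _ ih => exact k a (k2 a ha) y ih
  | inv_mul_cancel a ha y _ ih =>
    refine k _ ((k2 a ha).imp inv_mem ?_) y ih
    rintro rfl
    exact inv_eq_of_mul_eq_one_right s

theorem mul_mem_Mb {a b : L} (ha : a ∈ Mb2) (hb : b ∈ Mb2) (na : a ∉ Mb) (nb : b ∉ Mb) : a * b ∈ Mb := by
  have := mul_mem (conj_mem_of_norm' sig_norm ((mem_Mb2 ha).resolve_left na)) ((mem_Mb2 hb).resolve_left nb)
  rwa [show (x 38)⁻¹ * (x 38 * a) * x 38 * (x 38 * b) = a * (x 38 * x 38) * b by group, x_sq 19, mul_one] at this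

theorem sig_mem : x 38 ∈ T2 := by
  have h : el x [38] ∈ T2 := el_mem_cl (by decide)
  rwa [el_cons, el_nil, mul_one] at h

theorem sig_not_mem : x 38 ∉ Mb := fun h => by
  have h1 : T2 ≤ Mb := cl_le_iff.2 (List.forall_mem_cons.2 ⟨by rwa [el_cons, el_nil, mul_one],
    cl_le_iff.1 T1_le_Mb⟩)
  have h2 := card_dvd_of_le h1
  rw [card_T2, card_Mb] at h2
  omega

theorem card_Mb2 : Nat.card Mb2 = 2 * 9196830720 :=
  card_Mb ▸ TT.card_eq_two_mul_of_mul_mem Mb_le_Mb2 (T2_le_Mb2 sig_mem) sig_not_mem fun _ ha na =>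
    mul_mem_Mb ha (T2_le_Mb2 sig_mem) na sig_not_mem

theorem exists_nf_app {ts as : List (List ℕ)} {P : Subgroup L} (hs : Ser x 2 P (ts ++ as))
    (hP : cl x (ts ++ as) ≤ P) {y : L} (hy : y ∈ cl x (ts ++ as)) :
    ∃ j < 2 ^ ts.length, ∃ a ∈ cl x as, y = el x (nfW 2 ts j) * a := by
  induction ts generalizing y with
  | nil => exact ⟨0, by simp, y, hy, by simp [nfW]⟩
  | cons c l ih =>
    obtain ⟨j, hj, z, hz, rfl⟩ := wd.exists_pw two_pos hs (hP (el_mem_cl List.mem_cons_self)) hy
    obtain ⟨e, he, a, ha, rfl⟩ := ih hs.2.2 ((cl_le_cons c _).trans hP) hz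
    refine ⟨j + 2 * e, by rw [List.length_cons, pow_succ]; omega, a, ha, ?_⟩
    rw [nfW_cons, el_appendR, Nat.add_mul_mod_self_left, Nat.mod_eq_of_lt hj,
      Nat.add_mul_div_left _ _ two_pos, Nat.div_eq_of_lt hj, zero_add, mul_assoc]

def NU : ℕ := nat_lit 0x7fd193fed95fc001ffc06fcad2ff6d4ffb50fc757bcb53bf755bd2d1beed6bc002bfc04bf990bc597dc003dfc05dc991df596dd352def54dfad0dc6d79ded39e2d59df519e3569dd929e1949fc009c0077f2b37eea57e3217ff367e9f27f5e47d8707c4673ea733f6653f3f13efe63e1223fd343d8b03c4a75e2235fe355ebb15f7a65f1725ed645d8f05c4e71fee31e2f51ff611e3761fda21e1b41dc301c027ec003eec05ed291efe96ed952ef554eebd0ec7d7ada93af695ac001aec06ad3d2affd4ae950ac557cd153cfd55cdbd1cf7d6cc002cec04cea90cc6978cfd38e3d58cd518e1568ce928e2948ec008c0076e3236ef356f1b16fda66fa726f6646c8f06c4e72fbb32f7a52e1212ed362f2f22fee42c8702c4674f3734ff654f9f14f5e64e2224ee344c8b04c4a70efe30e3f50ed610e1760eea20e2b40cc300c027f5a53f6e55f49d1f7dd6f4002f7404f7390f4797b4003b7405b5b91b6f96b4a52b7e54b71d0b45d7d4b93d7f9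5d4001d7406d59d2d6dd4d7250d4657955d3961d59565196256957929639497400940077797376d6576af177ee67632277734750b0744a7361233753537ab136ea636b7237f64350f0344e7569b357da5562215763657bf256fe45507054467175e3161f51766116276177a2163b41543014027e4bf3e6fe5e5b71e7f66e53b2e77a4e6320e4737a51f3a75e5a4971a6d66a59b2a7da4a6120a4537c5af3c7ee5c5271c7666c4ab2c6ea4c6220c4637844e3860f58446186076844a2860b48643084027668d366cd56785167c5667092674946400064407270d3274d52685126c562789227c942400024407478d347cd547051474564689246c944400044407064d3060d5064510605606492060940440004007f9573fad65f8461fbc76f8e72fb664fbf60f8777b8fb3bb7a5b96b1baea6b84a2bbcb4bbda0b85b7d84e3dbcf5d8df1db5e6d97f2dafe4dbee0d86f799a339a22599b319a326999329a1249b830980277b6637ae757a7717bf667ad627b57479c70784673aea33b6b53b7a13afb63a5b23bda439cb0384a75a6f35bee55afe15b7f65b5e25adf459cf0584e71ba331a2251bb311a3261b9321a1241983018027e84e3eacf5e96f1ebee6e9df2eb5e4eafe0e87f7a9e73ab665a8461aac76a9772abf64aad60a8577c95b3cbda5c9fb1cb7a6c84a2cacb4caea0c86b788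b338a325889318a12688a328a2248a830880276a7f36afe56b5e16bdf66bee26b6f468cf0684e72bf632b7752a5712ad662b6622be7428c70284674b7a34bfb54bda14b5b64a6b24aea448cb0484a70ab330a3250a9310a1260aa320a2240883008027f1eb3f2ea5f0db1f3da6f04a2f34b4f37a0f07b7b04e3b34f5b1ff1b2fe6b0ef2b3ee4b35e0b05f7d0f73d3f65d0461d3476d1d72d2d64d3660d0677911339212591231922269133292324930309002773da372db572ea173eb6727b2737a4714b0704a7325f3335e533ee132ef632fe233ff4314f0304e752d6353d75526715366653f6252f7451470504671313312125132311222613332123241103010027e0f13e2f15e1f11e3f16e1712e3714e2710e0717a1513a3515a0d11a2d16a1d12a3d14a2510a0517c1e13c3e15c1611c3616c0e12c2e14c2610c0617800038200580001820068000282004820008000762c0362c0563c0163c0663402634046040060407234032340522c0122c0623c0223c04204002040743c0343c05434014340642c0242c044040040407020030200502001020060200202004000000000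
def R5 : ℕ := nat_lit 0x10000100001000010000100001000010000100001000010000100001000010000100001000010000100001000010000100001000010000100001000010000100001000010000100001000010000100001000010000100001000010000100001000010000100001000010000100001000010000100001000010000100001000010000100001000010000100001000010000100001000010000100001000010000100001000010000100001000010000100001000010000100001000010000100001000010000100001000010000100001000010000100001000010000100001000010000100001000010000100001000010000100001000010000100001000010000100001000010000100001000010000100001000010000100001000010000100001000010000100001000010000100001000010000100001000010000100001000010000100001000010000100001000010000100001000010000100001000010000100001000010000100001000010000100001000010000100001000010000100001000010000100001000010000100001000010000100001000010000100001000010000100001000010000100001000010000100001000010000100001000010000100001000010000100001000010000100001000010000100001000010000100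001000010000100001000010000100001000010000100001000010000100001000010000100001000010000100001000010000100001000010000100001000010000100001000010000100001000010000100001000010000100001000010000100001000010000100001000010000100001000010000100001000010000100001000010000100001000010000100001000010000100001000010000100001000010000100001000010000100001000010000100001000010000100001000010000100001000010000100001000010000100001000010000100001000010000100001000010000100001000010000100001000010000100001000010000100001000010000100001000010000100001000010000100001000010000100001000010000100001000010000100001000010000100001000010000100001000010000100001000010000100001000010000100001000010000100001000010000100001000010000100001000010000100001000010000100001000010000100001000010000100001000010000100001000010000100001000010000100001000010000100001000010000100001000010000100001000010000100001000010000100001000010000100001000010000100001000010000100001000010000100001000010000100001000010000100001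0000100001000010000100001000010000100001000010000100001000010000100001000010000100001000010000100001000010000100001000010000100001000010000100001000010000100001000010000100001000010000100001000010000100001000010000100001000010000100001000010000100001000010000100001000010000100001000010000100001000010000100001000010000100001000010000100001000010000100001000010000100001000010000100001000010000100001000010000100001000010000100001000010000100001000010000100001000010000100001000010000100001000010000100001000010000100001000010000100001000010000100001000010000100001000010000100001000010000100001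
def Iv : List ℕ := [0, 1, 2, 4, 5, 6, 8, 16, 17, 24, 32, 34, 36, 38, 40, 48, 53, 56, 64, 65, 66, 68, 69, 70, 72, 80, 81, 88, 96, 98, 100, 102, 104, 112, 117, 120]

noncomputable def XX (j : ℕ) : ℕ := Nat.xor (wo R5 LL (nfW 2 ts j) NU) NU

noncomputable def cm (j k : ℕ) : Bool :=
  Q (appendR (nfW 2 ts j) (nfW 2 ts k)) (appendR (nfW 2 ts k) (nfW 2 ts j))

noncomputable def zz (X i : ℕ) : Bool := Nat.beq (Dig.dig 20 X i) 0

theorem c0 : allLT 512 (fun i => and' (Nat.beq (Dig.dig 20 NU i)
    (Nat.xor (wo R LL (nfW 2 as i) 524288) 524288)) (or' (Nat.beq i 0) (not' (zz NU i)))) = true := by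
  decide +kernel

theorem c1 : allLT 128 (fun j => or' (not' (Q (appendR (nfW 2 ts j) (nfW 2 ts j)) []))
    (anyL Iv (Nat.beq j))) = true := by decide +kernel

theorem c2 : allL Iv (fun j => or' (Nat.beq j 0) (force (XX j) fun X => and' (Nat.ble (cntLT 512 (zz X)) 64)
    (and' (or' (Nat.beq j 64) (Nat.blt (cntLT 128 fun k => and' (anyL Iv (Nat.beq k)) (cm j k)) 32))
      (allL Iv fun k => or' (Nat.ble k j) (or' (not' (cm j k)) (force (XX k) fun Y =>
        Nat.ble (cntLT 512 fun i => and' (zz X i) (zz Y i)) 16)))))) = true := by decide +kernel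

theorem nu_eq {i : ℕ} (hi : i < 512) :
    col 20 NU i = (el x (nfW 2 as i)).1 (vec 20 524288) + vec 20 524288 := by
  have := (allLT_iff _ _).1 c0 i hi
  rw [and'_eq_true, beq_iff] at this
  rw [col, this.1, ← vw, ← vec_xor]; rfl

theorem AA_nf {a : L} (ha : a ∈ AA) : ∃ i < 512, a = el x (nfW 2 as i) :=
  wd.exists_nf two_pos (pc.drop 7).ser le_rfl ha

theorem eq_one_of_fix {a : L} (ha : a ∈ AA) (h : a ∈ Fx (vec 20 524288)) : a = 1 := by
  obtain ⟨i, hi, rfl⟩ := AA_nf ha
  have h1 := nu_eq hi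
  rw [show (el x (nfW 2 as i)).1 _ = _ from h, vv, ← vec_zero] at h1
  have := (allLT_iff _ _).1 c0 i hi
  simp only [and'_eq_true, or'_eq_true, not'_eq_true, beq_iff, zz] at this
  rcases this.2 with rfl | e
  · exact el_nfW_zero _ _
  · exact absurd (vec_inj (Dig.dig_lt _ _ _) (by norm_num) h1) e

theorem ts_fix : cl x ts ≤ Fx (vec 20 524288) := cl_le_Fx ok (by norm_num) (by decide +kernel)

theorem J0 {A : Subgroup L} (hA : A ≤ T2) (h2 : ∀ a ∈ A, a * a = 1) (hc : 2 ^ 9 ≤ Nat.card A) : A = AA := by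
  classical
  have cA : ∀ a ∈ A, ∀ b ∈ A, a * b = b * a := fun a ha b hb => by
    have i : ∀ c ∈ A, c⁻¹ = c := fun c hc => inv_eq_of_mul_eq_one_right (h2 c hc)
    rw [← i _ (mul_mem ha hb), mul_inv_rev, i a ha, i b hb]
  let t : ℕ → L := fun j => el x (nfW 2 ts j)
  have tm : ∀ j, t j ∈ cl x ts := fun j => wd.nfW_mem 2 ts j
  have tn : ∀ j, t j ∈ normalizer (AA : Set L) := fun j =>
    T2_norm (cl_mono (fun _ => List.mem_append_left _) (tm j))
  let J := (Finset.range 128).filter fun j => ∃ a ∈ AA, t j * a ∈ A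
  have cnt : ∀ p : ℕ → Bool, (∀ i < 512, el x (nfW 2 as i) ∈ A → p i = true) →
      2 ^ 9 ≤ J.card * cntLT 512 p := fun p hp => by
    have : ∀ j, ∃ a, j ∈ J → a ∈ AA ∧ t j * a ∈ A := fun j => by
      by_cases hj : j ∈ J
      · obtain ⟨a, ha⟩ := (Finset.mem_filter.1 hj).2
        exact ⟨a, fun _ => ha⟩
      · exact ⟨1, fun h => absurd h hj⟩
    choose b hb using this
    rw [cntLT_eq, ← Finset.card_product]
    refine hc.trans (le_trans ?_ (Finset.card_image_le (f := fun q : ℕ × ℕ => t q.1 * b q.1 * el x (nfW 2 as q.2))))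
    rw [← Set.ncard_coe_finset, ← SetLike.coe_sort_coe, Nat.card_coe_set_eq]
    refine Set.ncard_le_ncard (fun g hg => ?_) (Finset.finite_toSet _)
    obtain ⟨j, hj, a, ha, rfl⟩ := exists_nf_app pc.ser le_rfl (hA hg)
    have hJ : j ∈ J := Finset.mem_filter.2 ⟨Finset.mem_range.2 hj, a, ha, hg⟩
    obtain ⟨i, hi, e⟩ := AA_nf (mul_mem (inv_mem (hb j hJ).1) ha)
    refine Finset.mem_coe.2 (Finset.mem_image.2 ⟨(j, i), Finset.mem_product.2 ⟨hJ,
      Finset.mem_filter.2 ⟨Finset.mem_range.2 hi, hp i hi ?_⟩⟩, by simp only [← e, t]; group⟩)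
    rw [← e]
    simpa [t, mul_assoc] using mul_mem (inv_mem (hb j hJ).2) hg
  have fx : ∀ j ∈ J, ∀ i < 512, el x (nfW 2 as i) ∈ A → zz (XX j) i = true := fun j hj i hi h => by
    obtain ⟨a, ha, h1⟩ := (Finset.mem_filter.1 hj).2
    have h3 := cA _ h1 _ h
    rw [mul_assoc, (AA_comm a ha _ (wd.nfW_mem 2 as i)).eq, ← mul_assoc, ← mul_assoc, mul_left_inj] at h3
    have h4 := (op_woQ ok (Q := 512) (R' := R5) (by decide +kernel) (nfW 2 ts j)).add Op.id NU i hi
    rw [zz, beq_iff]
    refine vec_inj (n := 20) (Dig.dig_lt _ _ _) (by norm_num) (h4.trans ?_)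
    have h5 : (t j).1 _ = _ := ts_fix (tm j)
    change (t j).1 _ + _ = _
    rw [nu_eq hi, map_add, h5, ← Module.End.mul_apply, ← Units.val_mul, h3, Units.val_mul,
      Module.End.mul_apply, h5, vec_zero]
    exact vv _
  have cmJ : ∀ j ∈ J, ∀ k ∈ J, cm j k = true := fun j hj k hk => by
    obtain ⟨a, ha, h1⟩ := (Finset.mem_filter.1 hj).2
    obtain ⟨b, hb, h3⟩ := (Finset.mem_filter.1 hk).2
    refine (wd.iff _ _).2 ?_
    rw [el_appendR, el_appendR]
    refine (inv_mul_eq_one.1 (eq_one_of_fix ?_ (ts_fix (mul_mem (inv_mem (mul_mem (tm k) (tm j)))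
      (mul_mem (tm j) (tm k)))))).symm
    have := mul_mem (mul_mem (conj_mem_of_norm' (tn j) hb) ha)
      (inv_mem (mul_mem (conj_mem_of_norm' (tn k) ha) hb))
    convert this using 1
    calc _ = (t k * t j)⁻¹ * (t k * b * (t j * a)) * ((t j * a * (t k * b))⁻¹ * (t j * t k)) := by
          rw [cA _ h1 _ h3]; simp only [t]; group
      _ = _ := by group
  have ivJ : ∀ j ∈ J, j ∈ Iv := fun j hj => by
    obtain ⟨a, ha, h1⟩ := (Finset.mem_filter.1 hj).2
    have := (allLT_iff _ _).1 c1 j (Finset.mem_range.1 (Finset.mem_filter.1 hj).1)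
    simp only [or'_eq_true, not'_eq_true, anyL_iff, beq_iff, exists_eq_right'] at this
    refine this.resolve_left (not_not.2 ((wd.iff _ _).2 ?_))
    rw [el_appendR]
    refine eq_one_of_fix ?_ (ts_fix (mul_mem (tm j) (tm j)))
    have := inv_mem (mul_mem (conj_mem_of_norm' (tn j) ha) ha)
    convert this using 1
    calc _ = t j * a * (t j * a) * ((t j)⁻¹ * a * t j * a)⁻¹ := by simp only [t]; group
      _ = _ := by rw [h2 _ h1, one_mul]
  have c := c2
  simp only [allL_iff, or'_eq_true, force_eq, and'_eq_true, beq_iff, ble_iff, blt_iff, not'_eq_true] at c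
  by_cases h0 : ∀ j ∈ J, j = 0
  · refine eq_of_le_of_card_ge (fun g hg => ?_) (card_AA ▸ hc)
    obtain ⟨j, hj, a, ha, rfl⟩ := exists_nf_app pc.ser le_rfl (hA hg)
    rwa [h0 j (Finset.mem_filter.2 ⟨Finset.mem_range.2 hj, a, ha, hg⟩), el_nfW_zero, one_mul]
  exfalso
  push Not at h0
  obtain ⟨j, hj, n0⟩ := h0
  have a1 := (cnt _ (fx j hj)).trans (Nat.mul_le_mul_left _ ((c j (ivJ j hj)).resolve_left n0).1)
  obtain ⟨k, hk, n1⟩ := Finset.exists_mem_notMem_of_card_lt_card (s := {0, j}) (t := J)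
    (Finset.card_le_two.trans_lt (by omega))
  simp only [Finset.mem_insert, Finset.mem_singleton, not_or] at n1
  have a2 : ∀ j ∈ J, ∀ k ∈ J, j ≠ 0 → j < k → 32 ≤ J.card := fun j hj k hk n0 lt => by
    have := (cnt (fun i => and' (zz (XX j) i) (zz (XX k) i)) fun i hi h => by
      rw [and'_eq_true]; exact ⟨fx j hj i hi h, fx k hk i hi h⟩).trans (Nat.mul_le_mul_left _
      (((((c j (ivJ j hj)).resolve_left n0).2.2 k (ivJ k hk)).resolve_left (not_le.2 lt)).resolve_left
        (not_not.2 (cmJ j hj k hk))))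
    omega
  have a3 : 32 ≤ J.card := (lt_or_gt_of_ne n1.2).elim (a2 k hk j hj n1.1) (a2 j hj k hk n0)
  obtain ⟨l, hl, n2⟩ := Finset.exists_mem_notMem_of_card_lt_card (s := {0, 64}) (t := J)
    (Finset.card_le_two.trans_lt (by omega))
  simp only [Finset.mem_insert, Finset.mem_singleton, not_or] at n2
  have a4 := ((c l (ivJ l hl)).resolve_left n2.1).2.1.resolve_left n2.2
  rw [cntLT_eq] at a4
  refine absurd (a3.trans (Finset.card_le_card fun k hk => ?_)) (not_le.2 a4)
  exact Finset.mem_filter.2 ⟨(Finset.mem_filter.1 hk).1, by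
    rw [and'_eq_true, anyL_iff]; exact ⟨⟨k, ivJ k hk, (beq_iff _ _).2 rfl⟩, cmJ l hl k hk⟩⟩

/-- elementary abelian subgroups of order at least `2^9` are conjugate to `AA` -/
theorem Jlem {A : Subgroup L} (hA : A ≤ Mb2) (h2 : ∀ a ∈ A, a * a = 1) (hc : 2 ^ 9 ≤ Nat.card A) :
    ∃ g ∈ Mb, A.map (MulAut.conj g).toMonoidHom = AA := by
  have := Fact.mk Nat.prime_two
  obtain ⟨g, hg, h⟩ := (sylIn_of_card Nat.prime_two T2_le_Mb2 (m := 280665) card_T2 (by rw [card_Mb2]; norm_num)
    (by norm_num)).exists_conj (R := A) (fun a => ⟨1, Subtype.ext (by simpa [pow_two] using h2 a a.2)⟩) hA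
  have e : A.map (MulAut.conj g).toMonoidHom = AA := J0 (by rintro _ ⟨a, ha, rfl⟩; exact h a ha)
    (by rintro _ ⟨a, ha, rfl⟩; rw [← map_mul, h2 a ha, map_one])
    (by rwa [card_map_of_injective (MulAut.conj g).injective])
  rcases mem_Mb2 hg with h1 | h1
  · exact ⟨g, h1, e⟩
  · refine ⟨_, h1, ?_⟩
    rw [show (MulAut.conj (x 38 * g)).toMonoidHom = (MulAut.conj (x 38)).toMonoidHom.comp
      (MulAut.conj g).toMonoidHom from MonoidHom.ext fun y => by simp [mul_assoc], ← map_map, e]
    exact mem_normalizer_iff_map_conj_eq.1 (T2_norm sig_mem)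

end Cfsg.Agent.E62
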