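import Cfsg.Agent.E62.MatJ
import Cfsg.Agent.TT.ESModel

/-! The quadratic form and subspace computations on the module of `U₆(2)`. -/

set_option autoImplicit false

namespace Cfsg.Agent.E62

open Cfsg.Agent.Comp Cfsg.Agent.Comp.BM Cfsg.Agent.WG Subgroup Cfsg.Agent.TT

/-- the cocycle -/
def β0 : V →ₗ[ZMod 2] V →ₗ[ZMod 2] ZMod 2 :=
  LinearMap.mk₂ (ZMod 2) (fun v w => v 19 * w 0 + v 18 * w 1 + v 17 * w 2 + v 16 * w 3 + v 14 * w 4 + v 13 * w 5 + v 15 * w 6 + v 12 * w 7 + v 11 * w 8 + v 10 * w 9)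
    (fun _ _ _ => by simp only [Pi.add_apply]; ring) (fun _ _ _ => by simp only [Pi.smul_apply, smul_eq_mul]; ring)
    (fun _ _ _ => by simp only [Pi.add_apply]; ring) (fun _ _ _ => by simp only [Pi.smul_apply, smul_eq_mul]; ring)

theorem β0_apply (v w : V) : β0 v w = v 19 * w 0 + v 18 * w 1 + v 17 * w 2 + v 16 * w 3 + v 14 * w 4 + v 13 * w 5 + v 15 * w 6 + v 12 * w 7 + v 11 * w 8 + v 10 * w 9 := rfl

/-- the extraspecial group -/
abbrev ES : Type := ESM β0
/-- the polar form -/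
def B0 (v w : V) : ZMod 2 := β0 v w + β0 w v
/-- the dual index -/
def du : Fin 20 → Fin 20 := ![19, 18, 17, 16, 14, 13, 15, 12, 11, 10, 9, 8, 7, 5, 4, 6, 3, 2, 1, 0]
/-- basis vectors -/
def ee (i : ℕ) : V := vec 20 (2 ^ i)

theorem ee_eq (i : Fin 20) : ee i = Pi.single i 1 := vec_two_pow i

theorem B0_ee (i : Fin 20) (w : V) : B0 (ee i) w = w (du i) := by
  rw [ee_eq]; fin_cases i <;> simp [B0, β0_apply, du]

theorem B0_comm (v w : V) : B0 v w = B0 w v := add_comm _ _

theorem comm_iff {a b : ES} : a * b = b * a ↔ B0 a.v b.v = 0 := by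
  rw [ESM.comm_iff, B0]
  generalize β0 a.v b.v = p
  generalize β0 b.v a.v = q
  revert p q; decide

theorem du_du : ∀ i, du (du i) = i := by decide

theorem xs0 : XS ⊤ (ESM.z β0) := ESM.xs fun v h => funext fun i => by
  have := B0_ee (du i) v
  rwa [du_du, B0, h, zmod_two_add_self, eq_comm] at this

theorem card_ES : Nat.card ES = 2 ^ 21 := by
  rw [ESM.card_eq, Nat.card_fun, Nat.card_zmod, Nat.card_fin]; norm_num

/-- the image of `Q ∩ P` -/
abbrev W0 : Submodule (ZMod 2) V := Sp 20 1023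
/-- the image of `C_Q(s)` -/
abbrev SP : Submodule (ZMod 2) V := Sp 20 524287

theorem mem_SP {v : V} : v ∈ SP ↔ v 19 = 0 :=
  ⟨fun h => h 19 (by decide), fun h i hi => by
    have : ∀ i : Fin 20, Nat.testBit 524287 i = false → i = 19 := by decide
    rw [this i hi, h]⟩

theorem W0_le_SP : W0 ≤ SP := Sp_mono (by decide +kernel)

theorem β0_W0 {v : V} (h : v ∈ W0) (w : V) : β0 v w = 0 := by
  rw [β0_apply, h 19 (by decide), h 18 (by decide), h 17 (by decide), h 16 (by decide), h 14 (by decide), h 13 (by decide), h 15 (by decide), h 12 (by decide), h 11 (by decide), h 10 (by decide)]; simp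

theorem mem_Sp_of_B0 {v : V} {m : ℕ} (h : ∀ i : Fin 20, m.testBit i = false → B0 (ee (du i)) v = 0) :
    v ∈ Sp 20 m := fun i hi => by rw [← h i hi, B0_ee, du_du]

/-- a subspace given by a predicate -/
def sub2 (p : V → Prop) (h0 : p 0) (ha : ∀ a b, p a → p b → p (a + b)) : Submodule (ZMod 2) V where
  carrier := {v | p v}
  zero_mem' := h0
  add_mem' := ha _ _
  smul_mem' c v h := by
    rcases zmod_two_cases c with rfl | rfl
    · rwa [zero_smul]
    · rwa [one_smul]

theorem mem_top (v : V) : v ∈ Sp 20 1048575 := mem_Sp_top v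

theorem kn_AA : Kn x AA 32704 := wd.kn_of_mem (ws := as) le_rfl (by decide +kernel)

def ss : List (List ℕ) := [[0], [2], [4], [6], [8], [10], [32], [34], [36]]
/-- the group `L₃(4)` -/
noncomputable def SS : Subgroup L := cl x ss

theorem kn_SS : Kn x SS 458815 := wd.kn_of_mem (ws := ss) le_rfl (by decide +kernel)

theorem of_all {H : Subgroup L} {K m : ℕ} (hK : Kn x H K) {us : List (List ℕ × ℕ)}
    (h : allL us (fun p => and' (inK K p.1) (sb p.2 m)) = true) :
    ∀ p ∈ us, el x p.1 ∈ H ∧ vec 20 p.2 ∈ Sp 20 m := fun p hp => by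
  have := (allL_iff _ _).1 h p hp
  rw [and'_eq_true] at this
  exact ⟨hK.word this.1, vec_mem_Sp this.2⟩

theorem fix_AA {v : V} (h : ∀ a ∈ AA, a.1 v = v) : v = 0 ∨ v = ee 0 :=
  eq_of_mem_Sp_one (mem_of_fixB ok (ps := [([12], 1693054953751325278652615004303045905687020046777812161563693611869051927149049129587859663531381253589909783969794), ([14], 100433663684073967228726043903178044068520370097804852330500), ([16], 200867255532373784442745261542645325315275374222849104412680), ([18], 16), ([20], 32), ([22], 402322989352440070207100128343716369357060344268616712060992), ([24], 128), ([26], 256), ([28], 512)]) (by decide +kernel) (mem_top v)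
    fun p hp => h _ (kn_AA.word ((allL_iff _ (fun p : List ℕ × ℕ => inK 32704 p.1)).1 (by decide +kernel) p hp)))

theorem AA_fix : AA ≤ Fx (ee 0) := cl_le_Fx ok (by norm_num) (by decide +kernel)

theorem W0_le {U : Submodule (ZMod 2) V} (h : ∀ a ∈ AA, ∀ v ∈ SP, a.1 v + v ∈ U) : W0 ≤ U :=
  Sp_le_of_spanB (vs := cmV R LL [([12], 2), ([12], 1024), ([12], 2048), ([12], 4096), ([12], 32768), ([14], 1024), ([14], 2048), ([14], 4096), ([16], 1024), ([22], 1024)]) (sel := [1, 512, 257, 33, 192, 64, 2, 4, 8, 16, 0, 0, 0, 0, 0, 0, 0, 0, 0, 0]) (by decide +kernel)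
    (cmV_mem ok (by norm_num) fun p hp => let ⟨a, b⟩ := of_all kn_AA (by decide +kernel) p hp; h _ a _ b)

theorem SP_le {U : Submodule (ZMod 2) V} (h : ∀ a ∈ AA, ∀ v, a.1 v + v ∈ U) : SP ≤ U :=
  Sp_le_of_spanB (vs := cmV R LL [([12], 2), ([12], 1024), ([12], 2048), ([12], 4096), ([12], 32768), ([12], 524288), ([14], 1024), ([14], 2048), ([14], 4096), ([14], 524288), ([16], 1024), ([16], 524288), ([18], 524288), ([20], 524288), ([22], 1024), ([22], 524288), ([24], 524288), ([26], 524288), ([28], 524288)]) (sel := [1, 16384, 1025, 65, 384, 128, 2, 4, 8, 16, 262144, 147456, 81920, 8194, 4098, 32768, 2064, 528, 32, 0]) (by decide +kernel)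
    (cmV_mem ok (by norm_num) fun p hp => h _ (of_all (m := 1048575) kn_AA (by decide +kernel) p hp).1 _)

theorem span_e0 {U : Submodule (ZMod 2) V} (h : ∀ a ∈ Mb, a.1 (ee 0) ∈ U) (v : V) : v ∈ U :=
  Sp_le_of_spanB (vs := imV R LL (mapR (fun u => (u, 1)) [[], [30], [32, 30], [34, 30], [2, 32, 30], [30, 32, 30], [36, 32, 30], [36, 34, 30], [36, 2, 32, 30], [36, 30, 32, 30], [4, 36, 32, 30], [6, 36, 32, 30], [4, 36, 30, 32, 30], [6, 36, 30, 32, 30], [32, 36, 30, 32, 30], [34, 36, 30, 32, 30], [32, 4, 36, 30, 32, 30], [34, 4, 36, 30, 32, 30], [2, 32, 36, 30, 32, 30], [30, 32, 36, 30, 32, 30]])) (sel := [1, 3, 23, 27, 340, 408, 17, 2118, 3101, 2390, 39, 10855, 15399, 168448, 245777, 10243, 279152, 384109, 432694, 550951]) (by decide +kernel)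
    (imV_mem ok (by norm_num) fun p hp => by
      have := (of_all (m := 1048575) kn_Mb (by decide +kernel) p hp).1
      rw [mapR_eq] at hp
      obtain ⟨u, -, rfl⟩ := List.mem_map.1 hp
      exact h _ this) (mem_top v)

theorem span_cm {U : Submodule (ZMod 2) V} (h : ∀ a ∈ Mb, ∀ v, a.1 v + v ∈ U) (v : V) : v ∈ U :=
  Sp_le_of_spanB (vs := cmV R LL [([0], 4), ([0], 64), ([0], 128), ([0], 256), ([0], 8192), ([0], 16384), ([0], 65536), ([0], 262144), ([2], 64), ([2], 262144), ([4], 128), ([4], 512), ([4], 2048), ([4], 65536), ([4], 131072), ([6], 512), ([12], 2), ([12], 32768), ([12], 524288), ([30], 262144)]) (sel := [65536, 1, 257, 258, 8, 12, 1024, 33792, 34816, 131072, 4096, 48, 16, 16384, 24576, 64, 576, 640, 262144, 524288]) (by decide +kernel)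
    (cmV_mem ok (by norm_num) fun p hp => h _ (of_all (m := 1048575) kn_Mb (by decide +kernel) p hp).1 _)
    (mem_top v)

theorem SP_le' {U : Submodule (ZMod 2) V} (h0 : W0 ≤ U) (h : ∀ a ∈ SS, ∀ v ∈ SP, a.1 v + v ∈ U) : SP ≤ U :=
  Sp_le_of_spanB (vs := [1, 2, 4, 8, 16, 32, 64, 128, 256, 512] ++ cmV R LL [([0], 8192), ([0], 16384), ([0], 65536), ([0], 262144), ([2], 262144), ([4], 2048), ([4], 65536), ([4], 131072), ([32], 32768)]) (sel := [1, 2, 4, 8, 16, 32, 64, 128, 256, 512, 32768, 3072, 1024, 131072, 196608, 4096, 20480, 24576, 282624, 0]) (by decide +kernel)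
    (List.forall_mem_append.2 ⟨fun a ha => h0 (vec_mem_Sp ((allL_iff _ (sb · 1023)).1 (by decide +kernel) a ha)),
    cmV_mem ok (by norm_num) fun p hp => let ⟨a, b⟩ := of_all kn_SS (by decide +kernel) p hp; h _ a _ b⟩)

theorem hom0 {Rl : V → V → Prop} (h0 : ∀ u w u' w', Rl u w → Rl u' w' → Rl (u + u') (w + w'))
    (h1 : ∀ g ∈ SS, ∀ u w, Rl u w → Rl (g.1 u) (g.1 w)) (h2 : ∀ u ∈ W0, Rl u 0)
    (h3 : ∀ w ∈ Sp 20 1, Rl 0 w) (h4 : ∀ u ∈ SP, ∃ w ∈ W0, Rl u w) (h5 : ∀ w, Rl 0 w → w ∈ Sp 20 1) :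
    ∀ u ∈ SP, Rl u 0 := by
  obtain ⟨w, hw, r⟩ := h4 (vec 20 265216) (vec_mem_Sp (by decide +kernel))
  have o := op_smA (F := wo R LL) (l := [[0, 0, 32, 36], [4, 2, 34, 10], []]) (A := fun u => (el x u).1) fun u _ => op_wo ok u
  have r1 := h0 _ _ _ _ (h1 _ (kn_SS.word (u := [0, 0, 32, 36]) (by decide +kernel)) _ _ r) (h0 _ _ _ _
    (h1 _ (kn_SS.word (u := [4, 2, 34, 10]) (by decide +kernel)) _ _ r)
    (h1 _ (kn_SS.word (u := []) (by decide +kernel)) _ _ r))
  have e1 := o.vec (by norm_num) 265216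
  have e2 := (((op_mo ok 487334964576400551391901853669834529622530962567001538560).comp o).add Op.id).maps
    (m := 1023) (m' := 1) (by decide +kernel) w hw
  have e3 := (op_mo ok 487334964576400551391901853669834529622530962567001538560).maps
    (m := 1) (m' := 1) (by decide +kernel)
  simp only [List.map_cons, List.map_nil, List.sum_cons, List.sum_nil, add_zero, LinearMap.add_apply,
    Module.End.mul_apply, Module.End.one_apply] at e1 e2
  have r2 := h0 _ _ _ _ r1 (h2 _ (show _ ∈ W0 from e1 ▸ vec_mem_Sp (by decide +kernel)))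
  rw [add_zero] at r2
  rw [vv] at r2
  have r3 := h5 _ r2
  have r4 : w ∈ Sp 20 1 := by simpa [vv'] using add_mem (e3 _ r3) e2
  have r5 : Rl (vec 20 265216) 0 := by simpa [vv] using h0 _ _ _ _ r (h3 w r4)
  exact fun u hu => Sp_le_of_spanB (U := sub2 (Rl · 0) (h2 0 (zero_mem _)) fun a b p q => by
      simpa using h0 _ _ _ _ p q)
    (vs := [1, 2, 4, 8, 16, 32, 64, 128, 256, 512] ++ imV R LL (mapR (fun u => (u, 265216)) [[], [0], [2], [4], [8], [10], [36], [2, 0], [4, 0]])) (sel := [1, 2, 4, 8, 16, 32, 64, 128, 256, 512, 9216, 202752, 487424, 40960, 24576, 138240, 133120, 6144, 210944, 0]) (by decide +kernel)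
    (List.forall_mem_append.2 ⟨fun a ha => h2 _ (vec_mem_Sp ((allL_iff _ (sb · 1023)).1 (by decide +kernel) a ha)),
    imV_mem ok (by norm_num) fun p hp => by
      have := (of_all (m := 1048575) kn_SS (by decide +kernel) p hp).1
      rw [mapR_eq] at hp
      obtain ⟨u, -, rfl⟩ := List.mem_map.1 hp
      have := h1 _ this _ _ r5
      rwa [map_zero] at this⟩) hu

theorem B0_inv {g : L} (h : ∀ v, β0 (g.1 v) (g.1 v) = β0 v v) (v w : V) : B0 (g.1 v) (g.1 w) = B0 v w := by
  have := h (v + w)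
  simp only [map_add, LinearMap.add_apply, h] at this
  rw [B0, B0]
  linear_combination this

/-- uniqueness of the invariant forms -/
theorem forms_eq (hi : ∀ g ∈ Mb, ∀ v, β0 (g.1 v) (g.1 v) = β0 v v) {b : V → V → ZMod 2} {q : V → ZMod 2}
    (b1 : ∀ u v w, b (u + v) w = b u w + b v w) (b2 : ∀ v w, b v w = b w v)
    (b3 : ∀ v, (∀ w, b v w = 0) → v = 0) (b4 : ∀ g ∈ Mb, ∀ v w, b (g.1 v) (g.1 w) = b v w)
    (q1 : ∀ v w, q (v + w) = q v + q w + b v w) (q2 : ∀ g ∈ Mb, ∀ v, q (g.1 v) = q v) :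
    (∀ v w, b v w = B0 v w) ∧ ∀ v, q v = β0 v v := by
  have z1 : ∀ w, b 0 w = 0 := fun w => by simpa using b1 0 0 w
  have a1 : ∀ v ∈ SP, b v (ee 0) = 0 := fun v hv =>
    SP_le (U := sub2 (b · (ee 0) = 0) (z1 _) fun a c p r => by rw [b1, p, r, add_zero]) (fun a ha v => by
      change b _ _ = 0
      rw [b1, ← b4 a (AA_le_Mb ha) v, show a.1 (ee 0) = ee 0 from AA_fix ha, zmod_two_add_self]) hv
  have a2 : ∀ v, b v (ee 0) = v 19 * b (ee 19) (ee 0) := fun v => by
    rcases zmod_two_cases (v 19) with e | e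
    · rw [e, a1 v (mem_SP.2 e), zero_mul]
    · have := a1 (v + ee 19) (mem_SP.2 (by rw [Pi.add_apply, e]; decide))
      rw [b1] at this
      rw [e, one_mul, eq_neg_of_add_eq_zero_left this, CharTwo.neg_eq]
  have a3 : b (ee 19) (ee 0) = 1 := (zmod_two_cases _).resolve_left fun e =>
    absurd (congrFun (b3 (ee 0) fun w => by rw [b2, a2, e, mul_zero]) 0) (by decide)
  have a4 : ∀ v w, b v w = B0 v w := fun v => span_e0 (U := sub2 (fun v => ∀ w, b v w = B0 v w)
    (fun w => by simp [z1, B0]) fun a c p r w => by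
      rw [b1, p, r]; simp only [B0, map_add, LinearMap.add_apply]; ring) (fun g hg w => by
    have : w = g.1 (g⁻¹.1 w) := by simp [← Module.End.mul_apply]
    rw [this, b4 g hg, B0_inv (hi g hg), b2, a2, a3, mul_one]
    exact (B0_ee 0 _).symm) v
  have z2 : q 0 = 0 := by simpa [z1] using q1 0 0
  have a5 : ∀ v w, q v = β0 v v → q w = β0 w w → q (v + w) = β0 (v + w) (v + w) := fun v w p r => by
    rw [q1, p, r, a4]; simp only [B0, map_add, LinearMap.add_apply]; ring
  refine ⟨a4, span_cm (U := sub2 (fun v => q v = β0 v v) (by simp [z2]) a5) fun g hg v => ?_⟩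
  change q _ = _
  rw [q1, q2 g hg, a4, zmod_two_add_self]
  simp only [B0, map_add, LinearMap.add_apply, hi g hg]
  linear_combination (-1 : ZMod 2) * zmod_two_add_self (β0 v v)

end Cfsg.Agent.E62
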