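import Cfsg.Agent.E62.MatV

/-! Transvections of `U₆(2)` on the module of dimension 20. -/

set_option autoImplicit false

namespace Cfsg.Agent.E62

open Cfsg.Agent.Comp Cfsg.Agent.Comp.BM Cfsg.Agent.WG Subgroup Cfsg.Agent.TT

/-- the long root elements -/
def W6 : List (List ℕ) :=
  [[28], [22], [12], [30], [2, 32, 2, 30, 2, 32, 2], [6, 36, 6, 2, 32, 2, 30, 2, 32, 2, 6, 36, 6]]

/-- the order of the commutator space -/
noncomputable def rk (a : L) : ℕ := Nat.card (LinearMap.range (a.1 + 1))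

theorem rk_conj (g a : L) : rk (g * a * g⁻¹) = rk a := by
  rw [rk, show (g * a * g⁻¹).1 + 1 = g.1 ∘ₗ (a.1 + 1) ∘ₗ g⁻¹.1 by
    simp [← Module.End.mul_eq_comp, mul_add, add_mul, mul_assoc], LinearMap.range_comp,
    LinearMap.range_comp_of_range_eq_top _ (LinearMap.range_eq_top.2 ((Module.End.isUnit_iff _).1 g⁻¹.isUnit).2)]
  exact Nat.card_congr (Submodule.equivMapOfInjective _ ((Module.End.isUnit_iff _).1 g.isUnit).1 _).toEquiv.symm

noncomputable def cl20 (u : List ℕ) : List ℕ := cmV R LL ((List.range 20).map fun i => (u, 2 ^ i))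

theorem rk_el {u : List ℕ} (h : ∀ a ∈ cl20 u, a < 2 ^ 20) : rk (el x u) = (spn (cl20 u)).length := by
  rw [← card_span h, rk, LinearMap.range_eq_map, ← (Pi.basisFun (ZMod 2) (Fin 20)).span_eq, Submodule.map_span]
  have k : ∀ i : Fin 20, vec 20 (Nat.xor (wo R LL u (2 ^ (i : ℕ))) (2 ^ (i : ℕ))) =
      ((el x u).1 + 1) (Pi.basisFun (ZMod 2) (Fin 20) i) := fun i => by
    rw [Pi.basisFun_apply, ← vec_two_pow, LinearMap.add_apply, ← vw]; exact vec_xor _ _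
  refine congrArg (fun S : Set V => Nat.card (Submodule.span (ZMod 2) S)) (Set.ext fun v => ?_)
  simp only [cl20, cmV, mapR_eq, List.map_map, List.mem_map, List.mem_range, Set.mem_image, Set.mem_range,
    Set.mem_ofPred_eq, exists_exists_eq_and, exists_exists_and_eq_and]
  exact ⟨fun ⟨i, e⟩ => ⟨i, i.2, (k i).trans e⟩, fun ⟨i, hi, e⟩ => ⟨⟨i, hi⟩, (k ⟨i, hi⟩).symm.trans e⟩⟩

theorem not_prod {w : List ℕ} (hw : w ∈ W6) (g : L) : el x w * x 28 ≠ g * x 28 * g⁻¹ := fun e => by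
  have k : ∀ w ∈ W6, Q (w ++ 28 :: (w ++ [28])) [] = false ∨ (∀ a ∈ cl20 (w ++ [28]), a < 2 ^ 20) ∧
      (spn (cl20 (w ++ [28]))).length ≠ 64 := by decide +kernel
  rcases k w hw with h | ⟨h1, h2⟩
  · rw [Bool.eq_false_iff, Ne, wd.iff] at h
    exact h (by simpa [← e, mul_assoc] using show g * x 28 * g⁻¹ * (g * x 28 * g⁻¹) = 1 by simp [x_sq 14])
  · have := rk_el (u := [28]) (by decide +kernel)
    rw [show (spn (cl20 [28])).length = 64 by decide +kernel] at this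
    exact h2 (by rw [← rk_el h1, ← this, ← rk_conj g (el x [28])]; simp [e])

theorem W6_step : ∀ n ∈ [[12, 30, 12], [2, 32, 2], [6, 36, 6]], ∀ w ∈ W6, ∃ w' ∈ W6, Q (cjW n w) w' = true := by
  decide +kernel

theorem not_quad (u : V) : ¬ ∀ v, B0 u v = 0 → (x 28).1 v + v = 0 ∨ (x 28).1 v + v = u := fun h => by
  have k : ∀ a b, ∃ c ∈ [a, b, a ^^^ b], B0 u (vec 20 c) = 0 := fun a b => by
    simp only [List.mem_cons, List.not_mem_nil, or_false, exists_eq_or_imp, exists_eq_left, vec_xor, B0, map_add,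
      LinearMap.add_apply]
    rw [add_add_add_comm]
    generalize β0 u (vec 20 a) + _ = p
    generalize β0 u (vec 20 b) + _ = q
    revert p q; decide
  have k2 : ∀ c, B0 u (vec 20 c) = 0 → wo R LL [28] c ^^^ c < 2 ^ 20 → wo R LL [28] c ^^^ c ≠ 0 →
      vec 20 (wo R LL [28] c ^^^ c) = u := fun c h1 h2 h3 => by
    have := h _ h1
    rw [show x 28 = el x [28] by simp, ← vw, ← vec_xor, ← vec_zero] at this
    exact this.resolve_left fun e => h3 (vec_inj h2 (by norm_num) e)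
  obtain ⟨c, h1, h2⟩ := k 512 32768
  obtain ⟨d, h3, h4⟩ := k 65536 131072
  obtain ⟨a1, a2, a3, a4, a5⟩ := (show ∀ c ∈ [512, 32768, 512 ^^^ 32768], ∀ d ∈ [65536, 131072, 65536 ^^^ 131072],
    wo R LL [28] c ^^^ c < 2 ^ 20 ∧ wo R LL [28] c ^^^ c ≠ 0 ∧ wo R LL [28] d ^^^ d < 2 ^ 20 ∧
      wo R LL [28] d ^^^ d ≠ 0 ∧ wo R LL [28] c ^^^ c ≠ wo R LL [28] d ^^^ d by decide +kernel) c h1 d h3
  exact a5 (vec_inj a1 a3 ((k2 c h2 a1 a2).trans (k2 d h4 a3 a4).symm))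

theorem T2_fl {a : L} (h : a ∈ T2) : a.1 (ee 0) = ee 0 ∧ (a.1 (ee 1) = ee 1 ∨ a.1 (ee 1) = ee 1 + ee 0) :=
  ⟨cl_le_Fx ok (by norm_num) (v := 1) (by decide +kernel) h,
    (eq_of_mem_Sp_one ((cl_le_Fl ok (m := 3) (m' := 1) (hm := by decide +kernel) (by decide +kernel) h).1 (ee 1)
      (vec_mem_Sp (by decide +kernel)))).imp eq_of_add fun e => by rw [show ee 0 = _ from e.symm, add_comm _ (ee 1), vv']⟩

end Cfsg.Agent.E62
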