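import Cfsg.Agent.E62.MdDef
import Cfsg.Agent.S2182
import Cfsg.Agent.S2341
import Cfsg.Agent.S5740

/-! The group `²E₆(2)` satisfies `Md`. -/

set_option autoImplicit false

namespace Cfsg.Agent.E62

open Cfsg.Agent.Comp Cfsg.Agent.WG Subgroup Cfsg.Agent.Chev Cfsg.Agent.Chev.BN Cfsg.Lie
open Cfsg.Agent.Comp.SS Cfsg.Agent.Comp.Kron Cfsg.Agent.Chev.E6R F22 Matrix

def sg6 : List ℕ := [0, 1, 3, 2, 5, 4, 7, 6, 9, 8, 10, 12, 11, 14, 13, 15, 16, 18, 17, 20, 19, 22, 21, 24, 23, 25, 27, 26, 29, 28, 30, 31, 32, 34, 33, 36, 35, 38, 37, 40, 39, 42, 41, 44, 43, 45, 47, 46, 49, 48, 51, 50, 53, 52, 54, 56, 55, 58, 57, 59, 60, 62, 61, 64, 63, 66, 65, 67, 68, 69, 70, 71, 72, 73, 74, 75, 76, 77, 79, 78]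
def cj4 (c : ℕ) : ℕ := [0, 1, 3, 2].getD c 0

theorem c6 : (∀ p ∈ bl6, p.1 < 72 ∧ p.2 < 4 ∧ (∀ q ∈ lt6 p, q.1 < 54 ∧ q.2 < 2 ^ 54) ∧
      ∀ j < 54, BM.ap (Kron.rep 54 27 1) (lt6 p) (2 ^ j) = cd6 p j) ∧
    (∀ i < 80, (bl6.getD i (70, 1)).2 < 4 ∧ bl6.getD (sg6.getD i 0) (70, 1) =
      (rhoE6 (bl6.getD i (70, 1)).1, cj4 (bl6.getD i (70, 1)).2)) ∧
    (∀ w ∈ ex6, (∀ i ∈ w, i < 80) ∧ Q6 (w.map fun i => sg6.getD i 0) w = true ∧ Q6 (w ++ w) [] = true) ∧
    (∀ k < 36, ∀ i ∈ ex6.getD k [], 36 ≤ (bl6.getD i (70, 1)).1) ∧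
    Q6 (fl hw) [33, 78, 33, 35, 61, 35, 34, 79, 34, 36, 62, 36] = true := by decide +kernel

section
variable {K : Type*} [Field K] {ω : K} (h2 : (2 : K) = 0) (hω : ω ^ 2 = 1 + ω)

/-- the root elements -/
noncomputable def B6 (ω : K) (e : ℕ) : U K :=
  toGs chevE6 (y K) (bl6.getD e (70, 1)).1 (val ω 2 (c4 (bl6.getD e (70, 1)).2))

theorem bl6_mem (k : ℕ) : bl6.getD k (70, 1) ∈ bl6 := by
  rw [List.getD_eq_getElem?_getD]
  rcases h : bl6[k]? with _ | p
  · decide
  · exact List.mem_of_getElem? h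

variable [CharP K 2]

/-- the embedding of `𝔽₂⁵⁴` -/
noncomputable def io (ω : K) : BM.V 54 →+ (I27 → K) where
  toFun v := ∑ j : Fin 54, ZMod.castHom (dvd_refl 2) K (v j) • (if (j : ℕ) < 27 then 1 else ω) • b K (j % 27)
  map_zero' := by simp
  map_add' v w := by simp only [Pi.add_apply, map_add, add_smul, Finset.sum_add_distrib]

theorem io_pow {j : ℕ} (hj : j < 54) : io ω (BM.vec 54 (2 ^ j)) = (if j < 27 then 1 else ω) • b K (j % 27) := by
  rw [BM.vec_two_pow ⟨j, hj⟩]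
  rw [io, AddMonoidHom.coe_mk, ZeroHom.coe_mk, Finset.sum_eq_single ⟨j, hj⟩ (fun i _ e => by simp [e]) (by simp)]
  simp

theorem io_mk {c k : ℕ} (hc : c < 4) (hk : k < 27) : io ω (BM.vec 54 (mk6 c k)) = val ω 2 (c4 c) • b K k := by
  have h1 := io_pow (ω := ω) (j := k) (by omega)
  have h2 := io_pow (ω := ω) (j := 27 + k) (by omega)
  rw [if_pos hk, Nat.mod_eq_of_lt hk] at h1
  rw [if_neg (by omega), Nat.add_mod_left, Nat.mod_eq_of_lt hk] at h2
  interval_cases c <;> simp [mk6, BM.vec_xor, BM.vec_zero, h1, h2, val2, c4, add_smul]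

include h2 hω

theorem rel6 (u : List ℕ) : ∃ A, BM.Op 54 27 (BM.wd lo6 u) A ∧
    ∀ v, ((el (B6 ω) u : U K) : GL I27 K).1 *ᵥ io ω v = io ω (A v) := by
  induction u with
  | nil => exact ⟨1, BM.Op.id, fun v => by simp⟩
  | cons a u ih =>
    obtain ⟨A, h3, h4⟩ := ih
    obtain ⟨k1, k2, k3, k4⟩ := c6.1 _ (bl6_mem a)
    have o := BM.op_ap (Q := 27) k3
    refine ⟨(1 + BM.lin 54 (lt6 (bl6.getD a (70, 1)))) * A, ?_, fun v => ?_⟩
    · exact BM.Op.comp (F := lo6 a) (by rw [← getL_eq] at o ⊢; exact BM.Op.id.add o) h3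
    rw [el_cons, Subgroup.coe_mul, Units.val_mul, ← mulVec_mulVec, h4, B6, coe_toGs k1, Module.End.mul_apply]
    generalize bl6.getD a (70, 1) = p at *
    refine DFunLike.congr_fun (AddMonoidHom.functions_ext _
      ((mulVecLin (y K p.1 (val ω 2 (c4 p.2))).1).toAddMonoidHom.comp (io ω))
      ((io ω).comp (1 + BM.lin 54 (lt6 p)).toAddMonoidHom) fun j c => ?_) (A v)
    rcases TT.zmod_two_cases c with rfl | rfl
    · simp
    have hj : (j : ℕ) % 27 < 27 := Nat.mod_lt _ (by norm_num)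
    change _ *ᵥ io ω _ = io ω (_ + _)
    rw [← BM.vec_two_pow, ← o.vec (by norm_num), k4 j j.2, map_add, Module.End.one_apply, io_pow j.2, mulVec_smul,
      y_b k1 hj, smul_add, cd6]
    congr 1
    by_cases h0 : sg p.1 (j % 27) = 0
    · simp [h0, BM.vec_zero]
    obtain ⟨e1, e2, -⟩ := pair_spec _ k1 _ hj h0
    have k5 : (sg p.1 (j % 27) : K) = 1 := by
      rcases Int.eq_one_or_neg_one_of_mul_eq_one e1 with h | h
      · simp [h]
      · rw [h]; push_cast; linear_combination -h2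
    rw [if_neg h0, k5, one_mul, smul_smul]
    generalize p.2 = c at k2
    split_ifs
    · rw [io_mk k2 e2, one_mul]
    · rw [io_mk (by revert c; decide) e2]
      congr 1
      interval_cases c <;> simp [val2, c4]
      · linear_combination hω
      · linear_combination hω + ω * h2

theorem sound6 {u v : List ℕ} (h : Q6 u v = true) : el (B6 ω) u = el (B6 ω) v := by
  obtain ⟨A, a1, a2⟩ := rel6 h2 hω u
  obtain ⟨B, b1, b2⟩ := rel6 h2 hω v
  refine Subtype.ext (Units.ext (Matrix.ext fun a c => ?_))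
  obtain ⟨i, hi, rfl⟩ := isEnum.surj c
  have e := (a1 I6 i hi).symm.trans ((congrArg (BM.col 54 · i) ((beq_iff _ _).1 h)).trans (b1 I6 i hi))
  have e2 := io_pow (ω := ω) (j := i) (by omega)
  rw [BM.col, (by decide +kernel : ∀ i < 27, Dig.dig 54 I6 i = 2 ^ i) i hi] at e
  rw [if_pos hi, Nat.mod_eq_of_lt hi, one_smul] at e2
  rw [← smul_xE, ← smul_xE, xE_eq hi, ← e2]
  exact congrFun ((a2 _).trans (e ▸ (b2 _).symm)) a

end

theorem el_fl {G : Type*} [Group G] (X : ℕ → G) (u : List ℕ) :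
    el X (fl u) = el (fun a => el X (ex6.getD (a / 2) [])) u := by
  induction u with
  | nil => rfl
  | cons a u ih =>
    rw [el_cons, ← ih, ← el_append]
    change el X (appendR _ _) = _
    rw [appendR_eq, getL_eq]
    rfl

theorem exists_md (K : Type*) [Field K] [Fintype K] (hK : Fintype.card K = 4) :
    ∃ (y : ℕ → twistedE6 K 2) (P : Cfsg.BNPair (twistedE6 K 2)) (e : Fin 4 → P.S), Md y P e := by
  classical
  obtain ⟨S, φ, hφ, hq, hT⟩ := E6.exists_data (K := K) (q := 2) Nat.prime_two.isPrimePow hK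
  have hcU : Fintype.card Kˣ = 3 := by rw [Fintype.card_units, hK]
  obtain ⟨ω, hω⟩ : ∃ ω : Kˣ, ω ≠ 1 := by
    have : Nontrivial Kˣ := Fintype.one_lt_card_iff_nontrivial.mp (by omega)
    exact exists_ne 1
  have : CharP K 2 := charP_of_card_eq_prime_pow (f := 2) (by rw [hK]; norm_num)
  have h2 : (2 : K) = 0 := CharTwo.two_eq_zero
  have h4 : (ω : K) ^ 3 = 1 := by simpa using congrArg Units.val (show ω ^ 3 = 1 from hcU ▸ pow_card_eq_one)
  have hw' : (ω : K) ^ 2 = 1 + ω := by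
    refine mul_left_cancel₀ (sub_ne_zero.2 fun h => hω (Units.val_eq_one.1 h)) ?_
    linear_combination h4 - (ω ^ 2 - 1 : K) * h2
  obtain ⟨θ, -, hθ, -⟩ := exists_emb h2 hw'
  let X : ℕ → chevE6.group K := fun i => θ (B6 ω i)
  have hX : ∀ i, X i = xC chevE6 K (bl6.getD i (70, 1)).1 (val (ω : K) 2 (c4 (bl6.getD i (70, 1)).2)) :=
    fun i => hθ _ (c6.1 _ (bl6_mem i)).1 _
  have sX : ∀ {u v}, Q6 u v = true → el X u = el X v := fun {u v} h => by
    have := congrArg θ (sound6 h2 hw' h)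
    simp only [el, map_list_prod, List.map_map] at this
    exact this
  have v1 : val (ω : K) 2 (c4 1) = 1 := by simp [val2, c4]
  have v2 : val (ω : K) 2 (c4 2) = ω := by simp [val2, c4]
  have v3 : val (ω : K) 2 (c4 3) = φ ω := by simp [val2, c4, hq, hw']
  let D := (E6.tw S φ hφ).data
  have σX : ∀ i < 80, D.σ (X i) = X (sg6.getD i 0) := fun i hi => by
    obtain ⟨k1, k2⟩ := c6.2.1 i hi
    have k3 := (c6.1 _ (bl6_mem i)).1
    rw [hX, hX, k2]
    refine ((E6.tw S φ hφ).hσ _ k3 _).trans ?_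
    have k4 : (epsE6 (bl6.getD i (70, 1)).1 : K) = 1 := by
      rcases Int.eq_one_or_neg_one_of_mul_eq_one' (S2341.rho_spec _ k3).2.1 with h | h
      · rw [h.2, Int.cast_one]
      · rw [h.2]; push_cast; linear_combination -h2
    change xC _ _ (rhoE6 _) (epsE6 _ * φ _) = _
    rw [k4, one_mul]
    congr 1
    generalize (bl6.getD i (70, 1)).2 = c at k1
    interval_cases c
    · simp [val2, c4, cj4]
    · simp [cj4, v1]
    · simp [cj4, v2, v3]
    · simp [cj4, v2, v3, hφ]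
  have mT : ∀ k, el X (ex6.getD k []) ∈ D.T := fun k => by
    by_cases hk : k < ex6.length
    swap
    · rw [List.getD_eq_default _ _ (not_lt.1 hk)]; exact one_mem _
    obtain ⟨k1, k2, -⟩ := c6.2.2.1 _ (List.getD_eq_getElem _ [] hk ▸ List.getElem_mem hk)
    rw [show D.T = D.Fix from E6.T_eq_Fix S φ hφ, TwistData.mem_Fix]
    refine Eq.trans ?_ (sX k2)
    rw [el, map_list_prod, List.map_map, el, List.map_map]
    exact congrArg _ (List.map_congr_left fun i hi => σX i (k1 i hi))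
  let j := Subgroup.inclusion (E6.le_group (K := K) (q := 2))
  have hj : Function.Injective j := Subgroup.inclusion_injective _
  have hr : j.range = D.T := D.range_inclusion _ hT
  choose Y hY using fun k => D.exists_j j hr (mT k)
  have jel : ∀ u, j (el (fun a => Y (a / 2)) u) = el X (fl u) := fun u => by
    rw [el_fl, el, map_list_prod, List.map_map, el]
    exact congrArg _ (List.map_congr_left fun i _ => hY _)
  have hG := TE6.card_G hK
  have : Finite (twistedE6 K 2) := Nat.finite_of_card_ne_zero (by rw [hG]; norm_num)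
  have pU : ∀ k < 36, Y k ∈ (D.bn j hj hr).B := fun k hk => by
    rw [D.bn_B, mem_comap, hY]
    refine S.R.U_le_Bor (S.U_eq ▸ list_prod_mem fun g hg => ?_)
    obtain ⟨i, hi, rfl⟩ := List.mem_map.1 hg
    rw [hX]
    exact rootTableE6.mem_Us' (c6.2.2.2.1 k hk i hi) (c6.1 _ (bl6_mem i)).1 _
  refine ⟨fun a => Y (a / 2), D.bn j hj hr, D.eJ j hj hr, fun a => ?_,
    fun u v h => hj (by rw [jel, jel, sX h]), D.eJ_bijective j hj hr, ?_, ?_, fun i => ?_, ?_, ?_, hG,
    TE6.simple_G hK, ?_, fun t ht => ?_, ?_⟩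
  · have e : (a ^^^ 1) / 2 = a / 2 := by
      have := Nat.shiftRight_xor_distrib (a := a) (b := 1) (i := 1)
      simpa [Nat.shiftRight_eq_div_pow] using this
    rw [e, eq_inv_iff_mul_eq_one]
    refine hj ?_
    rw [map_mul, hY, map_one, ← el_append]
    by_cases hk : a / 2 < ex6.length
    · exact sX (c6.2.2.1 _ (List.getD_eq_getElem _ [] hk ▸ List.getElem_mem hk)).2.2
    · rw [List.getD_eq_default _ _ (not_lt.1 hk)]; rfl
  · refine cl_le_iff.2 (List.forall_mem_cons.2 ⟨?_, fun u hu => ?_⟩)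
    · rw [D.bn_B, mem_comap, jel, sX c6.2.2.2.2]
      have e : el X [33, 78, 33, 35, 61, 35, 34, 79, 34, 36, 62, 36] = hh chevE6 (xC chevE6 K) 42 ω * hh chevE6 (xC chevE6 K) 37 (φ ω) := by
        have e1 : (ω : K)⁻¹ = φ ω := by
          rw [hq]; exact inv_eq_of_mul_eq_one_right (by linear_combination h4)
        have e2 : (φ ω)⁻¹ = ω := by rw [← e1, inv_inv]
        simp only [el_cons, el_nil, hX, hh, nn, CharTwo.neg_eq, e1, e2, inv_one, mul_assoc, mul_one]
        simp only [bl6, List.getD_cons_succ, List.getD_cons_zero, v1, v2, v3]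
        rfl
      rw [e]
      exact S.R.H_le_Bor (S.H_eq ▸ mul_mem (hh_mem_Hs (by decide) ω.ne_zero)
        (hh_mem_Hs (by decide) (by simp)))
    · obtain ⟨k, hk, rfl⟩ : ∃ k < 36, u = [2 * k] := by revert u; decide
      simpa using pU k hk
  · have h1 := E6.card_H S φ hφ hq hK (by norm_num)
    rw [D.card_bn_B, E6.card_U S φ hφ hq hK (by norm_num)]
    change 3 * Nat.card ↥(S.R.H ⊓ D.T) = 9 at h1
    omega
  · have key : ∀ k, E6.par (xC chevE6 K) φ ![(25, 0), (32, 0), (29, 34), (15, 35)] i (j (Y k)) →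
        j (Y k) ≠ 1 → Y k ∈ cell _ (gen _ (D.eJ j hj hr i)) := fun k h1 h3 => by
      obtain ⟨k1, k2⟩ := (E6.fix_neg S φ hφ i _).2 h1
      obtain ⟨u, hu, m, u', hu', f1, f2, f3, f4, f5⟩ :=
        D.levi_fixed (a := i) (((E6.tw S φ hφ).VJ_eq i).symm ▸ k1) k2 h3
      obtain ⟨u, rfl⟩ := D.exists_j j hr (D.mem_T_of_UJ hu f1)
      obtain ⟨u', rfl⟩ := D.exists_j j hr (D.mem_T_of_UJ hu' f2)
      obtain ⟨n, hn⟩ := D.exists_j j hr f3
      refine ⟨u, S.R.U_le_Bor (S.R.UJ_le_U _ hu), ⟨n, show j n ∈ S.R.N from hn ▸ m.2⟩, u',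
        S.R.U_le_Bor (S.R.UJ_le_U _ hu'), D.weylEmb_injective j hj hr ?_, hj (by simp [f5, hn])⟩
      rw [D.weylEmb_mk, D.weylEmb_gen, ← f4]
      exact congrArg _ (Subtype.ext hn)
    have k2 : ∀ a b, a < 36 → Y b ∈ cell _ (gen _ (D.eJ j hj hr i)) →
        el (fun a => Y (a / 2)) [2 * a, 2 * b, 2 * a] ∈ cell _ (gen _ (D.eJ j hj hr i)) := fun a b ha h => by
      simpa [mul_assoc] using mem_cell_mul (mul_mem_cell (pU a ha) h) (pU a ha)
    have n1 := E6.x_ne_one S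
    have n2 := E6.x_mul_ne_one S
    fin_cases i
    · exact k2 19 40 (by norm_num) (key 40 ⟨1, map_one φ, by simp [hY, ex6, hX, bl6, v1]⟩
        (by simpa [hY, ex6, hX, bl6, v1] using n1 25 (by decide)))
    · exact k2 27 36 (by norm_num) (key 36 ⟨1, map_one φ, by simp [hY, ex6, hX, bl6, v1]⟩
        (by simpa [hY, ex6, hX, bl6, v1] using n1 32 (by decide)))
    · exact k2 22 37 (by norm_num) (key 37 ⟨1, by simp [hY, ex6, hX, bl6, v1]⟩
        (by simpa [hY, ex6, hX, bl6, v1] using n2 29 34 (by decide +kernel) 1))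
    · exact k2 24 39 (by norm_num) (key 39 ⟨1, by simp [hY, ex6, hX, bl6, v1]⟩
        (by simpa [hY, ex6, hX, bl6, v1] using n2 15 35 (by decide +kernel) 1))
  · rw [D.orderOf_gen, E6.orderOf_wJ]; rfl
  · exact (BN.index_parabolic (P := D.bn j hj hr) (D.eJ j hj hr) (D.eJ_bijective j hj hr) _
      (fun a b => by rw [D.orderOf_gen, E6.orderOf_wJ]) 2 [1, 1, 2, 2] (fun a => by
        rw [D.card_cell_gen, E6.card_UJ S φ hφ hq hK (by norm_num)]; fin_cases a <;> rfl)
      isCartanForF4 S2341.orb_chk).trans (by decide)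
  · intro e
    have := congrArg j e
    exact E6.x_ne_one S 71 (by decide) (by simpa [hY, ex6, hX, bl6, v1] using this)
  · obtain ⟨g, hg, h⟩ := S2182.key S φ hφ (by
      simpa only [hq] using exists_pow_ne Nat.prime_two.isPrimePow le_rfl hK) (j t) (D.j_mem j hr t)
      (by rwa [orderOf_injective j hj])
    obtain ⟨g, rfl⟩ := D.exists_j j hr hg
    refine ⟨g, ?_⟩
    simp only [List.mem_cons, List.not_mem_nil, or_false] at h ⊢
    refine h.imp (fun h => hj ?_) (Or.imp (fun h => hj ?_) fun h => hj ?_) <;>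
      simpa [hY, ex6, hX, bl6, v1, oprod] using h
  · have := TE6.charP_closure hK
    have := TE6.simple_G hK
    obtain ⟨σ, j, h, ha⟩ := TE6.exists_model hK (algebraMap K (AlgebraicClosure K)) S5740.l39
    exact (h.reg ha.w (p := 13) (N := 39) (r := 7) (s := 371) (y := [7, 12, 4, 5, 8, 1])
      (y' := [4, 0, 6, 0, 5, 1]) (U := [[-16, 3, 4, 9, 2, -8], [6, -6, 18, 21, 9, 3],
      [-4, -9, -38, -27, -19, -2], [-14, -12, -16, -36, -8, -7], [10, 3, 17, 9, -11, 5],
      [7, 6, 8, 18, 4, -16]]) (w := ([([3], 2)] : List (List (Fin 6) × Fin 6))) (by decide +kernel)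
      (by rw [hG]; norm_num)).1

end Cfsg.Agent.E62
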