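import Cfsg.Agent.E62.MatV
import Cfsg.Agent.Chev.F22Emb
import Cfsg.Agent.Chev.BN

/-! Letters of `²E₆(2)`, an oracle for their relations, and the facts used about the group. -/

set_option autoImplicit false

namespace Cfsg.Agent.E62

open Cfsg.Agent.Comp Cfsg.Agent.WG Subgroup Cfsg.Agent.Chev Cfsg.Agent.Chev.BN

/-- root elements of `E₆(4)`: a root and the code of a field element -/
def bl6 : List (ℕ × ℕ) := [(70, 1), (69, 1), (66, 1), (68, 1), (66, 2), (68, 3), (55, 1), (67, 1), (55, 2), (67, 3), (65, 1), (54, 1), (64, 1), (54, 2), (64, 3), (53, 1), (63, 1), (52, 1), (62, 1), (52, 2), (62, 3), (49, 1), (61, 1), (49, 2), (61, 3), (51, 1), (48, 1), (50, 1), (48, 2), (50, 3), (47, 1), (46, 1), (71, 1), (42, 2), (37, 3), (42, 1), (37, 1), (56, 2), (36, 3), (56, 1), (36, 1), (38, 2), (57, 3), (38, 1), (57, 1), (39, 1), (40, 2), (43, 3), (40, 1), (43, 1), (41, 2), (58, 3), (41, 1), (58, 1), (44, 1), (45, 2), (59, 3), (45, 1), (59, 1), (60, 1),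 (32, 1), (29, 1), (34, 1), (29, 2), (34, 3), (15, 1), (35, 1), (25, 1), (0, 1), (1, 1), (2, 1), (6, 1), (8, 1), (11, 1), (18, 1), (20, 1), (24, 1), (27, 1), (29, 3), (34, 2)]

/-- Letters as words in root elements: `0..19` and `20` the group `2^(1+20)`, `21..35` the other
positive roots, `36..40` negative simple roots, `41..50` the other negative long roots. -/
def ex6 : List (List ℕ) := [[0], [1], [2, 3], [4, 5], [6, 7], [8, 9], [10], [11, 12], [13, 14], [15], [16], [17, 18], [19, 20], [21, 22], [23, 24], [25], [26, 27], [28, 29], [30], [31], [32], [33, 34], [35, 36], [37, 38], [39, 40], [41, 42], [43, 44], [45], [46, 47], [48, 49], [50, 51], [52, 53], [54], [55, 56], [57, 58], [59], [60], [61, 62], [63, 64], [65, 66], [67], [68], [69], [70], [71], [72], [73], [74], [75], [76], [77]]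

def mk6 (c k : ℕ) : ℕ := c % 2 * 2 ^ k ^^^ c / 2 * 2 ^ (27 + k)
def cd6 (p : ℕ × ℕ) (j : ℕ) : ℕ := if E6R.sg p.1 (j % 27) = 0 then 0 else
  mk6 (if j < 27 then p.2 else [0, 2, 3, 1].getD p.2 0) (E6R.tg p.1 (j % 27))
/-- a root element acting on `𝔽₄²⁷ = 𝔽₂⁵⁴` -/
def lt6 (p : ℕ × ℕ) : List (ℕ × ℕ) := ((List.range 54).filter fun j => cd6 p j ≠ 0).map fun j => (j, cd6 p j)
noncomputable def lo6 (a M : ℕ) : ℕ := Nat.xor M (BM.ap (Kron.rep 54 27 1) (lt6 (getL (70, 1) bl6 a)) M)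
noncomputable def I6 : ℕ := BM.idS 54 % 2 ^ (54 * 27)

noncomputable def fl (u : List ℕ) : List ℕ :=
  List.rec (motive := fun _ => List ℕ) [] (fun a _ ih => appendR (getL [] ex6 (Nat.shiftRight a 1)) ih) u

noncomputable def Q6 (u v : List ℕ) : Bool := Nat.beq (BM.wd lo6 u I6) (BM.wd lo6 v I6)

/-- the oracle -/
noncomputable def QM (u v : List ℕ) : Bool := Q6 (fl u) (fl v)

def pos : List (List ℕ) := [[0], [2], [4], [6], [8], [10], [12], [14], [16], [18], [20], [22], [24], [26], [28], [30], [32], [34], [36], [38], [40], [42], [44], [46], [48], [50], [52], [54], [56], [58], [60], [62], [64], [66], [68], [70]]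
def hw : List ℕ := [42, 74, 76, 42, 44, 74, 44]
def nw : Fin 4 → List ℕ := ![[38, 80, 38], [54, 72, 54], [44, 74, 44], [48, 78, 48]]

/-- what is used about `²E₆(2)` -/
structure Md {M : Type*} [Group M] (y : ℕ → M) (P : Cfsg.BNPair M) (e : Fin 4 → P.S) : Prop where
  inv : ∀ a, y (a ^^^ 1) = (y a)⁻¹
  sound : ∀ u v, QM u v = true → el y u = el y v
  bij : Function.Bijective e
  B_le : cl y (hw :: pos) ≤ P.B
  card_B : Nat.card P.B = 2 ^ 36 * 3
  cell : ∀ i, el y (nw i) ∈ cell P (gen P (e i))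
  ord : orderOf (gen P (e 0) * gen P (e 1)) = 3
  idx : (P.parabolic (Subtype.val '' (e '' {i | (i : ℕ) ≠ 0}))).index = 3968055
  card : Nat.card M = 2 ^ 36 * 3 ^ 9 * 5 ^ 2 * 7 ^ 2 * 11 * 13 * 17 * 19
  simple : IsSimpleGroup M
  z_ne : y 40 ≠ 1
  inv3 : ∀ t, orderOf t = 2 → ∃ g, g * t * g⁻¹ ∈ [el y [40], el y [40, 70], el y [40, 70, 64]]
  no221 : ∀ a t : M, orderOf a = 13 → Commute t a → t ^ 39 = 1

/-- the completed oracle -/
noncomputable def QC {M : Type*} [Group M] (y : ℕ → M) (u v : List ℕ) : Bool :=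
  or' (QM u v) (@decide (el y u = el y v) (Classical.propDecidable _))

theorem Md.wd {M : Type*} [Group M] {y : ℕ → M} {P : Cfsg.BNPair M} {e : Fin 4 → P.S} (h : Md y P e) :
    Wd y (QC y) :=
  ⟨h.inv, fun u v => by
    rw [QC, or'_eq_true, @decide_eq_true_iff _ (Classical.propDecidable _)]
    exact ⟨fun e => e.elim (h.sound u v) id, Or.inr⟩⟩

end Cfsg.Agent.E62
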