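import Cfsg.Agent.E62.Let
import Cfsg.Agent.Spor.U62Leech

/-! `Mb ≅ U₆(2)` and uniqueness of its faithful module of degree 20 over the field with two elements. -/

set_option autoImplicit false

namespace Cfsg.Agent.E62

open Cfsg.Agent.Comp.BM

namespace W4

open Cfsg.Agent.Comp Cfsg.Agent.WG

/-- the letters in `Mb` -/
noncomputable def Z (k : ℕ) : Mb := ⟨lu okS (2 * k), by
  simpa using el_mem okS rfl (fun _ => z_mem) [2 * k]⟩

/-- the standard representation -/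
noncomputable def r0 : Mb →* EW := (Units.coeHom _).comp Mb.subtype

theorem r0_inj : Function.Injective r0 := Units.val_injective.comp Subtype.val_injective

noncomputable def dbl (u : List ℕ) : List ℕ := mapR (Nat.mul 2) u

theorem opZ (u : List ℕ) : Op 20 20 (wo R LS (dbl u)) (r0 (el Z u)) := by
  have : ((el Z u : Mb) : L) = el (lu okS) (dbl u) := by
    induction u with
    | nil => rfl
    | cons a u ih => rw [el_cons, Subgroup.coe_mul, ih]; exact (el_cons _ _).symm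
  change Op 20 20 _ ((el Z u : Mb) : L).1
  exact this ▸ op_wo okS _

theorem eq_iff {F G : ℕ → ℕ} {A B : EW} (h : Op 20 20 F A) (h' : Op 20 20 G B) :
    eqS 20 (F I) (G I) = true ↔ A = B := okL_I ok ▸ h.eq_iff h'

/-- the oracle -/
noncomputable def QZ (u v : List ℕ) : Bool := eqS 20 (wo R LS (dbl u) I) (wo R LS (dbl v) I)

theorem QZ_iff (u v : List ℕ) : QZ u v = true ↔ el Z u = el Z v :=
  (eq_iff (opZ u) (opZ v)).trans r0_inj.eq_iff

theorem eq_top {D : Subgroup Mb} (h : ∀ k < 13, Z k ∈ D) : D = ⊤ := eq_top_iff.2 fun g _ => by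
  obtain ⟨a, ha, e⟩ := Mb_le (H := D.map Mb.subtype) (fun k hk => ⟨_, h k hk, rfl⟩) g.2
  exact Subtype.ext e ▸ ha

theorem stZ : St Z := by
  have h : allLT 4 (fun i => and' (allLT 4 fun k => QZ [i, k] [k, i]) (QZ [i, i, i] [])) = true := by
    decide +kernel
  simp only [allLT_iff, and'_eq_true, QZ_iff] at h
  exact ⟨fun i hi k hk => by simpa using (h i hi).1 k hk, fun i hi => by simpa using (h i hi).2⟩

def WT : List (List (List ℕ)) := [[[0], [1], [2], [3]],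
  [[0], [1], [2], [3]],
  [[0], [1], [2], [3]],
  [[0], [1], [2], [3]],
  [[0, 0], [0, 1], [2], [3]],
  [[0, 1], [1, 1], [1, 2], [3]],
  [[0], [1, 2], [2, 2], [2, 3]],
  [[0], [1], [2, 3], [3, 3]],
  [[0], [1], [2], [0, 1, 1, 3, 3]],
  [[0, 0], [0, 1], [2], [3]],
  [[3], [0, 1, 1, 3], [0, 2, 2, 3], [0]]]

def dg (n i : ℕ) : ℕ := n / 3 ^ i % 3

def code (l : ℕ → ℕ) : ℕ := l 0 % 3 + 3 * (l 1 % 3 + 3 * (l 2 % 3 + 3 * (l 3 % 3)))

theorem dg_code (l : ℕ → ℕ) {i : ℕ} (hi : i < 4) : dg (code l) i % 3 = l i % 3 := by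
  interval_cases i <;> simp only [dg, code] <;> omega

theorem code_lt (l : ℕ → ℕ) : code l < 81 := by rw [code]; omega

noncomputable def act (k n : ℕ) : ℕ := code fun i => lw (dg n) (getL [] (getL [] WT k) i)

theorem mv_act {k : ℕ} (hk : k < 11) (n : ℕ) : Mv Z (Z k) (dg n) (dg (act k n)) := by
  have h : allLT 11 (fun k => allLT 4 fun i => and' (allL (getL [] (getL [] WT k) i) (Nat.blt · 4))
      (QZ [i, k] (k :: getL [] (getL [] WT k) i))) = true := by decide +kernel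
  simp only [allLT_iff, and'_eq_true, QZ_iff, allL_iff, blt_iff] at h
  exact mv_of fun i hi => ⟨_, (h k hk i hi).1, by simpa using (h k hk i hi).2, dg_code _ hi⟩

noncomputable def run (w : List ℕ) (n : ℕ) : ℕ :=
  List.rec (motive := fun _ => ℕ) n (fun k _ ih => force ih (act k)) w

theorem mv_run {w : List ℕ} (hw : allL w (Nat.blt · 11) = true) (n : ℕ) :
    Mv Z (el Z w) (dg n) (dg (run w n)) := by
  simp only [allL_iff, blt_iff] at hw
  induction w with
  | nil => exact fun ρ p hp => by rw [el_nil, map_one]; exact hp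
  | cons k w ih =>
    have e : run (k :: w) n = act k (run w n) := force_eq _ _
    rw [el_cons, e]
    exact (ih fun j hj => hw j (List.mem_cons_of_mem _ hj)).mul (mv_act (hw k List.mem_cons_self) _)

def Has (ρ : Mb →* EW) (n : ℕ) : Prop := ∃ p, Wt ρ Z (dg n) p ∧ p.1 ≠ 0

theorem Has.run {ρ : Mb →* EW} {n : ℕ} (h : Has ρ n) {w : List ℕ} (hw : allL w (Nat.blt · 11) = true) :
    Has ρ (run w n) := by
  obtain ⟨p, hp, h0⟩ := h
  exact ⟨_, mv_run hw n ρ p hp, ne_zero_map ρ _ h0⟩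

noncomputable def chkF (r m : ℕ) (C : List ℕ) (P : List (List ℕ)) : Bool :=
  allLT m fun j => and' (and' (allL (getL [] P j) (Nat.blt · 11)) (Nat.beq (run (getL [] P j) r) (getL 0 C j)))
    (allLT m fun k => or' (Nat.beq j k) (not' (allLT 4 fun a => allLT 4 fun b =>
      Nat.beq (dg (getL 0 C j) a * dg (getL 0 C k) b % 3) (dg (getL 0 C j) b * dg (getL 0 C k) a % 3))))

theorem of_chkF {r m : ℕ} {C : List ℕ} {P : List (List ℕ)} (h : chkF r m C P = true) :
    (∀ j < m, allL (getL [] P j) (Nat.blt · 11) = true ∧ run (getL [] P j) r = getL 0 C j) ∧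
      Pairwise fun j k : Fin m => NP (dg (getL 0 C j)) (dg (getL 0 C k)) := by
  simp only [chkF, allLT_iff, and'_eq_true, or'_eq_true, not'_eq_true, beq_iff] at h
  refine ⟨fun j hj => (h j hj).1, fun j k n => ?_⟩
  have := ((h j j.2).2 k k.2).resolve_left fun e => n (Fin.ext e)
  push Not at this
  exact this

theorem not_has {ρ : Mb →* EW} {r : ℕ} {C : List ℕ} {P : List (List ℕ)} (h : chkF r 11 C P = true) :
    ¬ Has ρ r := fun hr => by
  obtain ⟨h1, h2⟩ := of_chkF h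
  choose p hp h0 using fun j : Fin 11 => (h1 j j.2).2 ▸ hr.run (h1 j j.2).1
  have := card_le hp h2 (fun j => by obtain ⟨k, hk⟩ := exists_ne j; exact (h2 hk.symm).nz) h0
  simp at this

def PP : List (List ℕ) := [[], [], [10, 6, 10], [6, 7, 8], [4, 10, 6, 10], [4], [6, 7, 8, 10], [4, 5, 8, 10], [8, 7, 6, 5], [], [], [10, 6, 10], [4, 5, 10], [8, 10, 6], [4], [4, 5], [6, 5, 7, 8], [8, 7, 10, 6], [10], [6, 10], [6, 5, 7, 6], [4, 5, 10], [8, 7, 6], [6, 7, 10], [4, 5], [4, 5, 8, 10], [4, 8, 7, 6], [8, 10, 6, 10], [8], [6, 5, 4], [10], [6, 10], [4, 8], [10, 6, 7], [6, 5], [6, 5], [4, 10, 6], [8], [8, 7, 10], [10], [4, 6, 5], [4, 8], [4, 5, 8], [8, 10], [6, 8, 10], [4, 5, 6], [6, 5, 10], [8, 7, 10], [6], [6], [6, 5, 7, 10], [4, 5, 8], [8, 10], [4, 6], [4, 5, 6, 7], [6, 5, 4, 10], [4, 8, 7, 10], [6, 7], [6, 7], [10, 6, 5], [4, 5, 8, 7], [4, 8, 10], [4, 6, 7], [4, 5, 10, 6], [8, 7], [6, 5, 4, 7], [4, 10], [4, 6, 10], [4, 8, 7], [10,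 6], [6, 5, 7], [6, 5, 7], [4, 5, 6, 8], [8, 7], [4, 8, 7, 10], [4, 10], [6, 8], [4, 8, 7], [10, 6], [4, 8, 10], [4, 6, 8]]

theorem has9 {ρ : Mb →* EW} (hρ : Function.Injective ρ) : Has ρ 9 := by
  obtain ⟨l, p, hp, h0, i, hi, n⟩ := stZ.exists_wt ((map_ne_one_iff _ hρ).2 fun e =>
    absurd ((QZ_iff [0] []).2 (by simpa using e)) (by decide +kernel))
  have h : Has ρ (code l) := ⟨p, hp.congr fun i hi => dg_code l hi, h0⟩
  have c : allLT 81 (fun n => or' (Nat.beq n 0) (and' (allL (getL [] PP n) (Nat.blt · 11))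
      (force (run (getL [] PP n) n) fun m => or' (Nat.beq m 1) (or' (Nat.beq m 10) (Nat.beq m 9))))) =
      true := by decide +kernel
  simp only [allLT_iff, or'_eq_true, force_eq, and'_eq_true, beq_iff] at c
  rcases c _ (code_lt l) with e | ⟨hw, e | e | e⟩
  · exact absurd (by rw [← dg_code l hi, e]; simp [dg]) n
  · exact absurd (e ▸ h.run hw) (not_has (C := [1, 5, 28, 39, 15, 32, 75, 64, 52, 45, 36])
      (P := [[], [4], [8], [10], [5, 4], [8, 4], [10, 4], [7, 8], [10, 8], [6, 5, 4], [6, 10, 4]]) (by decide +kernel))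
  · exact absurd (e ▸ h.run hw) (not_has (C := [10, 14, 49, 37, 30, 24, 53, 41, 66, 35, 76])
      (P := [[], [4], [6], [8], [10], [5, 4], [6, 4], [8, 4], [10, 4], [5, 6], [8, 6]]) (by decide +kernel))
  · exact e ▸ h.run hw

def C9 : List ℕ := [9, 48, 34, 57, 19, 29, 70, 46, 3, 23]

def P9 : List (List ℕ) := [[], [6], [5, 6], [7, 6], [10, 6], [4, 5, 6], [7, 5, 6], [10, 5, 6], [8, 7, 6], [10, 7, 6]]

theorem frZ : Fr Z (fun j => dg (getL 0 C9 j)) fun j => el Z (getL [] P9 j) := by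
  obtain ⟨h1, h2⟩ := of_chkF (r := 9) (m := 10) (C := C9) (P := P9) (by decide +kernel)
  exact ⟨fun j => (h1 j j.2).2 ▸ mv_run (h1 j j.2).1 9, h2, rfl⟩

theorem exists_good {ρ : Mb →* EW} (hρ : Function.Injective ρ) : ∃ p, Wt ρ Z (dg 9) p ∧ p.1 ≠ 0 ∧
    ∀ w, allL w (fun a => anyL [4, 5, 7, 8, 10] (Nat.beq a)) = true → ρ (el Z w) p.1 = p.1 := by
  have sq : ∀ k, QZ [k, k] [] = true → Z k * Z k = 1 := fun k h => by simpa using (QZ_iff _ _).1 h
  obtain ⟨p, hp, h0⟩ := has9 hρ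
  obtain ⟨p, hp, h0, h1⟩ := frZ.exists_norm hp h0 (sq 10 (by decide +kernel)) fun ρ p hp =>
    (mv_act (k := 10) (by norm_num) 9 ρ p hp).congr (by decide +kernel)
  have h2 : ∀ k < 11, QZ [k, k] [] = true → act k 9 = 9 → ρ (Z k) p.1 = p.1 := fun k hk a b =>
    frZ.fix_of hp h0 (sq k a) (by have := mv_act hk 9; rwa [b] at this)
  refine ⟨p, hp, h0, fun w hw => ?_⟩
  simp only [allL_iff, anyL_iff, beq_iff, exists_eq_right'] at hw
  induction w with
  | nil => rw [el_nil, map_one]; rfl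
  | cons a w ih =>
    rw [el_cons, map_mul, Module.End.mul_apply, ih fun j hj => hw j (List.mem_cons_of_mem _ hj)]
    have := hw a List.mem_cons_self
    simp only [List.mem_cons, List.not_mem_nil, or_false] at this
    rcases this with rfl | rfl | rfl | rfl | rfl
    exacts [h2 4 (by norm_num) (by decide +kernel) (by decide +kernel),
      h2 5 (by norm_num) (by decide +kernel) (by decide +kernel),
      h2 7 (by norm_num) (by decide +kernel) (by decide +kernel),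
      h2 8 (by norm_num) (by decide +kernel) (by decide +kernel), h1]

noncomputable def chkS (c : List ℕ) (ST : List (List (ℕ × List ℕ × List ℕ))) : Bool :=
  allLT 11 fun k => allLT 10 fun j => anyL [getL (0, [], []) (getL [] ST k) j] fun q =>
    and' (Nat.blt q.1 10) (and' (allL q.2.1 (Nat.blt · 4))
      (and' (allL q.2.2 fun a => anyL [4, 5, 7, 8, 10] (Nat.beq a))
        (QZ (k :: appendR (getL [] P9 j) c) (appendR (getL [] P9 q.1) (appendR q.2.1 q.2.2)))))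

theorem chkS0 : chkS [] [[(0, [0], []), (1, [0], []), (2, [0, 1, 2], []), (3, [0], []), (4, [2, 3], []), (5, [0, 0, 1, 1, 2, 2], []), (6, [0, 1, 2], []), (7, [2, 3], []), (8, [0], []), (9, [2, 2, 3, 3], [])],
  [(0, [1], []), (1, [1, 2], []), (2, [1, 1, 2, 2], []), (3, [1, 2], []), (4, [0, 1, 1, 3], []), (5, [0], []), (6, [1, 1, 2, 2], []), (7, [0, 1, 1, 3], []), (8, [1, 2], []), (9, [0, 1, 1, 2, 3, 3], [])],
  [(0, [2], []), (1, [2, 2], []), (2, [1], []), (3, [3], []), (4, [0, 2, 2, 3], []), (5, [1], []), (6, [1, 2, 3], []), (7, [0, 2, 2, 3], []), (8, [3], []), (9, [0, 2, 2, 3], [])],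
  [(0, [3], []), (1, [2, 3], []), (2, [2, 3], []), (3, [2, 2, 3, 3], []), (4, [0], []), (5, [2, 3], []), (6, [2, 2, 3, 3], []), (7, [0, 1, 2], []), (8, [0, 1, 1, 3], []), (9, [0], [])],
  [(0, [], [4]), (1, [], [4]), (5, [], []), (3, [], [4]), (9, [], []), (2, [], []), (7, [], [10, 8, 7, 4, 5]), (6, [], [10, 8, 7, 4, 5]), (8, [], [4]), (4, [], [])],
  [(0, [], [5]), (2, [], []), (1, [], []), (6, [], []), (4, [], [8]), (5, [], [4]), (3, [], []), (7, [], [8]), (9, [], [10, 8, 7, 4, 5]), (8, [], [10, 8, 7, 4, 5])],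
  [(1, [], []), (0, [], []), (2, [], [5]), (3, [], [7]), (6, [], [8, 7, 4, 5]), (5, [], [5]), (4, [], [7, 8, 5, 4]), (9, [], [10, 7, 8, 5, 4]), (8, [], [7]), (7, [], [10, 7, 8, 5, 4])],
  [(0, [], [7]), (3, [], []), (6, [], []), (1, [], []), (4, [], [4]), (7, [], [10, 8, 7, 4, 5]), (2, [], []), (5, [], [10, 8, 7, 4, 5]), (8, [], [8]), (9, [], [4])],
  [(0, [], [8]), (1, [], [8]), (2, [], [8]), (8, [], []), (7, [], []), (5, [], [8]), (9, [], [10, 8, 7, 4, 5]), (4, [], []), (3, [], []), (6, [], [10, 8, 7, 4, 5])],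
  [(0, [0], [4]), (1, [0], [4]), (5, [0, 0, 1, 1, 2, 2], []), (3, [0], [4]), (9, [2, 2, 3, 3], []), (2, [0, 1, 2], []), (7, [2, 3], [10, 8, 7, 4, 5]), (6, [0, 1, 2], [10, 8, 7, 4, 5]), (8, [0], [4]), (4, [2, 3], [])],
  [(0, [], [10]), (4, [], []), (7, [], []), (9, [], []), (1, [], []), (5, [], [10, 8, 7, 4, 5]), (6, [], [10, 8, 7, 4, 5]), (2, [], []), (8, [], [10, 8, 7, 4, 5]), (3, [], [])]] = true := by decide +kernel

theorem chkS1 : chkS [2] [[(0, [0, 2], []), (1, [0, 2], []), (2, [0, 1, 2, 2], []), (3, [0, 2], []), (4, [2, 2, 3], []), (5, [0, 0, 1, 1], []), (6, [0, 1, 2, 2], []), (7, [2, 2, 3], []), (8, [0, 2], []), (9, [3, 3], [])],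
  [(0, [1, 2], []), (1, [1, 2, 2], []), (2, [1, 1], []), (3, [1, 2, 2], []), (4, [0, 1, 1, 2, 3], []), (5, [0, 2], []), (6, [1, 1], []), (7, [0, 1, 1, 2, 3], []), (8, [1, 2, 2], []), (9, [0, 1, 1, 2, 2, 3, 3], [])],
  [(0, [2, 2], []), (1, [], []), (2, [1, 2], []), (3, [2, 3], []), (4, [0, 3], []), (5, [1, 2], []), (6, [1, 2, 2, 3], []), (7, [0, 3], []), (8, [2, 3], []), (9, [0, 3], [])],
  [(0, [2, 3], []), (1, [2, 2, 3], []), (2, [2, 2, 3], []), (3, [3, 3], []), (4, [0, 2], []), (5, [2, 2, 3], []), (6, [3, 3], []), (7, [0, 1, 2, 2], []), (8, [0, 1, 1, 2, 3], []), (9, [0, 2], [])],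
  [(0, [2], [4]), (1, [2], [4]), (5, [2], []), (3, [2], [4]), (9, [2], []), (2, [2], []), (7, [2, 2], [10, 8, 7, 4, 5]), (6, [2, 2], [10, 8, 7, 4, 5]), (8, [2], [4]), (4, [2], [])],
  [(0, [1, 2], [5]), (2, [2], []), (1, [2], []), (6, [2], []), (4, [2], [8]), (5, [2], [4]), (3, [2], []), (7, [2], [8]), (9, [2, 2], [10, 8, 7, 4, 5]), (8, [2, 2], [10, 8, 7, 4, 5])],
  [(1, [2], []), (0, [2], []), (2, [1, 2], [5]), (3, [2, 3], [7]), (6, [0, 0, 2, 3, 3], [8, 7, 4, 5]), (5, [1, 2], [5]), (4, [1, 2, 3], [7, 8, 5, 4]), (9, [1, 1, 2, 2, 3, 3], [10, 7, 8, 5, 4]), (8, [2, 3], [7]), (7, [1, 1, 2, 2, 3, 3], [10, 7, 8, 5, 4])],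
  [(0, [2, 3], [7]), (3, [2], []), (6, [2], []), (1, [2], []), (4, [2], [4]), (7, [2, 2], [10, 8, 7, 4, 5]), (2, [2], []), (5, [2, 2], [10, 8, 7, 4, 5]), (8, [2], [8]), (9, [2], [4])],
  [(0, [2], [8]), (1, [2], [8]), (2, [2], [8]), (8, [2], []), (7, [2], []), (5, [2], [8]), (9, [2, 2], [10, 8, 7, 4, 5]), (4, [2], []), (3, [2], []), (6, [2, 2], [10, 8, 7, 4, 5])],
  [(0, [0, 2], [4]), (1, [0, 2], [4]), (5, [0, 0, 1, 1], []), (3, [0, 2], [4]), (9, [3, 3], []), (2, [0, 1, 2, 2], []), (7, [3], [10, 8, 7, 4, 5]), (6, [0, 1], [10, 8, 7, 4, 5]), (8, [0, 2], [4]), (4, [2, 2, 3], [])],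
  [(0, [0, 2, 2, 3], [10]), (4, [2], []), (7, [2], []), (9, [2], []), (1, [2], []), (5, [2, 2], [10, 8, 7, 4, 5]), (6, [2, 2], [10, 8, 7, 4, 5]), (2, [2], []), (8, [2, 2], [10, 8, 7, 4, 5]), (3, [2], [])]] = true := by decide +kernel

theorem exists_T {ρ : Mb →* EW} (hρ : Function.Injective ρ) :
    ∃ T : V ≃ₗ[ZMod 2] V, ∀ k < 11, ∀ v, T (r0 (Z k) v) = ρ (Z k) (T v) := by
  obtain ⟨p₁, a1, n1, f1⟩ := exists_good r0_inj
  obtain ⟨p₂, a2, n2, f2⟩ := exists_good hρ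
  obtain ⟨T, hT⟩ := frZ.exists_T a1 n1 a2 n2 (u := [2]) (by simp [L4]) (by decide +kernel)
  refine ⟨T, fun k hk => hT _ fun j c hc => ?_⟩
  obtain ⟨ST, h⟩ : ∃ ST, chkS c ST = true := by
    simp only [List.mem_cons, List.not_mem_nil, or_false] at hc
    rcases hc with rfl | rfl
    exacts [⟨_, chkS0⟩, ⟨_, chkS1⟩]
  rw [chkS, allLT_iff] at h
  obtain ⟨q, -, h⟩ := (anyL_iff _ _).1 ((allLT_iff _ _).1 (h k hk) j j.2)
  simp only [and'_eq_true, blt_iff, QZ_iff, appendR_eq, el_cons, el_append] at h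
  exact ⟨⟨q.1, h.1⟩, q.2.1, _, by simpa only [allL_iff, blt_iff, L4] using h.2.1, f1 _ h.2.2.1, f2 _ h.2.2.1,
    h.2.2.2⟩

/-- the map commuting with the words of `T` and sending the generating vector to `p` -/
noncomputable def Sop (T : List (List ℕ × ℕ)) (p : ℕ) : ℕ → ℕ :=
  smA (fun q M => wo R LS (dbl q.1) (apm 20 20 (rkf q.2 p) M)) T

theorem op_Sop (T : List (List ℕ × ℕ)) {p : ℕ} (hp : p < 2 ^ 20) :
    Op 20 20 (Sop T p) (T.map fun q => r0 (el Z q.1) * mat 20 (rkf q.2 p)).sum :=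
  op_smA fun q _ => (opZ q.1).comp (op_rk _ hp)

noncomputable def chkP (m r : ℕ) (cs : List ℕ) (F K : List (ℕ × ℕ)) (w : ℕ) (T : List (List ℕ × ℕ)) : Bool :=
  and' (allL cs fun c => and' (Nat.blt c 11) (QZ [c, m] [m, c]))
  (and' (and' (Nat.blt r 11) (QZ [m, r, m, r, m, r] []))
  (and' (allL F fun q => and' (anyL cs (Nat.beq q.1)) (Nat.beq (wo R LS (dbl [q.1]) w) w))
  (and' (sml 20 K)
  (and' (eqS 20 (Nat.xor (rkS 20 K I) (smA (fun q M => apm 20 20 (Dig.dig 20 q.2)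
    (Nat.xor (wo R LS (dbl [q.1]) M) M)) F I)) I)
  (and' (allL T fun q => allL q.1 fun a => anyL cs (Nat.beq a))
  (and' (and' (Nat.blt w (Nat.pow 2 20)) (eqS 20 (Sop T w I) I))
  (allL (spn (K.map (·.2))) fun p => or' (eqS 20 (Sop T p I) (wo R LS (dbl [m]) I))
    (not' (eqS 20 (Sop T p (wo R LS (dbl [r]) (Sop T p (wo R LS (dbl [r]) (Sop T p
      (wo R LS (dbl [r]) I)))))) I)))))))))

theorem pin {m r : ℕ} {cs : List ℕ} {F K : List (ℕ × ℕ)} {w : ℕ} {T : List (List ℕ × ℕ)}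
    (h : chkP m r cs F K w T = true) {ρ : Mb →* EW} (hρ : ∀ k < 11, ρ (Z k) = r0 (Z k)) :
    ρ (Z m) = r0 (Z m) := by
  simp only [chkP, and'_eq_true, allL_iff, anyL_iff, beq_iff, exists_eq_right', blt_iff, QZ_iff,
    or'_eq_true, not'_eq_true, el_cons, el_nil, mul_one] at h
  obtain ⟨h1, ⟨h2, h3⟩, h4, h5, h6, h7, ⟨h8, h9⟩, h10⟩ := h
  have h5' := sml_spec h5
  have c1 : ∀ c ∈ cs, ρ (Z m) * r0 (Z c) = r0 (Z c) * ρ (Z m) := fun c hc => by
    rw [← hρ c (h1 c hc).1, ← map_mul, ← map_mul, (h1 c hc).2]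
  have c2 : ∀ u : List ℕ, (∀ a ∈ u, a ∈ cs) → ρ (Z m) * r0 (el Z u) = r0 (el Z u) * ρ (Z m) := by
    intro u hu
    induction u with
    | nil => simp
    | cons a u ih =>
      rw [el_cons, map_mul, ← mul_assoc, c1 a (hu a List.mem_cons_self), mul_assoc,
        ih fun j hj => hu j (List.mem_cons_of_mem _ hj), mul_assoc]
  have hK : ∀ a ∈ K.map (·.2), a < 2 ^ 20 := fun a ha => by
    obtain ⟨q, hq, rfl⟩ := List.mem_map.1 ha
    exact h5' q hq
  obtain ⟨s1, -, s2⟩ := spn_spec hK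
  obtain ⟨p, hp, e⟩ := (s2 (ρ (Z m) (vec 20 w))).1 (by
    have := LinearMap.congr_fun ((eq_iff ((op_smA (l := K) fun q hq => op_rk q.1 (h5' q hq)).add
      (op_smA (l := F) fun q _ => (op_mat (f := Dig.dig 20 q.2) fun _ _ => Dig.dig_lt _ _ _).comp
        ((opZ [q.1]).add Op.id))) Op.id).1 h6) (ρ (Z m) (vec 20 w))
    rw [LinearMap.add_apply, lsum_apply, lsum_apply, Module.End.one_apply] at this
    rw [← this]
    refine add_mem (lsum_mem fun q hq => ?_) (lsum_mem fun q hq => ?_)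
    · rw [rk_apply]
      exact Submodule.smul_mem _ _ (Submodule.subset_span ⟨_, List.mem_map_of_mem hq, rfl⟩)
    · have e := (opZ [q.1]).vec (by norm_num) w
      rw [(h4 q hq).2] at e
      rw [Module.End.mul_apply, LinearMap.add_apply, ← Module.End.mul_apply (r0 _),
        ← c2 [q.1] (by simpa using (h4 q hq).1), Module.End.mul_apply, ← e, Module.End.one_apply, vv,
        map_zero]
      exact zero_mem _)
  have o : Op 20 20 (Sop T p) (ρ (Z m)) := by
    have e1 := (eq_iff (op_Sop T h8) Op.id).1 h9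
    have e2 : ρ (Z m) = (T.map fun q => r0 (el Z q.1) * mat 20 (rkf q.2 p)).sum := by
      rw [← mul_one (ρ (Z m)), ← e1, ← List.sum_map_mul_left]
      refine congrArg List.sum (List.map_congr_left fun q hq => ?_)
      rw [← mul_assoc, c2 _ (h7 q hq), mul_assoc]
      refine congrArg _ (LinearMap.ext fun v => ?_)
      rw [Module.End.mul_apply, rk_apply, rk_apply, map_smul, e]
    exact e2 ▸ op_Sop T (s1 p hp)
  rcases h10 p hp with e | e
  · simpa using (eq_iff o (opZ [m])).1 e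
  · refine absurd ((eq_iff (o.comp ((opZ [r]).comp (o.comp ((opZ [r]).comp (o.comp (opZ [r])))))) Op.id).2 ?_) e
    simp only [el_cons, el_nil, mul_one, ← hρ r h2, ← map_mul, h3, map_one]

theorem chkP11 : chkP 11 9 [4, 5, 6, 7, 8]
    [(4, 7482892664877301059082509518365277409123783768276992),
  (5, 565391384248442991274332736241914969300362930645931137085783757656961318912),
  (7, 83217038439545667774061271955844198272420731105791193902711707598022318625934877987374388128788737968344896235733254144),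
  (8, 1067993517960455041197510853084776057703086772243073953859011347765597851180495820621364835909696)]
    [(4, 4), (8, 8), (65536, 90112), (131072, 139264)] 90112
    [([], 65572), ([6], 609316), ([5, 6], 871652), ([7, 6], 642054), ([4, 5, 6], 344292), ([7, 5, 6], 904903), ([8, 7, 6], 4102), ([7, 4, 5, 6], 344773), ([6, 7, 5, 6], 131721), ([8, 7, 5, 6], 4359), ([6, 7, 4, 5, 6], 166539), ([8, 7, 4, 5, 6], 261), ([8, 6, 7, 5, 6], 24905), ([5, 6, 7, 4, 5, 6], 165898), ([8, 6, 7, 4, 5, 6], 30027), ([7, 8, 6, 7, 5, 6], 24952), ([8, 5, 6, 7, 4, 5, 6], 29706), ([7, 8, 6, 7, 4, 5, 6], 30072), ([7, 8, 5, 6, 7, 4, 5, 6], 29752), ([6, 7, 8, 5, 6, 7, 4, 5, 6], 56)] = true := by decide +kernel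

theorem chkP12 : chkP 12 4 [9, 5, 6, 7, 8]
    [(9, 17917966481370577368099867824634378903181622388695285705810992595876766258320190685609220038021204672512),
  (5, 572458785987529862167985823578394186873488203052005824188556423013936922624),
  (7, 83236739470826376006953410210568060552836843400105844719502619161519924906294422077766853597426535844386959329207517184),
  (8, 1067993517960455041197510853084776057703086772243073953859011347765597851180495820621364835909696)]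
    [(2048, 3076), (4096, 5132), (65536, 90120), (131072, 139276)] 3076
    [([], 676), ([6], 493220), ([5, 6], 492772), ([7, 6], 492710), ([9, 5, 6], 221184), ([7, 5, 6], 493287), ([8, 7, 6], 202918), ([7, 9, 5, 6], 221232), ([6, 7, 5, 6], 681), ([8, 7, 5, 6], 203047), ([6, 7, 9, 5, 6], 200752), ([8, 7, 9, 5, 6], 65584), ([8, 6, 7, 5, 6], 205161), ([5, 6, 7, 9, 5, 6], 201008), ([8, 6, 7, 9, 5, 6], 618544), ([7, 8, 6, 7, 5, 6], 205176), ([8, 5, 6, 7, 9, 5, 6], 880944), ([7, 8, 6, 7, 9, 5, 6], 651264), ([7, 8, 5, 6, 7, 9, 5, 6], 914176), ([6, 7, 8, 5, 6, 7, 9, 5, 6], 131840)] = true := by decide +kernel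

theorem main (ρ : Mb →* EW) (hρ : Function.Injective ρ) :
    ∃ T : V ≃ₗ[ZMod 2] V, ∀ (g : Mb) (v : V), T (r0 g v) = ρ g (T v) := by
  obtain ⟨T, hT⟩ := exists_T hρ
  let σ : Mb →* EW := T.symm.conjRingEquiv.toMonoidHom.comp ρ
  have hσ : ∀ g v, T (σ g v) = ρ g (T v) := fun g v => by simp [σ]
  have h1 : ∀ k < 11, σ (Z k) = r0 (Z k) := fun k hk =>
    LinearMap.ext fun v => T.injective (by rw [hσ, hT k hk])
  have top := eq_top (D := σ.eqLocus r0) fun k hk => by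
    rcases (show k < 11 ∨ k = 11 ∨ k = 12 by omega) with h | rfl | rfl
    · exact h1 k h
    · exact pin chkP11 h1
    · exact pin chkP12 h1
  refine ⟨T, fun g v => ?_⟩
  rw [← hσ, show σ g = r0 g from top.ge (Subgroup.mem_top g)]

end W4

theorem exists_psu (F : Type*) [Field F] [Fintype F] (hF : Fintype.card F = 4) :
    Nonempty (Cfsg.PSU 6 F 2 ≃* Mb) :=
  W4.iso.map (Class.psuCongr 6 2 (Class.ringEquivGF4 hF)).trans

theorem card_Mb : Nat.card Mb = 9196830720 :=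
  W4.iso.elim fun e => (Nat.card_congr e.toEquiv).symm.trans Spor.ModelU62P.card

theorem u62_module (ρ : Mb →* EV 20) (hρ : Function.Injective ρ) :
    ∃ T : V ≃ₗ[ZMod 2] V, ∀ (g : Mb) (v : V), T ((g : L).1 v) = ρ g (T v) := W4.main ρ hρ

end Cfsg.Agent.E62
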