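import Cfsg.Agent.E62.MtK
import Cfsg.Agent.Grp.MinNormal

/-! The local structure of `²E₆(2)`. -/

set_option autoImplicit false

namespace Cfsg.Agent.E62

open Cfsg.Agent.Comp Cfsg.Agent.Comp.BM Cfsg.Agent.WG Subgroup Cfsg.Agent.TT Cfsg.Agent.XSC
  Cfsg.Agent.Chev Cfsg.Agent.Chev.BN
open scoped commutatorElement

theorem mem_or {M : Type*} [Group M] {O : Subgroup M} {g b : M} (g2 : g * g = 1)
    (hn : g ∈ normalizer (O : Set M)) (hb : b ∈ O ⊔ zpowers g) : b ∈ O ∨ b * g⁻¹ ∈ O := by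
  rw [← SetLike.mem_coe, coe_mul_of_right_le_normalizer_left _ _ (zpowers_le.2 hn)] at hb
  obtain ⟨o, ho, _, ⟨k, rfl⟩, rfl⟩ := hb
  rcases Int.even_or_odd' k with ⟨j, rfl | rfl⟩
  · exact Or.inl (by simpa [zpow_mul, zpow_ofNat, sq, g2] using ho)
  · exact Or.inr (by simpa [zpow_add, zpow_mul, zpow_ofNat, sq, g2] using ho)

theorem Pre.eq_of {G : Type*} [Group G] {z : G} {ψ : ES →* G} {α : G → L} (h : Pre z ψ α) {c : G}
    (hc : c * z = z * c) {g : L} (hg : ∀ i : Fin 20, ∃ f, c * ψ (eE i) * c⁻¹ = ψ f ∧ f.v = g.1 (ee i)) : α c = g :=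
  Units.ext ((Pi.basisFun (ZMod 2) (Fin 20)).ext fun i => by
    obtain ⟨f, h1, h2⟩ := hg i
    rw [Pi.basisFun_apply, ← ee_eq, ← h2]
    exact (h.act_v hc h1).symm)

/-- the letters of the extraspecial group -/
def qE (i : ℕ) : ES := if i = 20 then zE else eE i

theorem el_qE {l : List ℕ} : (el qE l).v = vec 20 (cd l % 2 ^ 20) := by
  have k : ∀ a, vec 20 (a % 2 ^ 20) = vec 20 a := fun a => funext fun i => by
    simp only [vec, Nat.testBit_mod_two_pow, i.2, decide_true, Bool.true_and]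
  rw [k]
  induction l with
  | nil => exact vec_zero.symm
  | cons a l ih =>
    rw [el_cons, ESM.mul_v, ih, show cd (a :: l) = 2 ^ a ^^^ cd l from rfl, vec_xor, qE]
    split_ifs with h
    · rw [h, ← k (2 ^ 20), Nat.mod_self, vec_zero]; rfl
    · rfl

theorem enum8 {w : ES} (h : w.v ∈ Sp 20 3) : ∃ u ∈ [1, eE 0, eE 1, eE 0 * eE 1], w = u ∨ w = u * zE := by
  have e : w.v = w.v 0 • ee 0 + w.v 1 • ee 1 := funext fun i => by
    rw [show ee 0 = _ from ee_eq 0, show ee 1 = _ from ee_eq 1]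
    by_cases h0 : i = 0
    · simp [h0]
    by_cases h1 : i = 1
    · simp [h1]
    simpa [h0, h1] using h i (by revert i; decide)
  rcases zmod_two_cases (w.v 0) with a | a <;> rcases zmod_two_cases (w.v 1) with b | b <;> rw [a, b] at e
  exacts [⟨1, by simp, ESM.eq_or_of_v_eq (by simpa using e)⟩, ⟨eE 1, by simp, ESM.eq_or_of_v_eq (by simpa using e)⟩,
    ⟨eE 0, by simp, ESM.eq_or_of_v_eq (by simpa using e)⟩, ⟨eE 0 * eE 1, by simp, ESM.eq_or_of_v_eq (by simpa using e)⟩]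

namespace Md

variable {M : Type*} [Group M] [Finite M] {y : ℕ → M} {P : Cfsg.BNPair M} {e : Fin 4 → P.S} (h : Md y P e)
include h

omit [Finite M] in
theorem kn {H : Subgroup M} {K : ℕ} (n : ℕ) (hK : K < 2 ^ n) (hH : ∀ a < n, K.testBit a = true → y (2 * a) ∈ H) :
    Kn y H K := fun a ha =>
  h.wd.mem_of_even (hH _ (lt_of_not_ge fun e => by
    rw [Nat.testBit_eq_false_of_lt (hK.trans_le (Nat.pow_le_pow_right two_pos e))] at ha
    exact Bool.false_ne_true ha) ha)

omit [Finite M] in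
theorem cjm {H : Subgroup M} {K : ℕ} (hK : Kn y H K) {g : List ℕ} {us vs : List (List ℕ)}
    (hb : cj K g us vs = true) : ∀ u ∈ us, el y g * el y u * (el y g)⁻¹ ∈ H := fun u hu => by
  obtain ⟨v, hv⟩ := exists_of_forall₂ (forall₂_of_all2 hb) hu
  rw [and'_eq_true] at hv
  rw [← el_append, h.sound _ _ hv.2, el_append, mul_inv_cancel_right]
  exact hK.word hv.1

theorem nrm {K : ℕ} {g : List ℕ} {us vs ws : List (List ℕ)} (hb : cj K g us vs = true)
    (hK : allSet 10 K (fun j => anyL (ws ++ us) (eqL [Nat.mul 2 j])) = true)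
    (hw : ∀ w ∈ ws, QM (g ++ w) (w ++ g) = true) : el y g ∈ normalizer (cl y (ws ++ us) : Set M) :=
  le_normalizer_cl (gs := [g]) (fun _ hg u hu => by
    rw [List.mem_singleton.1 hg]
    rcases List.mem_append.1 hu with h1 | h1
    · rw [← el_append, h.sound _ _ (hw u h1), el_append, mul_inv_cancel_right]
      exact el_mem_cl hu
    · exact h.cjm (h.wd.kn_of_mem le_rfl hK) hb u h1) (el_mem_cl (.head _))

omit [Finite M] in
theorem sq {a : ℕ} (ha : a < 51) : y (2 * a) * y (2 * a) = 1 := by simpa using h.sound _ _ (k1.1 a ha)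

omit [Finite M] in
theorem cz {a : ℕ} (ha : a < 40) : y (2 * a) * y 40 = y 40 * y (2 * a) := by simpa using h.sound _ _ (k1.2.1 a ha)

omit [Finite M] in
theorem bruhat {K : Subgroup M} (hK : P.B ≤ K) {p : M → Prop} (p1 : p 1)
    (ps : ∀ i, el y (nw i) ∈ K → ∀ n, p n → p (el y (nw i) * n)) {g : M} (hg : g ∈ K) :
    ∃ b ∈ P.B, ∃ b' ∈ P.B, ∃ n, p n ∧ g = b * n * b' := by
  obtain ⟨l, hl, h1⟩ := exists_reduced_cell (P := P) g
  have h2 := letters_mem_of_mem hK hl h1 hg
  obtain ⟨n, h3, h4⟩ : ∃ n ∈ BN.cell P (wprod (gen P) l), p n := by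
    clear h1
    induction l with
    | nil => exact ⟨1, mem_cell_one.2 (one_mem _), p1⟩
    | cons s l ih =>
      have h1 := involGen.reduced_tail hl
      obtain ⟨n, h3, h4⟩ := ih h1 fun t ht => h2 t (.tail _ ht)
      obtain ⟨i, rfl⟩ := h.bij.2 s
      exact ⟨el y (nw i) * n, cell_gen_mul_of_le (h1.le.trans ((Nat.le_succ _).trans hl.ge)) (h.cell i) h3,
        ps i (mem_of_mem_cell hK (simple_mem_cell _) (h.cell i) (h2 _ (.head _))) n h4⟩
  obtain ⟨b, hb, b', hb', rfl⟩ := exists_mul_of_mem_cell h3 h1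
  exact ⟨b, hb, b', hb', n, h4, rfl⟩

theorem exists_st : ∃ ψ α, St (y 40) ψ α ∧ (∀ i : Fin 20, ψ (eE i) = y (2 * i)) ∧
    (∀ m, m * y 40 = y 40 * m → α m ∈ Mb) ∧ (∀ k < 19, α (y (42 + 2 * k)) = x (2 * k)) ∧ P.B = cl y (hw :: pos) ∧
    (centralizer {y 40}).index = 3968055 := by
  classical
  obtain ⟨ψ, hz, hp⟩ := exists_psi (z := y 40) (g := fun i => y (2 * i)) (h.sq (a := 20) (by omega))
    (fun i => h.cz (by omega)) (fun i => h.sq (by omega)) fun i j => by
      have := h.sound _ _ (k1.2.2.1 i j)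
      rw [commutatorElement_def]
      split_ifs at this ⊢ <;> simp at this <;> simp [this, mul_assoc]
  have hi := inj_of_ne (hz ▸ h.z_ne)
  have pq : ∀ i < 21, ψ (qE i) = y (2 * i) := fun i hi => by
    rw [qE]; split_ifs with e
    exacts [by rw [hz, e], hp ⟨i, by omega⟩]
  have tb : ∀ k < 19, ∀ i : Fin 20, ∃ f, y (42 + 2 * k) * ψ (eE i) * (y (42 + 2 * k))⁻¹ = ψ f ∧
      f.v = (x (2 * k)).1 (ee i) := fun k hk i => by
    have := k1.2.2.2 k hk i i.2
    simp only [force_eq, forceW_eq, and'_eq_true, beq_iff, Comp.allL_iff, blt_iff] at this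
    obtain ⟨h1, h2, h3⟩ := this
    refine ⟨el qE _, ?_, el_qE.trans (by rw [h1, vw]; simp [ee])⟩
    rw [hp, mul_inv_eq_iff_eq_mul, el, map_list_prod, List.map_map,
      List.map_congr_left (f := ψ ∘ qE) (g := fun a => y (2 * a)) fun a ha => pq a (h2 a ha)]
    simpa [el, List.map_map, Function.comp_def] using h.sound _ _ h3
  let N := normalizer (ψ.range : Set M)
  have kN : Kn y N (2 ^ 40 - 1) := h.kn 40 (by norm_num) fun a ha _ => by
    by_cases h1 : a < 21
    · exact le_normalizer ⟨_, pq a h1⟩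
    obtain ⟨k, rfl⟩ : ∃ k, a = 21 + k := ⟨a - 21, by omega⟩
    have : closure (Set.range (fun i : Fin 20 => eE i) ∪ {zE}) ≤
        ψ.range.comap ((MulAut.conj (y (2 * (21 + k)))).toMonoidHom.comp ψ) := (closure_le _).2 (by
      rintro _ (⟨i, rfl⟩ | rfl)
      · obtain ⟨f, hf, -⟩ := tb k (by omega) i
        exact ⟨f, by rw [← hf, mul_add]; rfl⟩
      · exact ⟨zE, by simp [hz, h.cz ha]⟩)
    exact mem_normalizer_fintype (by rintro _ ⟨f, rfl⟩; exact this (closure_ES ▸ Subgroup.mem_top f))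
  let ψN : ES →* N := ψ.codRestrict N fun f => le_normalizer ⟨f, rfl⟩
  obtain ⟨β, p⟩ := exists_pre (ψ := ψN) (fun a b e => hi (congrArg Subtype.val e)) rfl fun c _ f =>
    let ⟨f', e⟩ := conj_mem_of_norm c.2 ⟨f, rfl⟩; ⟨f', Subtype.ext e⟩
  have cN : ∀ c : N, c * ψN zE = ψN zE * c := fun c => p.comm_of_norm fun f =>
    let ⟨f', e⟩ := conj_mem_of_norm c.2 ⟨f, rfl⟩; ⟨f', Subtype.ext e⟩
  have NC : N ≤ centralizer {y 40} := fun c hc =>
    mem_centralizer_singleton_iff.2 (hz ▸ congrArg Subtype.val (cN ⟨c, hc⟩))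
  let φ : N →* L := MonoidHom.mk' β fun a b => p.mul (cN a) (cN b)
  have yN : ∀ k < 19, y (42 + 2 * k) ∈ N := fun k hk => kN _ (by
    rw [Nat.testBit_two_pow_sub_one]; simp; omega)
  have φy : ∀ k hk, φ ⟨_, yN k hk⟩ = x (2 * k) := fun k hk => p.eq_of (cN _) fun i =>
    let ⟨f, a, b⟩ := tb k hk i; ⟨f, Subtype.ext a, b⟩
  have BN : cl y (hw :: pos) ≤ N := kN.cl_le (by decide +kernel)
  have r := k2.1
  simp only [List.forall_mem_cons] at r
  have hB : P.B = cl y (hw :: pos) := by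
    have c1 := Grp.card_map_mul_card_inf_ker φ ((cl y (hw :: pos)).subgroupOf N)
    have c2 : T1 ≤ ((cl y (hw :: pos)).subgroupOf N).map φ := cl_le_iff.2 fun u hu => by
      obtain ⟨k, hk, rfl, h1⟩ : ∃ k < 19, u = [2 * k] ∧ [42 + 2 * k] ∈ hw :: pos := by revert u; decide
      exact ⟨⟨_, yN k hk⟩, by simpa [mem_subgroupOf] using el_mem_cl (x := y) h1, by simpa using φy k hk⟩
    have c3 : ψN.range ≤ (cl y (hw :: pos)).subgroupOf N ⊓ φ.ker := by
      have : closure (Set.range (fun i : Fin 20 => eE i) ∪ {zE}) ≤ (cl y (hw :: pos)).comap ψ := (closure_le _).2 (by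
        rintro _ (⟨i, rfl⟩ | rfl)
        · simpa [hp] using el_mem_cl (x := y) (show [2 * (i : ℕ)] ∈ hw :: pos by revert i; decide)
        · simpa [hz] using el_mem_cl (x := y) (show [40] ∈ hw :: pos by decide))
      rintro _ ⟨f, rfl⟩
      exact ⟨this (closure_ES ▸ Subgroup.mem_top f), p.at_psi f⟩
    have c4 := mul_dvd_mul (card_T1 ▸ card_dvd_of_le c2) (p.card ▸ card_dvd_of_le c3)
    rw [c1, Nat.card_congr (subgroupOfEquivOfLe BN).toEquiv] at c4
    have := Fact.mk Nat.prime_three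
    have c5 : orderOf (el y hw) = 3 := orderOf_eq_prime (by
      simpa [el_powW] using h.sound _ _ r.2.2.2.2.2.2.2.2.2.1) fun e => by
      have := h.sound _ _ r.2.2.2.2.2.2.2.2.2.2.1
      simp only [el_append, e, el_cons, el_nil, mul_one, one_mul] at this
      exact absurd (congrFun (congrArg ESM.v (hi ((hp 2).trans (this.trans (hp 3).symm)))) 2) (by decide)
    refine (eq_of_le_of_card_ge h.B_le ?_).symm
    rw [h.card_B]
    exact Nat.le_of_dvd Nat.card_pos (Nat.Coprime.mul_dvd_of_dvd_of_dvd (by norm_num) (by simpa using c4)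
      (c5 ▸ orderOf_dvd_natCard _ (el_mem_cl (.head _))))
  have BC := hB ▸ BN.trans NC
  have par : ∀ K : Subgroup M, P.B ≤ K → (∀ i, i ≠ 0 → el y (nw i) ∈ K) → centralizer {y 40} ≤ K := fun K h1 h2 => by
    rw [eq_parabolic BC]
    refine sup_le h1 ((closure_le _).2 fun s hs => ?_)
    obtain ⟨i, hi'⟩ := h.bij.2 ⟨s, hs.1⟩
    obtain rfl : (e i : M) = s := congrArg Subtype.val hi'
    refine mem_of_mem_cell h1 (h.cell i) (simple_mem_cell _) (h2 i ?_)
    rintro rfl
    have h3 := mem_centralizer_singleton_iff.1 (mem_of_mem_cell BC (simple_mem_cell _) (h.cell 0) hs.2)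
    have h4 := h.sound _ _ r.2.2.2.2.2.2.2.2.2.2.2.1
    simp only [el_append, el_cons, el_nil, mul_one, h3, mul_left_inj] at h4
    exact absurd (congrFun (congrArg ESM.v (hi (hz.trans (h4.trans (hp 0).symm)))) 0) (by decide)
  have kK : Kn y ((Mb.comap φ).map N.subtype) (2 ^ 40 - 1) := h.kn 40 (by norm_num) fun a ha _ => by
    by_cases h1 : a < 21
    · exact ⟨ψN (qE a), show β _ ∈ Mb from p.at_psi _ ▸ one_mem _, pq a h1⟩
    · obtain ⟨k, rfl⟩ : ∃ k, a = 21 + k := ⟨a - 21, by omega⟩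
      exact ⟨⟨_, yN k (by omega)⟩, show φ _ ∈ Mb from φy k (by omega) ▸ kn_Mb _ (by
        rw [show 524287 = 2 ^ 19 - 1 from rfl, Nat.testBit_two_pow_sub_one]; simp; omega), by rw [mul_add]; rfl⟩
  have CK := par _ (hB ▸ kK.cl_le (by decide +kernel)) fun i hi => kK.word (by revert i; decide +kernel)
  have CN : centralizer {y 40} ≤ N := CK.trans (map_subtype_le _)
  have ix : (centralizer {y 40}).index = 3968055 := by
    rw [← h.idx]
    congr 1
    refine le_antisymm (par _ (B_le_parabolic _) fun i hi => mem_of_mem_cell (B_le_parabolic _) (simple_mem_cell _)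
      (h.cell i) (mem_parabolic_of_mem ⟨_, ⟨i, fun e => hi (Fin.ext e), rfl⟩, rfl⟩)) (sup_le BC ((closure_le _).2 ?_))
    rintro _ ⟨_, ⟨i, hi, rfl⟩, rfl⟩
    exact mem_of_mem_cell BC (h.cell i) (simple_mem_cell _) (NC (kN.word (by revert i; decide +kernel)))
  have rφ : φ.range = Mb := le_antisymm (by
    rintro _ ⟨c, rfl⟩
    obtain ⟨d, h1, h2⟩ := CK (NC c.2)
    exact Subtype.ext h2 ▸ h1) (cl_le_iff.2 fun u hu => by
      obtain ⟨k, hk, rfl⟩ : ∃ k < 19, u = [2 * k] := by revert u; decide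
      exact ⟨_, by simpa using φy k hk⟩)
  have kφ : ψN.range = φ.ker := eq_of_le_of_card_ge (by rintro _ ⟨f, rfl⟩; exact p.at_psi f) (by
    have c1 := φ.ker.index_mul_card
    have c2 := (centralizer {y 40}).index_mul_card
    rw [index_ker, rφ, card_Mb, show Nat.card N = Nat.card (centralizer {y 40}) by rw [le_antisymm NC CN]] at c1
    rw [ix, h.card, ← c1] at c2
    rw [p.card]; omega)
  have cm : ∀ {c}, c * y 40 = y 40 * c → c ∈ N := fun hc => CN (mem_centralizer_singleton_iff.2 hc)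
  have le1 : ∀ c, c * y 40 = y 40 * c → (if hc : c ∈ N then φ ⟨c, hc⟩ else 1) ∈ Mb := fun c hc => by
    rw [dif_pos (cm hc)]; exact rφ.le ⟨_, rfl⟩
  refine ⟨ψ, fun c => if hc : c ∈ N then φ ⟨c, hc⟩ else 1, ⟨⟨hi, hz, fun c hc f => ?_⟩, fun c hc e => ?_,
    fun c hc => Mb_le_Mb2 (le1 c hc), fun a ha => ?_⟩, hp, le1, fun k hk => (dif_pos (yN k hk)).trans (φy k hk), hB, ix⟩
  · obtain ⟨f', h1, h2⟩ := p.act ⟨c, cm hc⟩ (cN _) f
    exact ⟨f', congrArg Subtype.val h1, by rw [dif_pos (cm hc)]; exact h2⟩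
  · rw [dif_pos (cm hc)] at e
    obtain ⟨f, hf⟩ := kφ.ge e
    exact ⟨f, congrArg Subtype.val hf⟩
  · obtain ⟨c, rfl⟩ := rφ.ge ha
    exact ⟨c, mem_centralizer_singleton_iff.1 (NC c.2), dif_pos c.2⟩

theorem exists_mt : ∃ ψ α, Mt y P e ψ α := by
  obtain ⟨ψ, α, st, hp, le1, al, hB, ix⟩ := h.exists_st
  obtain ⟨r, a1, a2, a3, a4, a5, a6, a7, a8, a9, b1, b2, b3, b4, b7, b5, b6⟩ := k2
  simp only [List.forall_mem_cons] at r a4
  obtain ⟨r1, r2, r3, r4, r5, r6, r7, r8, r9, -, -, s0, s1, s2, s3, s4, s5, -⟩ := r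
  have hz := st.z_eq
  have p0 : ψ (eE 0) = y 0 := hp 0
  have p1 : ψ (eE 1) = y 2 := hp 1
  have p19 : ψ (eE 19) = y 38 := hp 19
  have kq : ∀ (U : Subgroup ES) K, K < 2 ^ 21 → (∀ a < 20, K.testBit a = true → eE a ∈ U) →
      (K.testBit 20 = true → zE ∈ U) → Kn y (U.map ψ) K := fun U K h1 h2 h3 => h.kn 21 h1 fun a ha e => by
    by_cases h4 : a = 20
    exacts [⟨_, h3 (h4 ▸ e), by rw [hz, h4]⟩, ⟨_, h2 a (by omega) e, hp ⟨a, by omega⟩⟩]
  have kC : Kn y (centralizer {y 40}) (2 ^ 40 - 1) := h.kn 40 (by norm_num) fun a ha _ =>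
    mem_centralizer_singleton_iff.2 (h.cz ha)
  have BC : P.B ≤ centralizer {y 40} := hB ▸ kC.cl_le (by decide +kernel)
  have H : ∀ (us : List (List ℕ)) (a : ℕ), a < 51 → (∀ u ∈ pos, u ∈ us ∨ u = [2 * a]) → (∀ u ∈ us, u ∈ pos) → ∀ n : M,
      n ∈ normalizer (cl y ([hw] ++ us) : Set M) → el y [2 * a] ∈ normalizer (cl y ([hw] ++ us) : Set M) →
      ∀ b ∈ P.B, n * b * n⁻¹ ∈ P.B ∨ n * (b * (y (2 * a))⁻¹) * n⁻¹ ∈ P.B := fun us a ha h1 h2 n h3 h4 b hb => by
    have h5 : cl y ([hw] ++ us) ≤ P.B := hB ▸ cl_mono (List.forall_mem_cons.2 ⟨.head _, fun u hu => .tail _ (h2 u hu)⟩)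
    refine (mem_or (h.sq ha) (by simpa using h4) ((cl_le_iff.2 (List.forall_mem_cons.2
      ⟨mem_sup_left (el_mem_cl (.head _)), fun u hu => ?_⟩)) (hB ▸ hb))).imp
        (fun e => h5 (conj_mem_of_norm h3 e)) fun e => h5 (conj_mem_of_norm h3 e)
    rcases h1 u hu with e | rfl
    exacts [mem_sup_left (el_mem_cl (.tail _ e)), mem_sup_right (by simp)]
  have kR := kq ⊤ (2 ^ 21 - 1) (by norm_num) (fun _ _ _ => trivial) fun _ => trivial
  have cq : ∀ {g u v : List ℕ}, QM (g ++ u) (v ++ g) = true → el y g * el y u * (el y g)⁻¹ = el y v := fun e => by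
    rw [← el_append, h.sound _ _ e, el_append, mul_inv_cancel_right]
  refine ⟨ψ, α, h, st, hp, le1, fun k hk => ⟨by rw [show 42 + 2 * k = 2 * (21 + k) by ring, h.cz (by omega)], al k hk⟩,
    hB, ix, ?_, fun a ha => ?_, fun a ha => ?_, fun k hk => ?_,
    H _ 19 (by omega) (by decide) (by decide) _ (h.nrm b1 (by decide +kernel) (by simpa using a4.1))
      (h.nrm b3 (by decide +kernel) (by simpa using a4.2.2.1)),
    H _ 27 (by omega) (by decide) (by decide) _ (h.nrm b2 (by decide +kernel) (by simpa using a4.2.1))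
      (h.nrm b4 (by decide +kernel) (by simpa using a4.2.2.2.1)),
    by simpa [el_powW, _root_.sq] using h.sound _ _ r4, by simpa [el_powW, _root_.sq] using h.sound _ _ r5,
    by simpa [el_powW] using h.sound _ _ r6, by simpa [el_powW] using h.sound _ _ r7,
    by simpa using cq (v := [36]) r8, by simpa using cq (v := [54]) r9,
    h.nrm (ws := []) a8 (by decide +kernel) (by simp), h.nrm (ws := []) a9 (by decide +kernel) (by simp),
    fun w hw h1 h2 => ?_, fun t ht => ?_, fun t ht => ?_, fun w hw h1 => ?_, fun c hc => ?_, fun K h1 h2 => ?_⟩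
  · have := rho_of st.toPre (p := y 80) (h.sq (a := 40) (by omega)) (by
      simpa [p0, inv_eq_of_mul_eq_one_right (h.sq (a := 40) (by omega)), mul_assoc] using h.sound _ _ r1)
      (by simpa [p0] using h.sound _ _ r2) (fun f hf => mem_centralizer_singleton_iff.1
        (EE_le (K := (centralizer {y 80}).comap ψ) (fun i hi e => mem_centralizer_singleton_iff.2 (by
          simpa [hp ⟨i, hi⟩] using (h.sound _ _ (a2 i hi e)).symm)) hf) |>.symm) (m := 0)
      (by simpa [el_powW, p19] using h.sound _ _ r3)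
    simpa [p19] using this
  · obtain ⟨k, hk, rfl⟩ : ∃ k < 40, a = 2 * k := by revert a; decide
    have c1 : y (2 * k) * y 38 = y 38 * y (2 * k) := by simpa using h.sound _ _ (a3 _ ha).1
    have c2 : y (2 * k) * y 80 = y 80 * y (2 * k) := by simpa using h.sound _ _ (a3 _ ha).2
    obtain ⟨vs, c3⟩ := exists_of_forall₂ (forall₂_of_all2 a5) ha
    refine ⟨h.cz hk, Commute.mul_right c1 c2, p19 ▸ c1, fun f hf => EE_le
      (K := (EE.map ψ).comap ((MulAut.conj (y (2 * k))⁻¹).toMonoidHom.comp ψ)) (fun i hi e => ?_) hf |>.imp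
        fun f' h' => ⟨h'.1, by simpa using h'.2.symm⟩⟩
    simpa [hp ⟨i, hi⟩, inv_eq_of_mul_eq_one_right (h.sq (a := k) (by omega))] using h.cjm (kq EE 1022 (by norm_num)
      (fun a ha e => ⟨vec_mem_Sp (by revert a; decide +kernel), rfl⟩) (absurd · (by decide))) c3 [2 * i] (by revert i; decide)
  · obtain ⟨⟨g, b, c⟩, h1⟩ := exists_of_forall₂ (forall₂_of_all2 a6) ha
    rw [and'_eq_true, decide_eq_true_iff] at h1
    have := h.sound _ _ h1.2
    simp only [el_cons, el_append] at this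
    exact ⟨g, b, c, h1.1, by rw [commutatorElement_def, eq_mul_inv_of_mul_eq this]; group⟩
  · obtain ⟨f, h1, h2⟩ := h.cjm (kq (hat SP) 524287 (by norm_num) (fun a ha e => vec_mem_Sp (by
      revert a; decide +kernel)) fun _ => zero_mem SP) a7 _ (List.mem_map_of_mem (List.mem_range.2 hk))
    refine ⟨f, h1, ?_⟩
    have i1 := inv_eq_of_mul_eq_one_right (h.sq (a := 19) (by omega))
    have i2 := inv_eq_of_mul_eq_one_right (h.sq (a := 40) (by omega))
    rw [h2, show el y [80, 38] = (y 38 * y 80)⁻¹ by simp [i1, i2]]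
    simp [mul_assoc]
  · have n := fun {a b : ES} (i : Fin 20) (e : ψ a = ψ b) => congrFun (congrArg ESM.v (st.inj e)) i
    have c1 := cq (v := [2]) s1
    have c2 := cq (v := [40]) s2
    have c3 := cq s3
    simp only [el_append, el_cons, el_nil, mul_one, ← p0, ← p1, ← hz, ← map_mul] at c1 c2 c3
    obtain ⟨u, hu, rfl | rfl⟩ := enum8 hw
    · simp only [List.mem_cons, List.not_mem_nil, or_false] at hu
      rcases hu with rfl | rfl | rfl | rfl
      exacts [rfl, absurd (n 0 (h1.symm.trans c1)) (by decide), absurd (n 1 (h1.symm.trans c2)) (by decide),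
        absurd (n 0 (h1.symm.trans c3)) (by decide)]
    · obtain ⟨l, hl, e⟩ : ∃ l ∈ [[], [0], [2], [0, 2]], ψ u = el y l := by
        simp only [List.mem_cons, List.not_mem_nil, or_false] at hu
        rcases hu with rfl | rfl | rfl | rfl <;> simp [p0, p1]
      rw [map_mul, e, hz] at h2
      exact (h.z_ne (Eq.trans (by simpa [el_powW, mul_assoc] using (h.sound _ _ (a1 l hl)).symm) h2)).elim
  · obtain ⟨g, hg⟩ := h.inv3 t ht
    simp only [List.mem_cons, List.not_mem_nil, or_false] at hg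
    rcases hg with e | e | e
    · exact ⟨g, zE, by simpa [hz] using e⟩
    · obtain ⟨f, -, hf⟩ := kR.word (u := [0, 20]) (by decide +kernel)
      exact ⟨el y (nw 0) * g, f, by rw [hf, ← cq s4, ← e]; group⟩
    · obtain ⟨f, -, hf⟩ := kR.word (u := [0, 20, 30]) (by decide +kernel)
      exact ⟨el y (nw 0) * g, f, by rw [hf, ← cq s5, ← e]; group⟩
  · obtain ⟨g, rfl⟩ := isConj_iff.1 ht
    obtain ⟨b, hb, b', hb', n, ⟨r, hr, e⟩, rfl⟩ := h.bruhat le_top (p := fun n => ∃ r ∈ LR, n * y 40 * n⁻¹ = y r)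
      ⟨40, by decide, by simp⟩ (fun i _ n ⟨r, hr, e⟩ => by
        obtain ⟨r', h5⟩ := exists_of_forall₂ (forall₂_of_all2 (b7 i)) hr
        rw [and'_eq_true, decide_eq_true_iff] at h5
        exact ⟨r', h5.1, by simpa [← e, mul_assoc] using cq (v := [r']) h5.2⟩) (Subgroup.mem_top g)
    replace e : b * n * b' * y 40 * (b * n * b')⁻¹ = b * y r * b⁻¹ := by
      rw [← e, mul_assoc _ b', mem_centralizer_singleton_iff.1 (BC hb')]; group
    have cb := mem_centralizer_singleton_iff.1 (BC hb)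
    have c2 : y 40 * (b * y r * b⁻¹) = b * (y 40 * y r) * b⁻¹ := by rw [← mul_assoc, ← mul_assoc, ← cb, mul_assoc b]
    obtain ⟨u, h1⟩ := exists_of_forall₂ (forall₂_of_all2 b5) hr
    simp only [or'_eq_true, and'_eq_true, blt_iff] at h1
    rw [e, c2, conj_pow, conj_pow]
    rcases h1 with h1 | h1 | h1 | ⟨h1, h2⟩
    · obtain ⟨f, -, hf⟩ := kR r (by rw [Nat.testBit_two_pow_sub_one]; simp; omega)
      obtain ⟨f', h2, -⟩ := st.act b cb f
      exact Or.inl ⟨f', by rw [← h2, hf]⟩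
    · exact Or.inr (Or.inr (Or.inr (by simpa [el_powW] using h.sound _ _ h1)))
    · exact Or.inr (Or.inr (Or.inl (isConj_iff.2 ⟨b * el y u, by
        have := cq h1
        simp only [el_cons, el_nil, mul_one] at this
        rw [_root_.sq, mul_assoc (y 40), ← this]; group⟩)))
    · exact Or.inr (Or.inl ⟨el y u * b⁻¹, mem_centralizer_singleton_iff.1 (mul_mem (kC.word h1) (inv_mem (BC hb))), by
        simpa [mul_assoc] using cq (v := [70]) h2⟩)
  · obtain ⟨l, hl, e⟩ : ∃ l ∈ [[0], [2], [0, 2], [40], [0, 40], [2, 40], [0, 2, 40]], ψ w = el y l := by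
      obtain ⟨u, hu, rfl | rfl⟩ := enum8 hw <;> simp only [List.mem_cons, List.not_mem_nil, or_false] at hu <;>
        rcases hu with rfl | rfl | rfl | rfl <;> simp_all [mul_assoc]
    obtain ⟨g, hg⟩ := exists_of_forall₂ (forall₂_of_all2 b6) hl
    exact isConj_iff.2 ⟨_, by simpa [e] using cq hg⟩
  · have aw : ∀ u : List ℕ, (∀ a ∈ u, ∃ k < 19, a = 42 + 2 * k) →
        el y u * y 40 = y 40 * el y u ∧ α (el y u) = el x (u.map (· - 42)) := fun u hu => by
      induction u with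
      | nil => exact ⟨by simp, st.one⟩
      | cons a u ih =>
        obtain ⟨⟨k, hk, rfl⟩, h1⟩ := List.forall_mem_cons.1 hu
        have h2 : y (42 + 2 * k) * y 40 = _ := show 2 * (21 + k) = 42 + 2 * k by ring ▸ h.cz (by omega)
        exact ⟨comm_mul_left h2 (ih h1).1, by simp [st.mul h2 (ih h1).1, al k hk, (ih h1).2]⟩
    have cB : P.B ≤ ((centralizer {x 28}).comap st.αh).map (centralizer {y 40}).subtype := by
      refine hB.le.trans (cl_le_iff.2 fun u hu => ⟨⟨_, BC (hB ▸ el_mem_cl hu)⟩, ?_, rfl⟩)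
      change α (el y u) ∈ centralizer {x 28}
      rcases (show inK (2 ^ 21 - 1) u = true ∨ (∀ a ∈ u, ∃ k < 19, a = 42 + 2 * k) ∧
        Q (u.map (· - 42) ++ [28]) (28 :: u.map (· - 42)) = true by revert u; decide +kernel) with h1 | ⟨h1, h2⟩
      · obtain ⟨f, -, hf⟩ := kR.word h1
        exact hf ▸ st.at_psi f ▸ one_mem _
      · exact mem_centralizer_singleton_iff.2 (by simpa [(aw u h1).2] using E62.wd.eq h2)
    obtain ⟨_, hb, _, hb', n, ⟨h1, w, hw, e⟩, rfl⟩ := h.bruhat BC (p := fun n => n * y 40 = y 40 * n ∧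
      ∃ w ∈ W6, α n * x 28 * (α n)⁻¹ = el x w) ⟨by simp, [28], by decide, by simp [st.one]⟩
      (fun i hi n ⟨h1, w, hw, e⟩ => by
        have h2 : i ≠ 0 := by
          rintro rfl
          have := cq (v := [0]) s0
          simp only [el_cons, el_nil, mul_one, mem_centralizer_singleton_iff.1 hi, mul_inv_cancel_right] at this
          exact absurd (congrFun (congrArg ESM.v (st.inj (hz.trans (this.trans p0.symm)))) 0) (by decide)
        obtain ⟨h3, h4⟩ := aw (nw i) (by clear hi; revert i; decide)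
        obtain ⟨w', h5, h6⟩ := W6_step ((nw i).map (· - 42)) (by clear hi h3 h4; revert i; decide) w hw
        exact ⟨comm_mul_left h3 h1, w', h5, by rw [st.mul h3 h1, h4, ← E62.wd.eq h6, E62.wd.el_cjW, ← e]; group⟩)
      (mem_centralizer_singleton_iff.2 hc)
    obtain ⟨b, h2, rfl⟩ := cB hb
    obtain ⟨b', h3, rfl⟩ := cB hb'
    have h4 := mem_centralizer_singleton_iff.1 b.2
    have h5 : α b' * x 28 = x 28 * α b' := mem_centralizer_singleton_iff.1 h3
    exact ⟨α b, mem_centralizer_singleton_iff.1 h2, w, hw, by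
      rw [coe_subtype, st.mul (comm_mul_left h4 h1) (mem_centralizer_singleton_iff.1 b'.2), st.mul h4 h1, ← e,
        mul_assoc _ (α b'), h5]; group⟩
  · have kK : Kn y K (2 ^ 41 - 1) := h.kn 41 (by norm_num) fun a ha _ => by
      by_cases e : a = 40
      exacts [e ▸ h2, h1 (mem_centralizer_singleton_iff.2 (h.cz (by omega)))]
    rw [eq_top_iff, ← parabolic_S (P := P)]
    refine sup_le (BC.trans h1) ((closure_le _).2 fun s hs => ?_)
    obtain ⟨i, hi⟩ := h.bij.2 ⟨s, hs⟩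
    obtain rfl : (e i : M) = s := congrArg Subtype.val hi
    exact mem_of_mem_cell (BC.trans h1) (h.cell i) (simple_mem_cell _) (kK.word (by
      clear hi hs; revert i; decide +kernel))

end Md

end Cfsg.Agent.E62
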