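import Cfsg.Agent.E62.MdDef
import Cfsg.Agent.E62.GV
import Cfsg.Agent.E62.MatW

/-! Consequences of the relations between the letters of `²E₆(2)`. -/

set_option autoImplicit false

namespace Cfsg.Agent.E62

open Cfsg.Agent.Comp Cfsg.Agent.Comp.BM Cfsg.Agent.WG Subgroup
open scoped commutatorElement

def sl : List ℕ := [42, 44, 46, 48, 50, 52, 74, 76, 78]
def os : List (List ℕ) := [[0], [2], [4], [6], [8], [10], [12], [14], [16], [18], [20], [22], [24], [26], [28], [30], [32], [34], [40], [42], [44], [46], [48], [50], [52], [56], [58], [60], [62], [64], [66], [68], [70]]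

/-- the local structure of `²E₆(2)` -/
structure Mt {M : Type*} [Group M] (y : ℕ → M) (P : Cfsg.BNPair M) (e : Fin 4 → P.S) (ψ : ES →* M)
    (α : M → L) : Prop where
  md : Md y P e
  st : St (y 40) ψ α
  psi : ∀ i : Fin 20, ψ (eE i) = y (2 * i)
  le1 : ∀ m, m * y 40 = y 40 * m → α m ∈ Mb
  al : ∀ k < 19, y (42 + 2 * k) * y 40 = y 40 * y (42 + 2 * k) ∧ α (y (42 + 2 * k)) = x (2 * k)
  B_eq : P.B = cl y (hw :: pos)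
  idx : (centralizer {y 40}).index = 3968055
  rho : Rho (y 40) ψ (y 38 * y 80)
  gd : ∀ a ∈ sl, Gd (y 40) ψ (y 38 * y 80) (y a)
  perf : ∀ a ∈ sl, ∃ g b c : List ℕ, (∀ i ∈ g ++ (b ++ c), i ∈ sl) ∧
    y a = el y g * ⁅el y b, el y c⁆ * (el y g)⁻¹
  aa : ∀ k < 9, ∃ f : ES, f.v ∈ SP ∧ y (54 + 2 * k) = y 38 * y 80 * ψ f * (y 38 * y 80)⁻¹
  Ha : ∀ b ∈ P.B, el y (nw 0) * b * (el y (nw 0))⁻¹ ∈ P.B ∨ el y (nw 0) * (b * (y 38)⁻¹) * (el y (nw 0))⁻¹ ∈ P.B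
  Hb : ∀ b ∈ P.B, el y (nw 1) * b * (el y (nw 1))⁻¹ ∈ P.B ∨ el y (nw 1) * (b * (y 54)⁻¹) * (el y (nw 1))⁻¹ ∈ P.B
  n0 : el y (nw 0) * el y (nw 0) = 1
  n1 : el y (nw 1) * el y (nw 1) = 1
  n01 : (el y (nw 0) * el y (nw 1)) ^ 3 = 1
  n0x : (el y (nw 0) * y 38) ^ 3 = 1
  c1 : el y (nw 1) * y 38 * (el y (nw 1))⁻¹ = y 36
  c0 : el y (nw 0) * y 36 * (el y (nw 0))⁻¹ = y 54
  o0 : el y (nw 0) ∈ normalizer (cl y os : Set M)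
  o1 : el y (nw 1) ∈ normalizer (cl y os : Set M)
  pi : ∀ w : ES, w.v ∈ Sp 20 3 → el y (nw 0) * el y (nw 1) * ψ w * (el y (nw 0) * el y (nw 1))⁻¹ = ψ w →
    (ψ w * el y (nw 1) * y 54) ^ 3 = 1 → w = 1
  F1 : ∀ t, orderOf t = 2 → ∃ g f, g * t * g⁻¹ = ψ f
  F2 : ∀ t, IsConj (y 40) t → t ∈ ψ.range ∨ (∃ c, c * y 40 = y 40 * c ∧ c * t * c⁻¹ = y 70) ∨
    IsConj (y 40) ((y 40 * t) ^ 2) ∨ (y 40 * t) ^ 3 = 1
  F3 : ∀ w : ES, w.v ∈ Sp 20 3 → w ≠ 1 → IsConj (y 40) (ψ w)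
  F4 : ∀ c, c * y 40 = y 40 * c → ∃ b : L, b * x 28 = x 28 * b ∧ ∃ w ∈ W6, α c * x 28 * (α c)⁻¹ = b * el x w * b⁻¹
  gen : ∀ K : Subgroup M, centralizer {y 40} ≤ K → y 80 ∈ K → K = ⊤

end Cfsg.Agent.E62
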