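import Cfsg.Agent.E62.MtDef

/-! Relations between the letters of `²E₆(2)`. -/

set_option autoImplicit false

namespace Cfsg.Agent.E62

open Cfsg.Agent.Comp Cfsg.Agent.Comp.BM Cfsg.Agent.WG

/-- `g u g⁻¹` is a word in the letters `K` -/
noncomputable def cj (K : ℕ) (g : List ℕ) : List (List ℕ) → List (List ℕ) → Bool :=
  all2 fun u v => and' (inK K v) (QM (g ++ u) (v ++ g))

def bt (c : ℕ) : List ℕ := (List.range 21).filter c.testBit
def cd (l : List ℕ) : ℕ := l.foldr (fun a s => 2 ^ a ^^^ s) 0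
def ZB : ℕ := 782603759158005373268299888393858715631685622026705553610763721642692511043148474314613850112
def v0 : List (List ℕ) := [[40], [2], [4], [6], [8], [10], [12], [14], [16], [18], [70], [68], [66], [62], [60], [64], [58], [56], [0], [42], [44], [46], [48], [50], [52], [34], [32], [28], [26], [30], [24], [22], [20]]
def v1 : List (List ℕ) := [[2], [0], [4], [6], [8], [10], [20], [22], [24], [30], [12], [14], [16], [26], [28], [18], [32], [34], [40], [56, 58], [58], [46], [48], [60], [62], [42, 44], [44], [50], [52], [64], [66], [68], [70]]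
def LR : List ℕ := [0, 2, 12, 18, 20, 30, 36, 38, 40, 54, 64, 70, 72, 80, 82, 84, 86, 88, 90, 92, 94, 96, 98, 100]

theorem k1 : (∀ a < 51, QM [2 * a, 2 * a] [] = true) ∧ (∀ a < 40, QM [2 * a, 40] [40, 2 * a] = true) ∧
    (∀ i j : Fin 20, QM [2 * i, 2 * j] (if du i = j then [40, 2 * j, 2 * i] else [2 * j, 2 * i]) = true) ∧
    ∀ k < 19, ∀ i < 20, force (wo R LL [2 * k] (2 ^ i)) (fun c =>
      forceW (bt (c + 2 ^ 20 * (ZB >>> (20 * k + i) % 2))) fun l => and' (Nat.beq (cd l % 2 ^ 20) c)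
        (and' (allL l (Nat.blt · 21)) (QM [42 + 2 * k, 2 * i] (l.map (2 * ·) ++ [42 + 2 * k])))) = true := by
  decide +kernel

theorem k2 : (∀ p ∈ [([80, 40, 80], [40, 0]), ([80, 0], [0, 80]), (powW [38, 80] 3, []), (powW (nw 0) 2, []),
      (powW (nw 1) 2, []), (powW (nw 0 ++ nw 1) 3, []), (powW (nw 0 ++ [38]) 3, []), (nw 1 ++ [38], 36 :: nw 1),
      (nw 0 ++ [36], 54 :: nw 0), (powW hw 3, []), (hw ++ [4], [6] ++ hw), (nw 0 ++ [40], 0 :: nw 0),
      (nw 0 ++ nw 1 ++ [0], 2 :: (nw 0 ++ nw 1)), (nw 0 ++ nw 1 ++ [2], 40 :: (nw 0 ++ nw 1)),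
      (nw 0 ++ nw 1 ++ [0, 2], [2, 40] ++ (nw 0 ++ nw 1)), (nw 0 ++ [40, 70], [0, 20] ++ nw 0),
      (nw 0 ++ [40, 70, 64], [0, 20, 30] ++ nw 0)], QM p.1 p.2 = true) ∧
    (∀ u ∈ [[], [0], [2], [0, 2]], QM (powW (u ++ 40 :: (nw 1 ++ [54])) 3) [40] = true) ∧
    (∀ i < 20, Nat.testBit 1022 i = true → QM [80, 2 * i] [2 * i, 80] = true) ∧
    (∀ a ∈ sl, QM [a, 38] [38, a] = true ∧ QM [a, 80] [80, a] = true) ∧
    (∀ g ∈ [nw 0, nw 1, [38], [54]], QM (g ++ hw) (hw ++ g) = true) ∧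
    all2 (fun a vs => cj 1022 [a] [[2], [4], [6], [8], [10], [12], [14], [16], [18]] vs) sl
      [[[2], [2, 4], [2, 6], [8], [10], [2, 4, 6, 12], [8, 10, 14], [8, 16], [18]], [[2], [4], [2, 6], [8], [10], [2, 4, 12], [8, 14], [10, 16], [18]], [[2], [4], [6], [6, 8], [4, 6, 10], [12], [12, 14], [12, 16], [12, 14, 16, 18]], [[2], [4], [6], [4, 8], [6, 10], [12], [14], [12, 16], [12, 14, 18]], [[2], [4], [6], [2, 8], [10], [12], [6, 14], [4, 16], [2, 10, 18]], [[2], [4], [6], [8], [2, 10], [12], [4, 14], [4, 6, 16], [2, 8, 18]], [[2, 4, 12], [4], [6, 12], [8, 14], [10, 16], [12], [14], [16], [18]], [[2, 6, 12], [4, 12], [6], [8, 14, 16], [10, 14], [12], [14], [16], [18]], [[2], [4, 8], [6, 10], [8], [10], [12, 14, 18], [14], [16, 18], [18]]] = true ∧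
    all2 (fun a (p : List ℕ × List ℕ × List ℕ) => and' (decide (∀ i ∈ p.1 ++ (p.2.1 ++ p.2.2), i ∈ sl))
      (QM (a :: (p.1 ++ (p.2.2 ++ p.2.1))) (p.1 ++ (p.2.1 ++ p.2.2)))) sl
      [([46, 78, 46, 78], [44], [48]), ([48, 78], [44], [48]), ([44, 42, 76], [44], [48]), ([44, 74], [44], [48]), ([76, 42, 74], [44], [48]), ([], [44], [48]), ([44, 74, 48, 78], [44], [48]), ([42, 76, 74, 48, 78], [44], [48]), ([48, 78, 44, 74], [44], [48])] = true ∧
    cj 524287 [80, 38] ((List.range 9).map fun k => [54 + 2 * k]) [[36], [34], [32], [28], [26], [30], [24], [22], [20]] = true ∧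
    cj 68584472575 (nw 0) os v0 = true ∧ cj 68584472575 (nw 1) os v1 = true ∧
    cj 68718952447 (nw 0) ([36] :: [54] :: os) ([54] :: [36] :: v0) = true ∧
    cj 68585259007 (nw 1) ([36] :: [38] :: os) ([38] :: [36] :: v1) = true ∧
    cj 68718952447 [38] ([36] :: [54] :: os) [[36], [36, 54], [0, 40], [2], [4], [6], [8], [10], [12], [14], [16], [18], [20], [22], [24], [26], [28], [30], [32], [34], [40], [42], [44], [46], [48], [50], [52], [18, 34, 56], [18, 32, 58], [12, 28, 60], [12, 26, 62], [30, 64], [2, 24, 66], [2, 22, 68], [20, 70]] = true ∧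
    cj 68585259007 [54] ([36] :: [38] :: os) [[36], [36, 38], [0], [0, 2], [4], [6], [8], [10], [12], [14], [16], [18], [12, 20], [14, 22, 40], [16, 24, 40], [26], [28], [18, 30], [32], [34], [40], [42, 56, 58, 64], [44, 58, 64], [46], [48], [50, 60, 70], [52, 62, 70], [56], [58], [60], [62], [64], [66], [68], [70]] = true ∧
    (∀ i : Fin 4, all2 (fun r r' => and' (decide (r' ∈ LR)) (QM (nw i ++ [r]) (r' :: nw i))) LR
      (getL [] [[40, 2, 12, 18, 70, 64, 54, 80, 0, 36, 30, 20, 98, 38, 84, 82, 86, 88, 92, 90, 94, 100, 72, 96], [2, 0, 20, 30, 12, 18, 38, 36, 40, 72, 64, 70, 54, 98, 82, 86, 84, 90, 88, 92, 96, 94, 80, 100], [0, 12, 2, 18, 20, 36, 30, 38, 40, 64, 54, 70, 100, 80, 82, 84, 88, 86, 90, 92, 94, 98, 96, 72], [0, 2, 18, 12, 30, 20, 36, 38, 40, 54, 70, 64, 72, 80, 82, 84, 86, 94, 96, 100, 88, 90, 98, 92]] i) = true) ∧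
    all2 (fun r g => or' (Nat.blt r 41) (or' (QM (powW [40, r] 3) []) (or' (QM (g ++ [40]) ([40, r, 40, r] ++ g))
      (and' (inK 1099511627775 g) (QM (g ++ [r]) (70 :: g)))))) LR
      [[], [], [], [], [], [], [], [], [], [48, 78, 48, 44, 74, 44], [48, 78, 48], [], [48, 78, 48, 44, 74, 44, 54, 72, 54], [38, 80, 38], [], [54, 72, 54, 44, 74, 44, 48, 78, 48, 54, 72, 54, 44, 74, 44, 54, 72, 54, 38, 80, 38], [44, 74, 44, 48, 78, 48, 54, 72, 54, 44, 74, 44, 54, 72, 54, 38, 80, 38], [48, 78, 48, 54, 72, 54, 44, 74, 44, 54, 72, 54, 38, 80, 38], [48, 78, 48, 44, 74, 44, 54, 72, 54, 38, 80, 38], [48, 78, 48, 44, 74, 44, 54, 72, 54, 44, 74, 44, 48, 78, 48], [54, 72, 54, 44, 74, 44, 54, 72, 54, 38, 80, 38], [44, 74, 44, 54, 72, 54, 38, 80, 38], [54, 72, 54, 38, 80, 38], [48, 78, 48, 44, 74, 44, 54, 72, 54, 44, 74, 44]] = true ∧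
    all2 (fun u g => QM (g ++ [40]) (u ++ g)) [[0], [2], [0, 2], [40], [0, 40], [2, 40], [0, 2, 40]]
      [[38, 80], [54, 72, 38, 80], [72, 38, 80], [], [80], [80, 72, 80], [72, 80]] = true := by
  decide +kernel

end Cfsg.Agent.E62
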