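import Cfsg.Agent.E62.St

/-! The extraspecial group of a conjugate of `z` in `Q`. -/

set_option autoImplicit false

namespace Cfsg.Agent.E62

open Cfsg.Agent.Comp Cfsg.Agent.Comp.BM Cfsg.Agent.WG Subgroup Cfsg.Agent.TT Cfsg.Agent.XSC

variable {G : Type*} [Group G] {z : G} {ψ : ES →* G} {α : G → L}

/-- the second extraspecial group -/
structure Pr (z : G) (ψ : ES →* G) (α : G → L) (P : Subgroup G) : Prop extends St z ψ α where
  pair : LXPair ψ.range P z (ψ (eE 0))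
  sub : ∀ p ∈ P, p * z = z * p → α p ∈ AA
  sur : ∀ a ∈ AA, ∃ p ∈ P, p * z = z * p ∧ α p = a
  cardP : Nat.card P = 2 ^ 21

theorem B0_e0 (v : V) : B0 (ee 0) v = v 19 := B0_ee 0 v

theorem conj_e19 (e : ES) (he : e.v 0 = 1) : eE 19 * e * (eE 19)⁻¹ = e * zE :=
  xs0.conj_of_ne trivial trivial fun h => by
    have := comm_iff.1 h
    rw [show B0 (eE 19).v e.v = e.v 0 from B0_ee 19 _, he] at this
    exact one_ne_zero this

theorem mem_W0 {v : V} (h : ∀ j : Fin 20, ee j ∈ W0 → B0 (ee j) v = 0) : v ∈ W0 :=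
  mem_Sp_of_B0 fun i hi => h _ (vec_mem_Sp (by revert i; decide +kernel))

theorem sq_closure {S : Set G} (h1 : ∀ a ∈ S, a * a = 1) (h2 : ∀ a ∈ S, ∀ b ∈ S, a * b = b * a) {g : G}
    (hg : g ∈ closure S) : g * g = 1 := by
  have := isMulCommutative_closure h2
  induction hg using closure_induction with
  | mem a ha => exact h1 a ha
  | one => simp
  | mul a b ha hb k1 k2 =>
    have e : a * b = b * a := congrArg Subtype.val (this.is_comm.comm ⟨a, ha⟩ ⟨b, hb⟩)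
    rw [mul_assoc, ← mul_assoc b, ← e, mul_assoc a, k2, mul_one, k1]
  | inv a _ h => rw [← mul_inv_rev, h, inv_one]

theorem St.norm [Finite G] (h : St z ψ α) {g : G} (hb : g * z * g⁻¹ ∈ ψ.range) (hne : g * z * g⁻¹ ≠ z) :
    ∃ c, c * z = z * c ∧ α c ∈ Mb ∧ c * g * z * (c * g)⁻¹ = ψ (eE 0) ∧
      Pr z ψ α (ψ.range.map (MulAut.conj (c * g)).toMonoidHom) := by
  have k8 : 8 < Nat.card ψ.range := by rw [h.card]; norm_num
  have p := h.lx.pair hb hne (h.lx.mem_map_conj_of_card k8 hb)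
  have c1 := LES.card_image_mul p h.αh fun c => ⟨h.ker c (mem_centralizer_singleton_iff.1 c.2), fun ⟨e, he⟩ => by
    change α c = 1; rw [← he, h.at_psi]⟩
  have c2 := LES.card_E_sq_le p
  rw [LES.card_map_conj, h.card] at c1
  rw [h.card, show 2 * 2 ^ 21 = (2 ^ 11) ^ 2 by norm_num, Nat.pow_le_pow_iff_left two_ne_zero] at c2
  obtain ⟨a, ha, e⟩ := Jlem (A := ((ψ.range.map (MulAut.conj g).toMonoidHom).subgroupOf _).map h.αh)
    (by rintro _ ⟨c, -, rfl⟩; exact h.le2 c (mem_centralizer_singleton_iff.1 c.2)) (by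
      rintro _ ⟨c, hc, rfl⟩
      rw [← map_mul]
      change α (c * c) = 1
      rcases p.hP.toXS.sq (x := c) hc with e | e <;> rw [e]
      · exact h.one
      · obtain ⟨e, he⟩ := hb
        rw [← he, h.at_psi]) (by nlinarith)
  obtain ⟨c, hc, rfl⟩ := h.onto a ha
  have key : ∀ d, d * z = z * d → α d = α c → (∀ p ∈ ψ.range.map (MulAut.conj (d * g)).toMonoidHom,
      p * z = z * p → α p ∈ AA) ∧ ∀ a ∈ AA, ∃ p ∈ ψ.range.map (MulAut.conj (d * g)).toMonoidHom,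
      p * z = z * p ∧ α p = a := fun d hd e1 => by
    refine ⟨fun p hp hz => e ▸ ⟨_, ⟨⟨d⁻¹ * p * d, mem_centralizer_singleton_iff.2
      (comm_mul_left (comm_mul_left (comm_inv_left hd) hz) hd)⟩, ?_, rfl⟩, ?_⟩, fun a ha => ?_⟩
    · rw [mem_map_conj_iff] at hp
      exact mem_map_conj_iff.2 (by simpa [mul_assoc] using hp)
    · change α c * α _ * (α c)⁻¹ = _
      rw [← e1, ← h.cj hd (comm_mul_left (comm_mul_left (comm_inv_left hd) hz) hd)]
      congr 1; group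
    · obtain ⟨_, ⟨p, hp, rfl⟩, rfl⟩ := e.ge ha
      have hz := mem_centralizer_singleton_iff.1 p.2
      refine ⟨d * p * d⁻¹, mem_map_conj_iff.2 (by simpa [mul_assoc] using mem_map_conj_iff.1 hp),
        comm_mul_left (comm_mul_left hd hz) (comm_inv_left hd), by rw [h.cj hd hz, e1]; rfl⟩
  have fin : ∀ d, d * z = z * d → α d = α c → d * g * z * (d * g)⁻¹ = ψ (eE 0) → ∃ c, c * z = z * c ∧
      α c ∈ Mb ∧ c * g * z * (c * g)⁻¹ = ψ (eE 0) ∧
      Pr z ψ α (ψ.range.map (MulAut.conj (c * g)).toMonoidHom) := fun d hd e1 e2 => by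
    have m : d * g * z * (d * g)⁻¹ ∈ ψ.range := ⟨_, e2.symm⟩
    refine ⟨d, hd, e1 ▸ ha, e2, h, e2 ▸ h.lx.pair m (fun e3 => ?_) (h.lx.mem_map_conj_of_card k8 m),
      (key d hd e1).1, (key d hd e1).2, by rw [LES.card_map_conj, h.card]⟩
    exact absurd (congrFun (congrArg ESM.v (h.inj (e2.symm.trans (e3.trans h.z_eq.symm)))) 0) (by decide)
  obtain ⟨s, hs⟩ := hb
  obtain ⟨s', h1, -⟩ := h.act c hc s
  have h2 : c * g * z * (c * g)⁻¹ = ψ s' := by rw [← h1, hs]; group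
  have h3 : s'.v = ee 0 := (fix_AA fun a ha => by
    obtain ⟨p, hp, hz, rfl⟩ := (key c hc rfl).2 a ha
    exact (h.act_v hz (by rw [← h2, (h.lx.map_conj (c * g)).z_comm p hp, mul_inv_cancel_right])).symm).resolve_left
    fun e => by
      rcases ESM.v_eq_zero_iff.1 e with rfl | rfl
      · exact h.xs.z_ne (conj_eq_one_iff.1 (h2.trans (map_one _)))
      · rw [h.z_eq] at h1
        exact hne (hs ▸ mul_left_cancel ((mul_inv_eq_iff_eq_mul.1 h1).trans hc.symm))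
  rcases ESM.eq_or_of_v_eq (y := eE 0) h3 with rfl | rfl
  · exact fin c hc rfl h2
  · refine fin (ψ (eE 19) * c) (comm_mul_left (h.comm _) hc) (by rw [h.mul (h.comm _) hc, h.at_psi, one_mul]) ?_
    calc _ = ψ (eE 19) * (c * g * z * (c * g)⁻¹) * (ψ (eE 19))⁻¹ := by group
      _ = _ := by
        rw [h2, ← map_mul, ← map_inv, ← map_mul, conj_e19 _ (by decide), mul_assoc, ESM.z_sq, mul_one]

namespace Pr

variable {P : Subgroup G} (h : Pr z ψ α P)
include h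

theorem comm_s {e : ES} : ψ e * ψ (eE 0) = ψ (eE 0) * ψ e ↔ e.v ∈ SP := by
  rw [eq_comm, h.comm_iff, B0_e0, mem_SP]

theorem mem_P {e : ES} : ψ e ∈ P ↔ e.v ∈ W0 := by
  have k0 : ∀ a b : ES, a.v = b.v → ψ b ∈ P → ψ a ∈ P := fun a b e hb => by
    rcases h.eqv e with e | e <;> rw [e]
    exacts [hb, mul_mem hb h.pair.z_mem]
  let U := sub2 (fun v => ψ ⟨v, 0⟩ ∈ P) (k0 _ 1 rfl (by simp)) fun a b p q =>
    k0 _ (⟨a, 0⟩ * ⟨b, 0⟩) rfl (by rw [map_mul]; exact mul_mem p q)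
  have k1 : W0 ≤ U := W0_le fun a ha v hv => by
    obtain ⟨p, hp, hz, rfl⟩ := h.sur a ha
    obtain ⟨f, h1, h2⟩ := h.act p hz ⟨v, 0⟩
    have := (LES.comm_mem_E h.pair ⟨_, rfl⟩ (h.comm_s.2 (show (⟨v, 0⟩ : ES).v ∈ SP from hv)) hp hz).2
    rw [h1, ← map_inv, ← map_mul] at this
    exact k0 _ _ (by rw [ESM.mul_v, ESM.inv_v, h2, CharTwo.neg_eq]) this
  have k : ∀ e : ES, e.v ∈ W0 → ψ e ∈ P := fun e he => k0 _ ⟨e.v, 0⟩ rfl (k1 he)
  exact ⟨fun he => mem_W0 fun j hj => (h.comm_iff (a := eE j)).1 (LES.E_comm h.pair ⟨⟨eE j, rfl⟩, k (eE j) hj⟩ ⟨⟨e, rfl⟩, he⟩),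
    k e⟩

theorem cent_P [Finite G] {p : G} (hp : p ∈ P) (hc : ∀ e : ES, e.v ∈ W0 → p * ψ e = ψ e * p) :
    p ∈ ψ.range := by
  have c1 := LES.card_image_mul h.pair h.αh fun c => ⟨h.ker c (mem_centralizer_singleton_iff.1 c.2),
    fun ⟨e, he⟩ => by change α c = 1; rw [← he, h.at_psi]⟩
  rw [show (P.subgroupOf _).map h.αh = AA from le_antisymm (by
    rintro _ ⟨c, hc, rfl⟩; exact h.sub c hc (mem_centralizer_singleton_iff.1 c.2)) fun a ha => by
    obtain ⟨p, h1, h2, rfl⟩ := h.sur a ha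
    exact ⟨⟨p, mem_centralizer_singleton_iff.2 h2⟩, h1, rfl⟩, card_AA, h.cardP] at c1
  have c2 := h.pair.hP.toXS.card_mul_card_centralizer (A := ψ.range ⊓ P) inf_le_right
    ⟨h.pair.s_mem, h.pair.hP.z_mem⟩
  rw [h.cardP, show Nat.card (ψ.range ⊓ P : Subgroup G) = 2 ^ 11 by omega] at c2
  refine ((eq_of_le_of_card_ge (H := ψ.range ⊓ P) (K := P ⊓ centralizer (ψ.range ⊓ P : Subgroup G))
    (fun x hx => ⟨hx.2, fun y hy => LES.E_comm h.pair hy hx⟩) (by omega)).ge ⟨hp, ?_⟩).1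
  rintro _ ⟨⟨e, rfl⟩, he⟩
  exact (hc e (h.mem_P.1 he)).symm

theorem cent_E [Finite G] {c : G} (hc : ∀ e : ES, e.v ∈ W0 → c * ψ e = ψ e * c) :
    ∃ e : ES, e.v ∈ W0 ∧ c = ψ e := by
  have e0 : (eE 0).v ∈ W0 := vec_mem_Sp (by decide +kernel)
  have hz : c * z = z * c := h.z_eq ▸ hc zE (zero_mem _)
  have a1 : ∀ w ∈ W0, (α c).1 w = w := fun w hw =>
    (h.act_v (e := ⟨w, 0⟩) (e' := ⟨w, 0⟩) hz (by rw [hc _ hw, mul_inv_cancel_right])).symm
  have a2 : α c * α c = 1 := Units.ext (LinearMap.ext fun v => by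
    have := a1 ((α c).1 v + v) (mem_W0 fun j hj => by
      have := B0_inv (h.form hz) (ee j) v
      rw [a1 _ hj] at this
      simp only [B0, map_add, LinearMap.add_apply] at this ⊢
      linear_combination this + zmod_two_add_self (β0 (ee j) v) + zmod_two_add_self (β0 v (ee j)))
    rwa [map_add, add_comm, add_right_inj] at this)
  have a3 : ∀ a ∈ AA, a * α c = α c * a := fun a ha => by
    obtain ⟨p, hp, h1, rfl⟩ := h.sur a ha
    obtain ⟨e, he⟩ := h.cent_P (mul_mem (h.pair.hP.norm c (hc _ e0) p hp) (inv_mem hp)) fun e he => by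
      obtain ⟨f, h2, -⟩ := h.act p⁻¹ (comm_inv_left h1) e
      have h3 := hc f (h.mem_P.1 (h2 ▸ mul_mem (mul_mem (inv_mem hp) (h.mem_P.2 he)) (inv_mem (inv_mem hp))))
      rw [← h2] at h3
      calc _ = c * p * c⁻¹ * (p⁻¹ * ψ e * p⁻¹⁻¹ * c) * c⁻¹ * p⁻¹ := by group
        _ = c * ψ e * (p * c⁻¹ * p⁻¹) := by rw [← h3]; group
        _ = _ := by rw [hc e he]; group
    have := h.at_psi e
    rw [he, h.mul (comm_mul_left (comm_mul_left hz h1) (comm_inv_left hz)) (comm_inv_left h1), h.cj hz h1,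
      h.inv h1, mul_inv_eq_one, mul_inv_eq_iff_eq_mul] at this
    exact this.symm
  have a4 : α c ∈ AA := by
    obtain ⟨g, -, e⟩ := Jlem (A := closure (insert (α c) AA)) ((closure_le _).2 (Set.insert_subset
      (h.le2 c hz) (AA_le_Mb.trans Mb_le_Mb2))) (fun g hg => sq_closure (Set.forall_mem_insert.2 ⟨a2, fun _ => AA_sq⟩)
        (Set.forall_mem_insert.2 ⟨Set.forall_mem_insert.2 ⟨rfl, fun a ha => (a3 a ha).symm⟩, fun a ha =>
          Set.forall_mem_insert.2 ⟨a3 a ha, AA_comm a ha⟩⟩) hg)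
      (card_AA ▸ card_le_of_le fun a ha => subset_closure (Or.inr ha))
    have := LES.card_map_conj (closure (insert (α c) AA)) g
    rw [e] at this
    exact (eq_of_le_of_card_ge (fun a ha => subset_closure (Or.inr ha)) this.ge).ge (subset_closure (Or.inl rfl))
  obtain ⟨p, hp, h1, h2⟩ := h.sur _ a4
  obtain ⟨e, he⟩ := h.ker (p⁻¹ * c) (comm_mul_left (comm_inv_left h1) hz) (by
    rw [h.mul (comm_inv_left h1) hz, h.inv h1, h2, inv_mul_cancel])
  have a5 : ∀ f : ES, f.v ∈ W0 → ψ e * ψ f = ψ f * ψ e := fun f hf => by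
    by_contra n
    have k := h.xs.conj_of_ne ⟨e, rfl⟩ ⟨f, rfl⟩ n
    rw [he, show p⁻¹ * c * ψ f * (p⁻¹ * c)⁻¹ = p⁻¹ * (c * ψ f * c⁻¹) * p⁻¹⁻¹ by group, hc f hf,
      mul_inv_cancel_right] at k
    rcases h.pair.hP.toXS.conj (inv_mem hp) (h.mem_P.2 hf) with e | e <;> rw [e] at k
    · exact h.xs.z_ne (by simpa using k.symm)
    · exact h.pair.ne (mul_left_cancel k)
  obtain ⟨f, rfl⟩ := h.cent_P hp fun f hf => by
    rw [show p = c * (ψ e)⁻¹ by rw [he]; group]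
    exact comm_mul_left (hc f hf) (comm_inv_left (a5 f hf))
  exact ⟨f * e, add_mem (h.mem_P.1 hp) (mem_W0 fun j hj => (h.comm_iff (a := eE j)).1 (a5 (eE j) hj).symm), by
    rw [map_mul, he]; group⟩

end Pr

end Cfsg.Agent.E62
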