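import Cfsg.Agent.E62.Pr
import Cfsg.Agent.XSC.Pair

/-! An element of order three permuting the involutions of `⟨z, s⟩`. -/

set_option autoImplicit false

namespace Cfsg.Agent.E62

open Cfsg.Agent.Comp Cfsg.Agent.Comp.BM Cfsg.Agent.WG Subgroup Cfsg.Agent.TT Cfsg.Agent.XSC

variable {G : Type*} [Group G] {z : G} {ψ : ES →* G} {α : G → L}

theorem le_W0 : Sp 20 1022 ≤ W0 := Sp_mono (by decide +kernel)

theorem e0_mem : ee 0 ∈ W0 := vec_mem_Sp (by decide +kernel)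

/-- a complement of `⟨z, s⟩` in `Q ∩ P` -/
def EE : Subgroup ES where
  carrier := {e | e.v ∈ Sp 20 1022 ∧ e.a = 0}
  one_mem' := ⟨zero_mem _, rfl⟩
  mul_mem' ha hb := ⟨add_mem ha.1 hb.1, by rw [ESM.mul_a, ha.2, hb.2, β0_W0 (le_W0 ha.1)]; rfl⟩
  inv_mem' ha := ⟨neg_mem ha.1, by rw [ESM.inv_a, ha.2, β0_W0 (le_W0 ha.1)]; rfl⟩

/-- the preimage of a subspace -/
def hat (U : Submodule (ZMod 2) V) : Subgroup ES where
  carrier := {e | e.v ∈ U}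
  one_mem' := zero_mem U
  mul_mem' ha hb := U.add_mem ha hb
  inv_mem' ha := U.neg_mem ha

theorem EE_le {K : Subgroup ES} (h : ∀ i < 20, Nat.testBit 1022 i = true → eE i ∈ K) : EE ≤ K := by
  rintro ⟨v, _⟩ ⟨h1, rfl⟩
  exact (Sp_le (U := sub2 (fun v => v ∈ W0 ∧ (⟨v, 0⟩ : ES) ∈ K) ⟨zero_mem _, one_mem K⟩ fun a b p q =>
    ⟨add_mem p.1 q.1, by convert mul_mem p.2 q.2 using 1; ext <;> simp [β0_W0 p.1]⟩)
    (fun i hi e => ⟨le_W0 (vec_mem_Sp (by revert i; decide +kernel)), h i hi e⟩) h1).2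

theorem mem_of_v {K : Subgroup ES} (hz : zE ∈ K) {a b : ES} (e : a.v = b.v) (h : b ∈ K) : a ∈ K := by
  rcases ESM.eq_or_of_v_eq e with rfl | rfl
  exacts [h, mul_mem h hz]

/-- the image of a subgroup containing the centre -/
def im (K : Subgroup ES) (hz : zE ∈ K) : Submodule (ZMod 2) V :=
  sub2 (fun v => (⟨v, 0⟩ : ES) ∈ K) (one_mem K) fun a b p q =>
    mem_of_v hz (b := ⟨a, 0⟩ * ⟨b, 0⟩) rfl (mul_mem p q)

theorem mem_im {K : Subgroup ES} {hz : zE ∈ K} {e : ES} : e.v ∈ im K hz ↔ e ∈ K :=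
  ⟨mem_of_v hz rfl, fun h => mem_of_v hz (b := e) rfl h⟩

theorem W0_dec {e : ES} (he : e.v ∈ W0) : ∃ ε ∈ EE, ∃ w, InV zE (eE 0) w ∧ e = w * ε := by
  have k : ∀ v ∈ W0, v 0 = 0 → v ∈ Sp 20 1022 := fun v hv h0 i hi => by
    by_cases e : i = 0
    · rw [e, h0]
    · exact hv i (by revert i; decide)
  have k2 : ∀ e : ES, e.v ∈ W0 → e.v 0 = 0 → e ∈ EE ∨ zE * e ∈ EE := fun e he h0 =>
    (zmod_two_cases e.a).imp (fun h => ⟨k _ he h0, h⟩) fun h => ⟨by simpa using k _ he h0, by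
      simp [h, zmod_two_add_self]⟩
  have z2 : zE * zE = 1 := ESM.z_sq
  have s2 : eE 0 * eE 0 = 1 := ESM.sq_eq_one_iff.2 (β0_ee 0)
  rcases zmod_two_cases (e.v 0) with h | h
  · rcases k2 e he h with h | h
    · exact ⟨_, h, 1, Or.inl rfl, by simp⟩
    · exact ⟨_, h, zE, Or.inr (Or.inl rfl), by rw [← mul_assoc, z2, one_mul]⟩
  · rcases k2 (eE 0 * e) (add_mem e0_mem he) (by rw [ESM.mul_v, Pi.add_apply, h]; decide) with h | h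
    · exact ⟨_, h, _, Or.inr (Or.inr (Or.inl rfl)), by rw [← mul_assoc, s2, one_mul]⟩
    · exact ⟨_, h, _, Or.inr (Or.inr (Or.inr rfl)), by
        rw [← ESM.z_comm, mul_assoc, ← mul_assoc zE, z2, one_mul, ← mul_assoc, s2, one_mul]⟩

theorem pow_mul_mem {E : Subgroup G} {t a : G} (ht : t ∈ normalizer (E : Set G)) (ha : a ∈ E) (n : ℕ) :
    (t ^ n)⁻¹ * (t * a) ^ n ∈ E := by
  induction n with
  | zero => simp
  | succ n ih =>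
    have := mul_mem (conj_mem_of_norm' ht ih) ha
    rw [pow_succ, pow_succ]
    convert this using 1; group

/-- `ρ` permutes the involutions of `⟨z, s⟩` and is inverted by `q` -/
structure Rho (z : G) (ψ : ES →* G) (ρ : G) : Prop where
  cube : ρ ^ 3 = 1
  inv : ψ (eE 19) * ρ * (ψ (eE 19))⁻¹ = ρ⁻¹
  z_eq : ρ * z * ρ⁻¹ = ψ (eE 0)
  s_eq : ρ * ψ (eE 0) * ρ⁻¹ = ψ (eE 0) * z
  comm : ∀ e ∈ EE, ρ * ψ e = ψ e * ρ

theorem Pre.q_s (h : Pre z ψ α) : ψ (eE 19) * ψ (eE 0) * (ψ (eE 19))⁻¹ = ψ (eE 0) * z := by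
  rw [← map_mul, ← map_inv, ← map_mul, conj_e19 _ (by decide), map_mul, h.z_eq]

theorem sq_e (ψ : ES →* G) (i : Fin 20) : ψ (eE i) * ψ (eE i) = 1 := by
  rw [← map_mul, ESM.sq_eq_one_iff.2 (β0_ee i), map_one]

theorem Pre.q_EE (h : Pre z ψ α) {e : ES} (he : e ∈ EE) : ψ (eE 19) * ψ e = ψ e * ψ (eE 19) :=
  (h.comm_iff (a := eE 19)).2 ((B0_ee 19 _).trans (he.1 0 (by decide)))

theorem Pre.comm_W0 (h : Pre z ψ α) {a b : ES} (ha : a.v ∈ W0) (hb : b.v ∈ W0) : ψ a * ψ b = ψ b * ψ a :=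
  h.comm_iff.2 (by rw [B0, β0_W0 ha, β0_W0 hb, add_zero])

theorem t_act (h : Pre z ψ α) {p t : G} (p2 : p * p = 1) (pz : p * z * p⁻¹ = z * ψ (eE 0))
    (ps : p * ψ (eE 0) = ψ (eE 0) * p) (ht : t = ψ (eE 19) * p) :
    t * z * t⁻¹ = ψ (eE 0) ∧ t * ψ (eE 0) * t⁻¹ = ψ (eE 0) * z ∧ ψ (eE 19) * t * (ψ (eE 19))⁻¹ = t⁻¹ ∧
      t ^ 3 * z = z * t ^ 3 ∧ t ^ 3 * ψ (eE 0) = ψ (eE 0) * t ^ 3 := by
  have q2 : ψ (eE 19) * ψ (eE 19) = 1 := sq_e ψ 19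
  have t1 : t * z * t⁻¹ = ψ (eE 0) := by
    calc _ = ψ (eE 19) * (p * z * p⁻¹) * (ψ (eE 19))⁻¹ := by rw [ht]; group
      _ = z * (ψ (eE 19) * ψ (eE 0) * (ψ (eE 19))⁻¹) := by rw [pz, ← mul_assoc, h.comm]; group
      _ = _ := by rw [h.q_s, h.comm, ← mul_assoc, h.zz, one_mul]
  have t2 : t * ψ (eE 0) * t⁻¹ = ψ (eE 0) * z := by rw [ht, ← h.q_s, mul_assoc _ p, ps]; group
  have t0 : t * (ψ (eE 0) * z) * t⁻¹ = z := by
    rw [← conj_mul, t1, t2, mul_assoc, ← h.comm, ← mul_assoc, show ψ (eE 0) * ψ (eE 0) = 1 from sq_e ψ 0, one_mul]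
  refine ⟨t1, t2, by rw [ht, mul_inv_rev, inv_eq_of_mul_eq_one_right p2, ← mul_assoc, q2, one_mul], ?_, ?_⟩
  · calc _ = t * (t * (t * z * t⁻¹) * t⁻¹) * t⁻¹ * t ^ 3 := by simp [mul_assoc, pow_three]
      _ = _ := by rw [t1, t2, t0]
  · calc _ = t * (t * (t * ψ (eE 0) * t⁻¹) * t⁻¹) * t⁻¹ * t ^ 3 := by simp [mul_assoc, pow_three]
      _ = _ := by rw [t2, t0, t1]

theorem rho_of (h : Pre z ψ α) {p : G} (p2 : p * p = 1) (pz : p * z * p⁻¹ = z * ψ (eE 0))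
    (ps : p * ψ (eE 0) = ψ (eE 0) * p) (pe : ∀ e ∈ EE, p * ψ e = ψ e * p) {m : ℕ}
    (hm : ((ψ (eE 19) * p) ^ (3 * m + 1)) ^ 3 = 1) : Rho z ψ ((ψ (eE 19) * p) ^ (3 * m + 1)) := by
  obtain ⟨t1, t2, t3, t4, t5⟩ := t_act h p2 pz ps rfl
  have t6 : ∀ e ∈ EE, Commute (ψ (eE 19) * p) (ψ e) := fun e he => Commute.mul_left (h.q_EE he) (pe e he)
  generalize ψ (eE 19) * p = t at *
  have k : ∀ w, t ^ 3 * w = w * t ^ 3 → t ^ (3 * m + 1) * w * (t ^ (3 * m + 1))⁻¹ = t * w * t⁻¹ := fun w hw => by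
    rw [pow_succ', pow_mul, mul_assoc t, (Commute.pow_left hw m).eq]; group
  exact ⟨hm, by rw [← conj_pow, t3, inv_pow], (k _ t4).trans t1, (k _ t5).trans t2, fun e he =>
    ((t6 e he).pow_left _).eq⟩

namespace Rho

variable {ρ : G} (r : Rho z ψ ρ) (h : Pre z ψ α)
include r h

theorem sz_eq : ρ * (ψ (eE 0) * z) * ρ⁻¹ = z := by
  rw [← conj_mul, r.z_eq, r.s_eq, mul_assoc, ← h.comm, ← mul_assoc, show ψ (eE 0) * ψ (eE 0) = 1 from sq_e ψ 0,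
    one_mul]

theorem cube_mul {w : ES} (hw : InV zE (eE 0) w) : (ρ * ψ w) ^ 3 = 1 := by
  have s2 : ψ (eE 0) * ψ (eE 0) = 1 := sq_e ψ 0
  have e : (ρ * ψ w) ^ 3 = ρ * ψ w * ρ⁻¹ * (ρ * (ρ * ψ w * ρ⁻¹) * ρ⁻¹) *
      (ρ * (ρ * (ρ * ψ w * ρ⁻¹) * ρ⁻¹) * ρ⁻¹) * ρ ^ 3 := by simp only [pow_succ]; group
  rw [e, r.cube, mul_one]
  rcases hw with rfl | rfl | rfl | rfl
  · simp
  · rw [h.z_eq, r.z_eq, r.s_eq, r.sz_eq h, ← mul_assoc, s2, one_mul, h.zz]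
  · rw [r.s_eq, r.sz_eq h, r.z_eq, mul_assoc (ψ _), h.zz, mul_one, s2]
  · rw [map_mul, h.z_eq, ← h.comm, r.sz_eq h, r.z_eq, r.s_eq, mul_assoc, ← mul_assoc (ψ _), s2, one_mul, h.zz]

end Rho

theorem Pr.exists_rho [Finite G] {P : Subgroup G} (h : Pr z ψ α P) : ∃ ρ, Rho z ψ ρ ∧
    ∀ c, c * z = z * c → c * ψ (eE 0) = ψ (eE 0) * c → c * ψ (eE 19) = ψ (eE 19) * c →
      (∀ e ∈ EE, ∃ e' ∈ EE, c⁻¹ * ψ e * c = ψ e') → c * ρ = ρ * c ∨ z * c * ρ = ρ * (z * c) := by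
  have hP := h.pair.hP.toXS
  have k : ∀ p, p * z = z * p → p * ψ (eE 0) = ψ (eE 0) * p → (∀ e ∈ EE, p * ψ e = ψ e * p) →
      ∀ e : ES, e.v ∈ W0 → p * ψ e = ψ e * p := fun p h1 h2 h3 e he => by
    obtain ⟨ε, h4, w, hw, rfl⟩ := W0_dec he
    rw [map_mul]
    refine Commute.mul_right ?_ (h3 ε h4)
    rcases hw with rfl | rfl | rfl | rfl
    · simp
    · rwa [h.z_eq]
    · exact h2
    · rw [map_mul, h.z_eq]; exact Commute.mul_right h1 h2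
  obtain ⟨p, hp, p2, pe, pz⟩ : ∃ p ∈ P, p * p = 1 ∧ (∀ e ∈ EE, p * ψ e = ψ e * p) ∧ p * z ≠ z * p := by
    let A : Subgroup ES :=
      { carrier := {e | e.v ∈ W0 ∧ e.a = 0}
        one_mem' := ⟨zero_mem _, rfl⟩
        mul_mem' := fun ha hb => ⟨add_mem ha.1 hb.1, by rw [ESM.mul_a, ha.2, hb.2, β0_W0 ha.1]; rfl⟩
        inv_mem' := fun ha => ⟨neg_mem ha.1, by rw [ESM.inv_a, ha.2, β0_W0 ha.1]; rfl⟩ }
    obtain ⟨p, hp, h1, h2⟩ := hP.exists_comm_not_comm (A := A.map ψ)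
      (by rintro _ ⟨e, he, rfl⟩; exact h.mem_P.2 he.1) ⟨_, ⟨e0_mem, rfl⟩, rfl⟩ h.pair.z_mem (by
        rintro ⟨e, he, e1⟩
        obtain rfl := h.inj (e1.trans h.z_eq.symm)
        exact one_ne_zero he.2)
    have h3 : ∀ e ∈ EE, p * ψ e = ψ e * p := fun e he => (h1 _ ⟨e, ⟨le_W0 he.1, he.2⟩, rfl⟩).symm
    rcases hP.sq hp with e | e
    · exact ⟨p, hp, e, h3, h2⟩
    · refine ⟨p * z, mul_mem hp h.pair.z_mem, ?_, fun e he => Commute.mul_left (h3 e he) (h.comm e).symm,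
        fun e => h2 (mul_right_cancel (e.trans (mul_assoc _ _ _).symm))⟩
      calc _ = p * z * p⁻¹ * (p * p) * z := by group
        _ = _ := by rw [hP.conj_of_ne hp h.pair.z_mem h2, e, mul_assoc z, hP.z_sq, mul_one, h.zz]
  have ps := hP.z_comm p hp
  have pz' := hP.conj_of_ne hp h.pair.z_mem pz
  have r0 : ∀ e : ES, e.v ∈ W0 → ψ (eE 19) * p * ψ e * (ψ (eE 19) * p)⁻¹ ∈ (hat W0).map ψ := fun e he => by
    obtain ⟨f, hf⟩ : p * ψ e * p⁻¹ ∈ ψ.range := by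
      rcases hP.conj hp (h.mem_P.2 he) with e1 | e1 <;> rw [e1]
      exacts [⟨_, rfl⟩, mul_mem ⟨_, rfl⟩ ⟨_, rfl⟩]
    refine ⟨eE 19 * f * (eE 19)⁻¹, ?_, by rw [map_mul, map_mul, map_inv, hf]; group⟩
    have := h.mem_P.1 (hf ▸ mul_mem (mul_mem hp (h.mem_P.2 he)) (inv_mem hp))
    change (eE 19 * f * (eE 19)⁻¹).v ∈ W0
    simpa using this
  have tn : ψ (eE 19) * p ∈ normalizer (((hat W0).map ψ : Subgroup G) : Set G) :=
    mem_normalizer_fintype (by rintro _ ⟨e, he, rfl⟩; exact r0 e he)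
  obtain ⟨m, hm⟩ : ∃ m, ((ψ (eE 19) * p) ^ (3 * m + 1)) ^ 3 = 1 := by
    obtain ⟨-, -, t4, t5, t6⟩ := t_act h.toPre p2 pz' ps rfl
    generalize ψ (eE 19) * p = t at t4 t5 t6
    obtain ⟨j, hj⟩ := h.pair.R_isPGroup ⟨_, h.pair.comm_mem_R (mem_sup_left ⟨eE 19, rfl⟩) t5 t6⟩
    have hj := congrArg Subtype.val hj
    simp only [SubmonoidClass.coe_pow, ← conj_pow, t4, inv_pow, ← mul_inv_rev, ← pow_add, ← pow_mul,
      OneMemClass.coe_one, inv_eq_one] at hj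
    have : 4 ^ (j + 1) % 3 = 1 := by simp [Nat.pow_mod]
    refine ⟨4 ^ (j + 1) / 3, ?_⟩
    rw [show 3 * (4 ^ (j + 1) / 3) + 1 = 4 ^ (j + 1) by omega, ← pow_mul, show 4 ^ (j + 1) * 3 = (3 + 3) * 2 ^ j * (2 * 2 ^ j) by
      rw [show 4 = 2 * 2 from rfl, mul_pow]; ring, pow_mul, hj, one_pow]
  have r := rho_of h.toPre p2 pz' ps pe hm
  refine ⟨_, r, fun c c1 c2 c3 c4 => ?_⟩
  have hp' := h.pair.hP.norm c c2 p hp
  obtain ⟨e, he⟩ := h.cent_P (mul_mem (inv_mem hp) hp') (k _ (hP.mul_comm_of_not_comm h.pair.z_mem (inv_mem hp) hp'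
    (fun e => pz (by simpa using comm_inv_left e)) fun e => pz (by
      calc _ = c⁻¹ * (c * p * c⁻¹ * z) * c := by rw [mul_assoc (c * p), comm_inv_left c1]; group
        _ = _ := by rw [e, ← mul_assoc, ← mul_assoc, ← mul_assoc, comm_inv_left c1]; group))
    (hP.z_comm _ (mul_mem (inv_mem hp) hp')) fun e he => by
      obtain ⟨f, hf, e1⟩ := c4 e he
      refine comm_mul_left (comm_inv_left (pe e he)) ?_
      calc _ = c * (p * (c⁻¹ * ψ e * c)) * c⁻¹ := by group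
        _ = c * ((c⁻¹ * ψ e * c) * p) * c⁻¹ := by rw [e1, pe f hf]
        _ = _ := by group)
  obtain ⟨f, hf, e1⟩ := pow_mul_mem tn ⟨e, h.mem_P.1 (he ▸ mul_mem (inv_mem hp) hp'), rfl⟩ (3 * m + 1)
  rw [he, mul_assoc, mul_inv_cancel_left, ← mul_assoc, ← mul_assoc, ← c3, mul_assoc c, conj_pow] at e1
  generalize (ψ (eE 19) * p) ^ (3 * m + 1) = ρ at r e1
  obtain ⟨ε, h4, w, hw, rfl⟩ := W0_dec hf
  have hw' : w.v ∈ W0 := by
    have := mul_mem hf (inv_mem (show ε ∈ hat W0 from le_W0 h4.1))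
    rwa [mul_inv_cancel_right] at this
  have e2 : c * ρ * c⁻¹ = ρ * ψ w * ψ ε := by rw [mul_assoc ρ, ← map_mul, e1]; group
  have e3 : ψ ε = 1 := by
    have := congrArg (· ^ 3) e2
    simp only [conj_pow, r.cube] at this
    rw [(Commute.mul_left (r.comm ε h4) (h.comm_W0 hw' (le_W0 h4.1))).mul_pow, r.cube_mul h.toPre hw, pow_succ,
      sq, ← map_mul, ESM.sq_eq_one_iff.2 (β0_W0 (le_W0 h4.1) _)] at this
    simpa using this.symm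
  rw [e3, mul_one] at e2
  have e4 : ρ * (ψ w)⁻¹ * ρ⁻¹ = ψ (eE 19) * ψ w * (ψ (eE 19))⁻¹ := by
    calc _ = ρ * (c * ρ * c⁻¹)⁻¹ := by rw [e2]; group
      _ = ρ * (c * (ψ (eE 19) * ρ * (ψ (eE 19))⁻¹) * c⁻¹) := by rw [r.inv]; group
      _ = ρ * (ψ (eE 19) * (c * ρ * c⁻¹) * (ψ (eE 19))⁻¹) := by
        rw [← mul_assoc c, ← mul_assoc c, c3, mul_assoc _ _ c⁻¹, ← mul_inv_rev, c3]; group
      _ = ρ * (ψ (eE 19) * ρ * (ψ (eE 19))⁻¹) * (ψ (eE 19) * ψ w * (ψ (eE 19))⁻¹) := by rw [e2]; group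
      _ = _ := by rw [r.inv]; group
  rcases hw with rfl | rfl | rfl | rfl
  · exact Or.inl (mul_inv_eq_iff_eq_mul.1 (by simpa using e2))
  · rw [h.z_eq, h.xs.z_inv, r.z_eq, h.comm, mul_inv_cancel_right] at e4
    exact absurd e4 h.pair.ne
  · refine Or.inr ?_
    calc _ = ρ * (ψ (eE 0) * z) * ρ⁻¹ * (c * ρ * c⁻¹) * c := by rw [r.sz_eq h.toPre]; group
      _ = ρ * (ψ (eE 0) * z * ψ (eE 0)) * c := by rw [e2]; group
      _ = _ := by rw [h.comm, mul_assoc z, hP.z_sq, mul_one, mul_assoc]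
  · rw [map_mul, h.z_eq, mul_inv_rev, h.xs.z_inv, hP.z_inv, r.sz_eq h.toPre, ← conj_mul, h.q_s, h.comm,
      mul_inv_cancel_right, h.comm, ← mul_assoc, h.zz, one_mul] at e4
    exact absurd e4.symm h.pair.ne

end Cfsg.Agent.E62
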