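import Cfsg.Agent.E62.MatV
import Cfsg.Agent.XSC.Lin
import Cfsg.Agent.XSC.Gr
import Cfsg.Agent.TT.LXPair
import Cfsg.Agent.S2603

/-! Coordinates for the centraliser `2^(1+20).U₆(2)` or `2^(1+20).U₆(2).2` of an involution. -/

set_option autoImplicit false

namespace Cfsg.Agent.E62

open Cfsg.Agent.Comp Cfsg.Agent.Comp.BM Cfsg.Agent.WG Subgroup Cfsg.Agent.TT Cfsg.Agent.XSC
open scoped commutatorElement

variable {G : Type*} [Group G]

/-- the centre -/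
abbrev zE : ES := ESM.z β0
/-- generators -/
abbrev eE (i : ℕ) : ES := ⟨ee i, 0⟩

instance : Finite ES := Nat.finite_of_card_ne_zero (by rw [card_ES]; norm_num)

theorem closure_ES : closure (Set.range (fun i : Fin 20 => eE i) ∪ {zE}) = ⊤ :=
  ESM.closure_eq_top _ (by
    have := (Pi.basisFun (ZMod 2) (Fin 20)).span_eq
    rwa [show ⇑(Pi.basisFun (ZMod 2) (Fin 20)) = fun i : Fin 20 => ee i from
      funext fun i => (Pi.basisFun_apply _ _ i).trans (ee_eq i).symm] at this)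

theorem β0_ee : ∀ i : Fin 20, β0 (ee i) (ee i) = 0 := by
  intro i; rw [ee_eq]; fin_cases i <;> simp [β0_apply]

theorem B0_ee_ee (i j : Fin 20) : B0 (ee i) (ee j) = if du i = j then 1 else 0 := by
  rw [B0_ee, ee_eq, Pi.single_apply]

theorem exists_psi {z : G} {g : Fin 20 → G} (hz : z * z = 1) (h1 : ∀ i, g i * z = z * g i)
    (h2 : ∀ i, g i * g i = 1) (h3 : ∀ i j, ⁅g i, g j⁆ = if du i = j then z else 1) :
    ∃ ψ : ES →* G, ψ zE = z ∧ ∀ i : Fin 20, ψ (eE i) = g i := by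
  let Γ : Subgroup (G × ES) := closure (Set.range (fun i : Fin 20 => (g i, eE i)) ∪ {(z, zE)})
  have o : orderOf (z, zE) ∣ 2 := orderOf_dvd_of_pow_eq_one (Prod.ext (by simpa [sq]) (by
    simpa [sq] using ESM.z_sq))
  have c : Nat.card Γ ∣ 2 ^ 21 := (Grp.ES.card_closure_le two_pos _ _
    (fun i => Prod.ext (h1 i) (ESM.z_comm _)) (fun i j => by
      by_cases e : du i = j
      · refine ⟨1, Prod.ext ((zpow_one _).trans (if_pos e ▸ h3 i j).symm) ?_⟩
        change zE ^ (1 : ℤ) = ⁅eE i, eE j⁆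
        rw [ESM.commutator_eq, zpow_one, ← B0, B0_ee_ee, if_pos e]; rfl
      · refine ⟨0, Prod.ext ((zpow_zero _).trans (if_neg e ▸ h3 i j).symm) ?_⟩
        change zE ^ (0 : ℤ) = ⁅eE i, eE j⁆
        rw [ESM.commutator_eq, zpow_zero, ← B0, B0_ee_ee, if_neg e]; rfl)
    fun i => ⟨0, Prod.ext (by simp [sq, h2]) (by
      simpa [sq] using (ESM.sq_eq_one_iff.2 (β0_ee i)).symm)⟩).trans (by
      rw [Fintype.card_fin, pow_succ]; exact Nat.mul_dvd_mul_left _ o)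
  have s : Γ.map (MonoidHom.snd G ES) = ⊤ := by
    rw [MonoidHom.map_closure, ← closure_ES, Set.image_union, ← Set.range_comp, Set.image_singleton]; rfl
  have : Finite Γ := Nat.finite_of_card_ne_zero fun e => by rw [e] at c; simp at c
  have s' : Function.Surjective ((MonoidHom.snd G ES).comp Γ.subtype) := fun e => by
    obtain ⟨γ, h, rfl⟩ := s.ge (Subgroup.mem_top e)
    exact ⟨⟨γ, h⟩, rfl⟩
  have b := (Nat.bijective_iff_surjective_and_card _).2 ⟨s', le_antisymm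
    (card_ES ▸ Nat.le_of_dvd (by norm_num) c) (Nat.card_le_card_of_surjective _ s')⟩
  have hG : Gr Γ := fun γ h e => congrArg Subtype.val (b.1 (a₁ := ⟨γ, h⟩) (a₂ := 1) e)
  obtain ⟨f, hf⟩ := hG.exists_hom (MonoidHom.id ES) fun e => by
    obtain ⟨γ, h, rfl⟩ := s.ge (Subgroup.mem_top e)
    exact ⟨γ, h, rfl⟩
  exact ⟨f, congrArg Prod.fst (hG.eq (hf _) (subset_closure (Or.inr rfl)) rfl), fun i =>
    congrArg Prod.fst (hG.eq (hf _) (subset_closure (Or.inl ⟨i, rfl⟩)) rfl)⟩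

theorem inj_of_ne {ψ : ES →* G} (h : ψ zE ≠ 1) : Function.Injective ψ :=
  (injective_iff_map_eq_one _).2 fun e he => by
    by_contra h1
    obtain ⟨f, -, hf⟩ := xs0.exists_conj_eq (Subgroup.mem_top e) h1 fun e' => h (by rwa [e'] at he)
    exact h (by simpa [he] using (congrArg ψ hf).symm)

/-- coordinates on `Q` and the action on `Q/⟨z⟩` -/
structure Pre (z : G) (ψ : ES →* G) (α : G → L) : Prop where
  inj : Function.Injective ψ
  z_eq : ψ zE = z
  act : ∀ c, c * z = z * c → ∀ e, ∃ e', c * ψ e * c⁻¹ = ψ e' ∧ e'.v = (α c).1 e.v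

/-- the structure of the centraliser -/
structure St (z : G) (ψ : ES →* G) (α : G → L) : Prop extends Pre z ψ α where
  ker : ∀ c, c * z = z * c → α c = 1 → c ∈ ψ.range
  le2 : ∀ c, c * z = z * c → α c ∈ Mb2
  onto : ∀ a ∈ Mb, ∃ c, c * z = z * c ∧ α c = a

theorem exists_pre {z : G} {ψ : ES →* G} (hi : Function.Injective ψ) (hz : ψ zE = z)
    (h : ∀ c, c * z = z * c → ∀ e, c * ψ e * c⁻¹ ∈ ψ.range) : ∃ α, Pre z ψ α := by
  have k : ∀ c, c * z = z * c → ∃ f : EV 20, ∀ e, ∃ e', c * ψ e * c⁻¹ = ψ e' ∧ e'.v = f e.v := by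
    intro c hc
    choose κ hκ using h c hc
    let φ : ES →* ES := MonoidHom.mk' κ fun a b => hi (by rw [map_mul, hκ, hκ, hκ, map_mul, conj_mul])
    exact ⟨ESM.lin φ (hi (by change ψ (κ _) = _; rw [hκ, hz, hc, mul_inv_cancel_right])), fun e =>
      ⟨κ e, (hκ e).symm, (ESM.lin_apply φ _ e).symm⟩⟩
  have k2 : ∀ c, ∃ a : L, c * z = z * c → ∀ e, ∃ e', c * ψ e * c⁻¹ = ψ e' ∧ e'.v = a.1 e.v := by
    intro c
    by_cases hc : c * z = z * c
    · obtain ⟨f, hf⟩ := k c hc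
      obtain ⟨f', hf'⟩ := k c⁻¹ (comm_inv_left hc)
      have e : f' * f = 1 := LinearMap.ext fun v => by
        obtain ⟨e, h1, h2⟩ := hf ⟨v, 0⟩
        obtain ⟨e', h3, h4⟩ := hf' e
        rw [← h1, show c⁻¹ * (c * ψ ⟨v, 0⟩ * c⁻¹) * c⁻¹⁻¹ = ψ ⟨v, 0⟩ by group] at h3
        rw [Module.End.mul_apply, ← h2, ← h4, ← hi h3]; rfl
      exact ⟨⟨f, f', mul_eq_one_comm.1 e, e⟩, fun _ => hf⟩
    · exact ⟨1, fun e => absurd e hc⟩
  choose α hα using k2
  exact ⟨α, hi, hz, hα⟩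

namespace Pre

variable {z : G} {ψ : ES →* G} {α : G → L} (h : Pre z ψ α)
include h

theorem xs : XS ψ.range z := by
  have := xs0.map ψ fun x _ e => h.inj (by rw [e, map_one])
  rwa [← MonoidHom.range_eq_map, h.z_eq] at this

theorem zz : z * z = 1 := h.xs.z_sq

theorem comm (e : ES) : ψ e * z = z * ψ e := h.xs.z_comm _ ⟨e, rfl⟩

theorem card : Nat.card ψ.range = 2 ^ 21 :=
  card_ES ▸ Nat.card_congr (MonoidHom.ofInjective h.inj).toEquiv.symm

theorem act_v {c : G} (hc : c * z = z * c) {e e' : ES} (he : c * ψ e * c⁻¹ = ψ e') :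
    e'.v = (α c).1 e.v := by
  obtain ⟨f, h1, h2⟩ := h.act c hc e
  rw [← h2, h.inj (he.symm.trans h1)]

theorem mul {c d : G} (hc : c * z = z * c) (hd : d * z = z * d) : α (c * d) = α c * α d :=
  Units.ext (LinearMap.ext fun v => by
    obtain ⟨e, h1, h2⟩ := h.act d hd ⟨v, 0⟩
    obtain ⟨e', h3, h4⟩ := h.act c hc e
    rw [Units.val_mul, Module.End.mul_apply, ← h2, ← h4]
    exact (h.act_v (e := ⟨v, 0⟩) (comm_mul_left hc hd) (by rw [← h3, ← h1]; group)).symm)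

theorem at_psi (e : ES) : α (ψ e) = 1 :=
  Units.ext (LinearMap.ext fun v => by
    rw [← h.act_v (e := ⟨v, 0⟩) (h.comm e) (e' := e * ⟨v, 0⟩ * e⁻¹) (by simp)]
    simp)

theorem one : α 1 = 1 := by simpa using h.at_psi 1

theorem at_z : α z = 1 := h.z_eq ▸ h.at_psi zE

theorem inv {c : G} (hc : c * z = z * c) : α c⁻¹ = (α c)⁻¹ :=
  eq_inv_of_mul_eq_one_left (by rw [← h.mul (comm_inv_left hc) hc, inv_mul_cancel, h.one])

theorem cj {c d : G} (hc : c * z = z * c) (hd : d * z = z * d) : α (c * d * c⁻¹) = α c * α d * (α c)⁻¹ := by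
  rw [h.mul (comm_mul_left hc hd) (comm_inv_left hc), h.mul hc hd, h.inv hc]

/-- the action as a homomorphism -/
def αh : centralizer ({z} : Set G) →* L :=
  MonoidHom.mk' (fun c => α c) fun c d =>
    h.mul (mem_centralizer_singleton_iff.1 c.2) (mem_centralizer_singleton_iff.1 d.2)

theorem form {c : G} (hc : c * z = z * c) (v : V) : β0 ((α c).1 v) ((α c).1 v) = β0 v v := by
  obtain ⟨e, h1, h2⟩ := h.act c hc ⟨v, 0⟩
  have : β0 e.v e.v = 0 ↔ β0 v v = 0 := by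
    rw [← ESM.sq_eq_one_iff, ← ESM.sq_eq_one_iff (x := (⟨v, 0⟩ : ES)), ← map_eq_one_iff ψ h.inj,
      ← map_eq_one_iff ψ h.inj, map_mul, map_mul, ← h1, conj_mul, conj_eq_one_iff]
  rw [← h2]
  revert this
  generalize β0 e.v e.v = a
  generalize β0 v v = b
  revert a b; decide

theorem comm_iff {a b : ES} : ψ a * ψ b = ψ b * ψ a ↔ B0 a.v b.v = 0 := by
  rw [← E62.comm_iff, ← map_mul, ← map_mul, h.inj.eq_iff]

theorem eqv {a b : ES} (e : a.v = b.v) : ψ a = ψ b ∨ ψ a = ψ b * z := by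
  rcases ESM.eq_or_of_v_eq e with rfl | rfl <;> simp [h.z_eq]

theorem eq_one_of_fix {c : G} (hc : c * z = z * c) (hf : ∀ e, c * ψ e = ψ e * c) : α c = 1 :=
  Units.ext (LinearMap.ext fun v =>
    (h.act_v (e := ⟨v, 0⟩) (e' := ⟨v, 0⟩) hc (by rw [hf, mul_inv_cancel_right])).symm)

end Pre

theorem St.lx {z : G} {ψ : ES →* G} {α : G → L} (h : St z ψ α) : LX ψ.range z :=
  ⟨h.xs, fun c hc => h.ker c (hc z h.xs.z_mem).symm
    (h.eq_one_of_fix (hc z h.xs.z_mem).symm fun e => (hc _ ⟨e, rfl⟩).symm), by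
    rintro c hc _ ⟨e, rfl⟩
    obtain ⟨e', h1, -⟩ := h.act c hc e
    exact ⟨e', h1.symm⟩⟩

theorem eq_one_of_cent {a : L} (h : ∀ g ∈ Mb, a * g = g * a) : a = 1 := by
  have k : ∀ g ∈ Mb, ∀ v, a.1 (g.1 v) = g.1 (a.1 v) := fun g hg v => by
    rw [← Module.End.mul_apply, ← Units.val_mul, h g hg]; rfl
  have h1 : a.1 (ee 0) = ee 0 := (fix_AA fun g hg => by
    rw [← k g (AA_le_Mb hg), show g.1 (ee 0) = ee 0 from AA_fix hg]).resolve_left fun e =>
      absurd (congrFun (show ee 0 = 0 by simpa [← Module.End.mul_apply] using congrArg (a⁻¹).1 e) 0) (by decide)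
  exact Units.ext (LinearMap.ext fun v => span_e0 (U := LinearMap.eqLocus a.1 1)
    (fun g hg => by rw [LinearMap.mem_eqLocus, k g hg, h1]; rfl) v)

theorem out_lem (F : Type*) [Field F] [Fintype F] (hF : Fintype.card F = 4) {g : L}
    (hg : g ∈ normalizer (Mb : Set L)) (h2 : g * g ∈ Mb) :
    ∃ n ∈ normalizer (Mb : Set L), n * g * n⁻¹ ∈ Mb2 := by
  have := Fact.mk Nat.prime_two
  obtain ⟨e⟩ := exists_psu F hF
  obtain ⟨φ, h3, -, h4⟩ := S2603.result (K := F) (p := 2) (f := 1) (q := 2) (n := 6) le_rfl rfl hF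
    (by norm_num) (by norm_num)
  have c1 : Nat.card (Cfsg.Out (Cfsg.PSU 6 F 2)) = 6 := by
    rw [← φ.ker.card_mul_index, h4, index_ker, MonoidHom.range_eq_top.2 h3]; simp
  have c2 : Nat.card (MulAut Mb) ∣ 6 * 9196830720 := by
    rw [← Nat.card_congr (MulAut.congr e).toEquiv,
      card_eq_card_quotient_mul_card_subgroup (Cfsg.Inn _), c1, ← card_Mb, ← Nat.card_congr e.toEquiv]
    exact Nat.mul_dvd_mul_left _ (card_range_dvd _)
  have c3 := (card_dvd_of_injective Mb.normalizerMonoidHom ((injective_iff_map_eq_one _).2 fun a ha =>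
    Subtype.ext (eq_one_of_cent fun b hb => mul_inv_eq_iff_eq_mul.1
      (congrArg (fun f : MulAut Mb => (f ⟨b, hb⟩ : L)) ha)))).trans c2
  have l : T2 ≤ normalizer (Mb : Set L) := fun t ht => (mem_Mb2 (T2_le_Mb2 ht)).elim (le_normalizer ·)
    fun h => by simpa using mul_mem (inv_mem sig_norm) (le_normalizer h)
  have s : SylIn 2 T2 (normalizer (Mb : Set L)) := ⟨l, IsPGroup.of_card card_T2, fun h => by
    have := (Nat.mul_dvd_mul_left _ h).trans ((Grp.card_mul_relIndex l).dvd.trans c3)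
    rw [card_T2] at this
    norm_num at this⟩
  obtain ⟨a, m, ⟨k, rfl⟩, hm⟩ := Nat.exists_eq_two_pow_mul_odd (orderOf_pos g).ne'
  obtain ⟨n, hn, h⟩ := s.exists_conj (R := zpowers (g ^ (2 * k + 1))) (IsPGroup.iff_card.2 (by
    rw [Nat.card_zpowers]
    obtain ⟨i, -, hi⟩ := (Nat.dvd_prime_pow Nat.prime_two).1 (orderOf_dvd_of_pow_eq_one (x := g ^ (2 * k + 1))
      (n := 2 ^ a) (by rw [← pow_mul, mul_comm, ← hm, pow_orderOf_eq_one]))
    exact ⟨i, hi⟩)) (zpowers_le.2 (pow_mem hg _))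
  refine ⟨n, hn, ?_⟩
  have := mul_mem (Mb_le_Mb2 (conj_mem_of_norm hn (inv_mem (pow_mem h2 k)))) (T2_le_Mb2 (h _ (mem_zpowers _)))
  rwa [pow_succ, pow_mul, sq, conj_mul, inv_mul_cancel_left] at this

theorem ln_trans {Q : Subgroup G} {z : G} {U W : Type} [AddCommGroup U] [Module (ZMod 2) U]
    [AddCommGroup W] [Module (ZMod 2) W] {θ : G → U} {B : U →ₗ[ZMod 2] U →ₗ[ZMod 2] ZMod 2}
    {q : U → ZMod 2} {A : G → U →ₗ[ZMod 2] U} (h : Ln Q z θ B q A) (T : U ≃ₗ[ZMod 2] W) :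
    Ln Q z (T ∘ θ) (B.compl₁₂ T.symm.toLinearMap T.symm.toLinearMap) (q ∘ T.symm)
      fun c => T.toLinearMap ∘ₗ A c ∘ₗ T.symm.toLinearMap :=
  ⟨h.toLX, fun x hx y hy => by simp [h.mul x hx y hy], fun x hx => by simp [h.zero x hx],
    fun v => let ⟨x, hx, e⟩ := h.surj (T.symm v); ⟨x, hx, by simp [e]⟩,
    fun x hx y hy => by simp [h.bil x hx y hy], fun x hx => by simp [h.quad x hx],
    fun c hc x hx => by simp [h.act c hc x hx]⟩

theorem st_of_ln [Finite G] (hi : ∀ g ∈ Mb, ∀ v, β0 (g.1 v) (g.1 v) = β0 v v) {Q : Subgroup G} {z : G}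
    {θ : G → V} {B : V →ₗ[ZMod 2] V →ₗ[ZMod 2] ZMod 2} {q : V → ZMod 2} {A : G → V →ₗ[ZMod 2] V}
    (h : Ln Q z θ B q A) (hc : Nat.card Q = 2 ^ 21) {α : G → L} (hα : ∀ c, c * z = z * c → (α c).1 = A c)
    (le2 : ∀ c, c * z = z * c → α c ∈ Mb2) (onto : ∀ a ∈ Mb, ∃ c, c * z = z * c ∧ α c = a) :
    ∃ ψ, St z ψ α ∧ ψ.range = Q := by
  obtain ⟨f1, f2⟩ := forms_eq hi (b := fun v w => B v w) (q := q) (fun u v w => by simp) h.B_comm
    (fun v => h.nondeg) (fun g hg v w => by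
      obtain ⟨c, h1, rfl⟩ := onto g hg
      rw [hα c h1, h.A_B h1]) h.q_add fun g hg v => by
      obtain ⟨c, h1, rfl⟩ := onto g hg
      rw [hα c h1, h.A_q h1]
  choose g g1 g2 using fun i : Fin 20 => h.surj (ee i)
  obtain ⟨ψ, p1, p2⟩ := exists_psi (g := g) h.z_sq (fun i => h.z_comm _ (g1 i))
    (fun i => (h.sq_iff (g1 i)).2 (by rw [g2, f2, β0_ee])) fun i j => by
      have := h.comm_iff (g1 i) (g1 j)
      rw [g2, g2, f1, B0_ee_ee] at this
      split_ifs at this ⊢ with e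
      · rw [commutatorElement_def, h.toXS.conj_of_ne (g1 i) (g1 j) (by simpa using this), h.z_comm _ (g1 j)]
        group
      · exact commutatorElement_eq_one_iff_mul_comm.2 (this.2 rfl)
  have k : ∀ e, ψ e ∈ Q ∧ θ (ψ e) = e.v := fun e => by
    have : e ∈ closure (Set.range (fun i : Fin 20 => eE i) ∪ {zE}) := closure_ES ▸ Subgroup.mem_top e
    induction this using closure_induction with
    | mem e he =>
      rcases he with ⟨i, rfl⟩ | rfl
      · rw [p2]; exact ⟨g1 i, g2 i⟩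
      · rw [p1]; exact ⟨h.z_mem, h.at_z⟩
    | one => rw [map_one]; exact ⟨one_mem _, h.one⟩
    | mul a b _ _ ha hb => rw [map_mul, h.mul _ ha.1 _ hb.1, ha.2, hb.2]; exact ⟨mul_mem ha.1 hb.1, rfl⟩
    | inv a _ ha => rw [map_inv, h.inv ha.1, ha.2]; exact ⟨inv_mem ha.1, by simp [CharTwo.neg_eq]⟩
  have i := inj_of_ne (p1 ▸ h.z_ne : ψ zE ≠ 1)
  have r : ψ.range = Q := eq_of_le_of_card_ge (by rintro _ ⟨e, rfl⟩; exact (k e).1)
    (by rw [hc, ← card_ES]; exact (Nat.card_congr (MonoidHom.ofInjective i).toEquiv).le)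
  refine ⟨ψ, ⟨⟨i, p1, fun c h1 e => ?_⟩, fun c h1 e => r ▸ h.mem_of_A h1 fun v => ?_, le2, onto⟩, r⟩
  · obtain ⟨e', he⟩ := r.ge (h.norm c h1 _ (k e).1)
    exact ⟨e', he.symm, by rw [← (k e').2, he, ← h.act c h1 _ (k e).1, (k e).2, hα c h1]⟩
  · rw [← hα c h1, e]; rfl

theorem exists_st [Finite G] (hi : ∀ g ∈ Mb, ∀ v, β0 (g.1 v) (g.1 v) = β0 v v) (F : Type*) [Field F]
    [Fintype F] (hF : Fintype.card F = 4) {Q H : Subgroup G} {z : G} (h : LX Q z)
    (hc : Nat.card Q = 2 ^ 21) (hH : ∀ c ∈ H, c * z = z * c)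
    (h2 : ∀ c d, c * z = z * c → d * z = z * d → c ∉ H → d ∉ H → c * d ∈ H)
    (π : H →* Mb) (surj : Function.Surjective π) (ker : ∀ c : H, π c = 1 ↔ (c : G) ∈ Q) (hQ : Q ≤ H) :
    ∃ ψ α, St z ψ α ∧ ψ.range = Q ∧ ∀ c, c * z = z * c → (α c ∈ Mb ↔ c ∈ H) := by
  classical
  obtain ⟨θ, B, q, A, l⟩ : ∃ (θ : G → V) (B : _) (q : _) (A : _), Ln Q z θ B q A := by
    obtain ⟨h1, ⟨⟨e⟩⟩ | ⟨⟨e⟩⟩⟩ := exists_equiv_plus_or_minus (n := 10) h.toXS.isExtraspecial hc
    · obtain ⟨θ, A, l⟩ := ln_of_equiv h (xs_plus h1) e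
      exact ⟨_, _, _, _, ln_trans l (LinearEquiv.ofFinrankEq _ _ (by simp))⟩
    · obtain ⟨θ, A, l⟩ := ln_of_equiv h (xs_minus _) e
      exact ⟨_, _, _, _, ln_trans l (LinearEquiv.ofFinrankEq _ _ (by simp))⟩
  have ex : ∀ {θ : G → V} {B q A}, Ln Q z θ B q A → ∃ a : centralizer ({z} : Set G) →* L,
      ∀ c, (a c).1 = A c := fun {θ B q A} l =>
    ⟨MonoidHom.toHomUnits ⟨⟨fun c => A c, LinearMap.ext (l.A_mem (one_mem _))⟩, fun c d => LinearMap.ext
      (l.A_mul (mem_centralizer_singleton_iff.1 c.2) (mem_centralizer_singleton_iff.1 d.2))⟩, fun _ => rfl⟩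
  have hC : H ≤ centralizer {z} := fun c hc => mem_centralizer_singleton_iff.2 (hH c hc)
  obtain ⟨a, ha⟩ := ex l
  let ρ := π.liftOfSurjective surj ⟨a.comp (inclusion hC), fun c hc =>
    Units.ext ((ha _).trans (LinearMap.ext (l.A_mem ((ker c).1 hc))))⟩
  have hρ : ∀ c, ρ (π c) = a (inclusion hC c) := fun c => π.liftOfRightInverse_comp_apply _ _ _ c
  obtain ⟨T, hT⟩ := u62_module ((Units.coeHom _).comp ρ) ((injective_iff_map_eq_one _).2 fun g hg => by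
    obtain ⟨c, rfl⟩ := surj g
    exact (ker c).2 (l.mem_of_A (hH c c.2) fun v => by
      rw [show A c = _ from (ha (inclusion hC c)).symm, ← hρ]; exact congrArg (· v) hg))
  have l1 := ln_trans l T.symm
  obtain ⟨b, hb⟩ := ex l1
  have b1 : ∀ c : H, b (inclusion hC c) = π c := fun c => Units.ext ((hb _).trans (LinearMap.ext fun v => by
    simp only [LinearMap.comp_apply, LinearEquiv.coe_coe, LinearEquiv.symm_symm, LinearEquiv.symm_apply_eq, hT]
    rw [← ha, ← hρ]; rfl))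
  have b2 : ∀ c : centralizer ({z} : Set G), b c ∈ Mb ↔ (c : G) ∈ H := fun c =>
    ⟨fun hc => by
      obtain ⟨d, hd⟩ := surj ⟨_, hc⟩
      have : ((c⁻¹ * inclusion hC d : centralizer ({z} : Set G)) : G) ∈ Q :=
        l1.mem_of_A (mem_centralizer_singleton_iff.1 (c⁻¹ * inclusion hC d).2) fun v => by
          rw [← hb, map_mul, map_inv, b1, hd, inv_mul_cancel]; rfl
      simpa using inv_mem (mul_mem (hQ this) (inv_mem d.2)),
    fun hc => by rw [show c = inclusion hC ⟨c, hc⟩ from rfl, b1]; exact (π _).2⟩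
  have h3 : ∀ c d : centralizer ({z} : Set G), (c : G) ∉ H → (d : G) ∉ H → b (c * d) ∈ Mb := fun c d k1 k2 =>
    (b2 _).2 (h2 c d (mem_centralizer_singleton_iff.1 c.2) (mem_centralizer_singleton_iff.1 d.2) k1 k2)
  obtain ⟨n, n1, n2⟩ : ∃ n ∈ normalizer (Mb : Set L), ∀ c, n * b c * n⁻¹ ∈ Mb2 := by
    by_cases e : ∀ c : centralizer ({z} : Set G), (c : G) ∈ H
    · exact ⟨1, one_mem _, fun c => by simpa using Mb_le_Mb2 ((b2 c).2 (e c))⟩
    obtain ⟨d, hd⟩ := not_forall.1 e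
    obtain ⟨n, n1, n2⟩ := out_lem F hF (g := b d) (mem_normalizer_fintype fun g hg => by
      obtain ⟨c, hc⟩ := surj ⟨g, hg⟩
      have := h3 (d * inclusion hC c) d⁻¹ (fun k => hd (by simpa using mul_mem k (inv_mem c.2)))
        fun k => hd (by simpa using k)
      rwa [map_mul, map_mul, map_inv, b1, hc] at this) (map_mul b d d ▸ h3 d d hd hd)
    refine ⟨n, n1, fun c => ?_⟩
    by_cases k : (c : G) ∈ H
    · exact Mb_le_Mb2 (conj_mem_of_norm n1 ((b2 c).2 k))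
    · simpa [mul_assoc] using mul_mem (Mb_le_Mb2 (conj_mem_of_norm n1 (h3 c d k hd))) (inv_mem n2)
  let α : G → L := fun c => if e : c ∈ centralizer ({z} : Set G) then n * b ⟨c, e⟩ * n⁻¹ else 1
  have hα : ∀ c (e : c * z = z * c), α c = n * b ⟨c, mem_centralizer_singleton_iff.2 e⟩ * n⁻¹ :=
    fun c e => dif_pos _
  obtain ⟨ψ, s1, s2⟩ := st_of_ln hi (ln_trans l1 (LinearMap.GeneralLinearGroup.toLinearEquiv n)) hc (α := α)
    (fun c e => by rw [hα c e, ← hb ⟨c, mem_centralizer_singleton_iff.2 e⟩]; rfl)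
    (fun c e => hα c e ▸ n2 _) fun g hg => by
      obtain ⟨c, hc⟩ := surj ⟨_, conj_mem_of_norm' n1 hg⟩
      exact ⟨c, hH c c.2, by rw [hα c (hH c c.2)]; erw [b1]; rw [hc]; simp [mul_assoc]⟩
  exact ⟨ψ, α, s1, s2, fun c e => by rw [hα c e, ← mem_normalizer_iff.1 n1, b2]⟩

end Cfsg.Agent.E62
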