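import Cfsg.Agent.E62.Md
import Cfsg.Agent.E62.Mt
import Cfsg.Agent.E62.Fin
import Cfsg.Agent.LES.Setting

/-! Recognition of `²E₆(2)` from the centraliser of a root involution. -/

set_option autoImplicit false

namespace Cfsg.Agent.E62

open Subgroup Cfsg.Agent.TT

theorem recog {G : Type*} [Group G] [Finite G] {z : G} (hz : orderOf z = 2)
    (hFQ : generalizedFittingSubgroup (centralizer ({z} : Set G)) = pCore 2 (centralizer ({z} : Set G)))
    (hex : IsExtraspecial 2 (pCore 2 (centralizer ({z} : Set G))))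
    (hcard : Nat.card (pCore 2 (centralizer ({z} : Set G))) = 2 ^ 21) {H : Subgroup (centralizer ({z} : Set G))}
    (hH : H.index ∣ 2) (hQH : pCore 2 (centralizer ({z} : Set G)) ≤ H) (F : Type*) [Field F] [Fintype F]
    (hF : Fintype.card F = 4) (π : H →* PSU 6 F 2) (h1 : Function.Surjective π)
    (h2 : π.ker = (pCore 2 (centralizer ({z} : Set G))).subgroupOf H)
    (hnwc : ∃ g : G, g * z * g⁻¹ ∈ (pCore 2 (centralizer ({z} : Set G))).map (centralizer {z}).subtype ∧
      g * z * g⁻¹ ≠ z) :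
    ∃ f : Lie.twistedE6 F 2 →* G, Function.Injective f ∧ f.range.Normal ∧ f.range.index ∣ 2 ∧
      f.range ⊔ centralizer {z} = ⊤ ∧ (∀ c : centralizer ({z} : Set G), c.1 ∈ f.range ↔ c ∈ H) ∧
      generalizedFittingSubgroup G = f.range := by
  obtain ⟨y, P, e, md⟩ := exists_md F hF
  have : Finite (Lie.twistedE6 F 2) := Nat.finite_of_card_ne_zero (by rw [md.card]; norm_num)
  obtain ⟨ψ0, α0, m⟩ := md.exists_mt
  obtain ⟨ε⟩ := exists_psu F hF
  let i := equivMapOfInjective H _ (centralizer ({z} : Set G)).subtype_injective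
  have lx := LES.LX_of_fstar_eq hz _ hFQ hex
  have mm : ∀ {K : Subgroup (centralizer ({z} : Set G))} {c : G} (hc : c * z = z * c),
      c ∈ K.map (centralizer {z}).subtype ↔ ⟨c, mem_centralizer_singleton_iff.2 hc⟩ ∈ K := fun hc =>
    mem_map_iff_mem (f := (centralizer {z}).subtype) (x := ⟨_, mem_centralizer_singleton_iff.2 hc⟩)
      (subtype_injective _)
  obtain ⟨ψ, α, st, hr, ha⟩ := exists_st (fun g hg v => by
      obtain ⟨c, hc, rfl⟩ := m.st.onto g hg; exact m.st.form hc v) F hF lx
    ((card_map_of_injective (subtype_injective _)).trans hcard) (H := H.map (centralizer {z}).subtype)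
    (by rintro _ ⟨c, -, rfl⟩; exact mem_centralizer_singleton_iff.1 c.2) (fun c d hc hd nc nd => by
      rw [mm hc] at nc
      rw [mm hd] at nd
      rcases (Nat.dvd_prime Nat.prime_two).1 hH with e | e
      · exact (nc (index_eq_one.1 e ▸ Subgroup.mem_top _)).elim
      · exact ⟨_, (mul_mem_iff_of_index_two e).2 (iff_of_false nc nd), rfl⟩)
    ((ε.toMonoidHom.comp π).comp i.symm.toMonoidHom) (ε.surjective.comp (h1.comp i.symm.surjective))
    (fun c => by
      obtain ⟨c, rfl⟩ := i.surjective c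
      change ε (π (i.symm (i c))) = 1 ↔ _
      rw [i.symm_apply_apply, map_eq_one_iff _ ε.injective, ← MonoidHom.mem_ker, h2]
      exact (mem_map_iff_mem (x := c.1) (K := pCore 2 _) (subtype_injective _)).symm) (map_mono hQH)
  obtain ⟨g, h3, h4⟩ := hnwc
  obtain ⟨f, f1, f2, f3, f4, f5⟩ := main st (hr ▸ h3) h4 m
  have qf : ψ.range ≤ f.range := by
    rintro _ ⟨a, rfl⟩; exact (f5 _ (st.comm a)).2 (st.at_psi a ▸ one_mem _)
  have hK : IsComponent f.range := ⟨f2.isSubnormal, PLocal.qs_of_simple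
    (have := md.simple; (MonoidHom.ofInjective f1).symm.isSimpleGroup) fun hc => by
      obtain ⟨a, ha, b, hb, e⟩ := st.xs.exists_noncomm_pair
      have := congrArg Subtype.val (hc.is_comm.comm ⟨a, qf ha⟩ ⟨b, qf hb⟩)
      exact st.xs.z_ne (mul_eq_left.1 (e.symm.trans this))⟩
  have hc : centralizer (f.range : Set G) ≤ f.range := fun c hc => qf (st.lx.cent_mem c fun x hx => hc x (qf hx))
  exact ⟨f, f1, f2, f3, f4, fun c => have := mem_centralizer_singleton_iff.1 c.2
    (f5 _ this).trans ((ha _ this).trans (mm this)), le_antisymm (sup_le (PLocal.layer_le_of_centralizer_le hK.1 hc)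
      ((le_centralizer_iff.1 (PLocal.comp_le_centralizer_fitting hK)).trans hc)) (PLocal.comp_le_fstar hK)⟩

end Cfsg.Agent.E62
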