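import Cfsg.Agent.E62.Defs

/-! Representations of degree 20 over the field with two elements of a group `3^4 : S6`,
through the weights of the normal subgroup. -/

set_option autoImplicit false

namespace Cfsg.Agent.E62.W4

open Cfsg.Agent.WG

/-- endomorphisms -/
abbrev EW : Type := Module.End (ZMod 2) V

theorem vv (a : V) : a + a = 0 := CharTwo.add_self_eq_zero a

theorem vv' (a b : V) : a + (a + b) = b := by rw [← add_assoc, vv, zero_add]

theorem z2 (a : ZMod 2) : a = 0 ∨ a = 1 := by revert a; decide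

/-- multiplication by a cube root of unity on pairs -/
def om (p : V × V) : V × V := (p.2, p.1 + p.2)

theorem om3 (p : V × V) : om^[3] p = p := by
  obtain ⟨a, b⟩ := p
  simp only [Function.iterate_succ, Function.comp, Function.iterate_zero, id, om, Prod.mk.injEq]
  constructor
  · rw [add_comm a, vv']
  · rw [add_comm a, vv', add_assoc, vv, add_zero]

theorem om_mod (n : ℕ) (p : V × V) : om^[n] p = om^[n % 3] p := by
  conv_lhs => rw [← Nat.mod_add_div n 3, Function.iterate_add_apply, Function.iterate_mul,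
    Function.iterate_fixed (om3 p)]

theorem om_congr {n m : ℕ} (h : n % 3 = m % 3) (p : V × V) : om^[n] p = om^[m] p := by
  rw [om_mod, h, ← om_mod]

theorem om2 (p : V × V) : om^[2] p = (p.1 + p.2, p.1) := by
  simp only [Function.iterate_succ, Function.comp, Function.iterate_zero, id, om, Prod.mk.injEq, true_and]
  rw [add_comm p.1, vv']

theorem om_cases (n : ℕ) (p : V × V) : (n % 3 = 0 ∧ om^[n] p = p) ∨
    (n % 3 = 1 ∧ om^[n] p = (p.2, p.1 + p.2)) ∨ (n % 3 = 2 ∧ om^[n] p = (p.1 + p.2, p.1)) := by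
  rw [om_mod]
  have : n % 3 = 0 ∨ n % 3 = 1 ∨ n % 3 = 2 := by omega
  rcases this with h | h | h <;> rw [h]
  · exact Or.inl ⟨rfl, rfl⟩
  · exact Or.inr (Or.inl ⟨rfl, rfl⟩)
  · exact Or.inr (Or.inr ⟨rfl, om2 p⟩)

/-- a linear map on pairs -/
def lp (f : EW) (p : V × V) : V × V := (f p.1, f p.2)

theorem lp_om (f : EW) (n : ℕ) (p : V × V) : lp f (om^[n] p) = om^[n] (lp f p) := by
  induction n with
  | zero => rfl
  | succ n ih => rw [Function.iterate_succ_apply', Function.iterate_succ_apply', ← ih]; simp [lp, om]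

theorem lp_mul (f g : EW) (p : V × V) : lp (f * g) p = lp f (lp g p) := rfl

theorem lp_add (f : EW) (p q : V × V) : lp f (p + q) = lp f p + lp f q := by simp [lp]

theorem om_add (n : ℕ) (p q : V × V) : om^[n] (p + q) = om^[n] p + om^[n] q := by
  induction n with
  | zero => rfl
  | succ n ih =>
    simp only [Function.iterate_succ_apply', ih, om, Prod.fst_add, Prod.snd_add, Prod.mk_add_mk]
    rw [add_add_add_comm]

def lw (l : ℕ → ℕ) (w : List ℕ) : ℕ := (w.map l).sum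

def L4 (w : List ℕ) : Prop := ∀ i ∈ w, i < 4

/-- not proportional -/
def NP (l m : ℕ → ℕ) : Prop := ∃ i < 4, ∃ k < 4, l i * m k % 3 ≠ l k * m i % 3

def NZ (l : ℕ → ℕ) : Prop := ∃ i < 4, l i % 3 ≠ 0

theorem NP.symm {l m : ℕ → ℕ} (h : NP l m) : NP m l := by
  obtain ⟨i, hi, k, hk, e⟩ := h
  exact ⟨i, hi, k, hk, by rw [mul_comm (m i), mul_comm (m k)]; exact e.symm⟩

theorem NP.nz {l m : ℕ → ℕ} (h : NP l m) : NZ l := by
  obtain ⟨i, hi, k, hk, e⟩ := h
  by_contra hh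
  simp only [NZ, not_exists, not_and, not_not] at hh
  rw [Nat.mul_mod, hh i hi, Nat.mul_mod (l k), hh k hk] at e
  simp at e

theorem NP.sep {l m : ℕ → ℕ} (h : NP l m) : ∃ w, L4 w ∧ lw l w % 3 = 0 ∧ lw m w % 3 ≠ 0 := by
  obtain ⟨i, hi, k, hk, e⟩ := h
  refine ⟨List.replicate (l i) k ++ List.replicate (2 * l k) i, fun j hj => ?_, ?_, ?_⟩
  · rcases List.mem_append.1 hj with h | h <;> rw [List.eq_of_mem_replicate h] <;> assumption
  · simp only [lw, List.map_append, List.map_replicate, List.sum_append, List.sum_replicate, smul_eq_mul]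
    rw [mul_assoc, mul_comm (l k)]; omega
  · simp only [lw, List.map_append, List.map_replicate, List.sum_append, List.sum_replicate, smul_eq_mul]
    rw [mul_assoc]; omega

theorem NZ.one {l : ℕ → ℕ} (h : NZ l) : ∃ w, L4 w ∧ lw l w % 3 = 1 := by
  obtain ⟨i, hi, e⟩ := h
  refine ⟨List.replicate (l i) i, fun j hj => List.eq_of_mem_replicate hj ▸ hi, ?_⟩
  simp only [lw, List.map_replicate, List.sum_replicate, smul_eq_mul]
  rw [Nat.mul_mod]
  have : l i % 3 = 1 ∨ l i % 3 = 2 := by omega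
  rcases this with h | h <;> rw [h]

variable {G : Type*} [Group G] {x : ℕ → G} {ρ : G →* EW}

/-- a pair of weight `l` -/
def Wt (ρ : G →* EW) (x : ℕ → G) (l : ℕ → ℕ) (p : V × V) : Prop :=
  ∀ i < 4, lp (ρ (x i)) p = om^[l i] p

theorem Wt.ev {l : ℕ → ℕ} {p : V × V} (h : Wt ρ x l p) {w : List ℕ} (hw : L4 w) :
    lp (ρ (el x w)) p = om^[lw l w] p := by
  induction w with
  | nil => rw [el_nil, map_one]; rfl
  | cons a w ih =>
    rw [el_cons, map_mul, lp_mul, ih fun j hj => hw j (List.mem_cons_of_mem _ hj), lp_om,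
      h a (hw a List.mem_cons_self), ← Function.iterate_add_apply, add_comm]
    rfl

theorem Wt.om {l : ℕ → ℕ} {p : V × V} (h : Wt ρ x l p) (n : ℕ) : Wt ρ x l (om^[n] p) := fun i hi => by
  rw [lp_om, h i hi, ← Function.iterate_add_apply, add_comm, Function.iterate_add_apply]

theorem Wt.congr {l m : ℕ → ℕ} {p : V × V} (h : Wt ρ x l p) (e : ∀ i < 4, m i % 3 = l i % 3) :
    Wt ρ x m p := fun i hi => by rw [h i hi, om_congr (e i hi)]

theorem ne_zero_map (ρ : G →* EW) (g : G) {v : V} (h : v ≠ 0) : ρ g v ≠ 0 := fun e => h (by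
  have : ρ g⁻¹ (ρ g v) = v := by rw [← Module.End.mul_apply, ← map_mul, inv_mul_cancel, map_one]; rfl
  rw [← this, e, map_zero])

theorem Wt.ne {l : ℕ → ℕ} {p : V × V} (h : Wt ρ x l p) (hl : NZ l) (h0 : p.1 ≠ 0) :
    p.2 ≠ 0 ∧ p.1 + p.2 ≠ 0 := by
  obtain ⟨w, hw, e⟩ := hl.one
  have h1 := h.ev hw
  rw [om_mod, e] at h1
  obtain ⟨h2, h3⟩ := Prod.ext_iff.1 h1
  change ρ _ p.1 = p.2 at h2
  change ρ _ p.2 = p.1 + p.2 at h3
  have h4 : p.2 ≠ 0 := h2 ▸ ne_zero_map ρ _ h0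
  exact ⟨h4, h3 ▸ ne_zero_map ρ _ h4⟩

theorem Wt.om_ne {l : ℕ → ℕ} {p : V × V} (h : Wt ρ x l p) (hl : NZ l) (h0 : p.1 ≠ 0) (n : ℕ) :
    (W4.om^[n] p).1 ≠ 0 := by
  rcases om_cases n p with ⟨-, e⟩ | ⟨-, e⟩ | ⟨-, e⟩ <;> rw [e]
  exacts [h0, (h.ne hl h0).1, (h.ne hl h0).2]

theorem Wt.mod_of_fix {l : ℕ → ℕ} {p : V × V} (h : Wt ρ x l p) (hl : NZ l) (h0 : p.1 ≠ 0) {n : ℕ}
    (e : W4.om^[n] p = p) : n % 3 = 0 := by
  rcases om_cases n p with ⟨h1, -⟩ | ⟨-, e'⟩ | ⟨-, e'⟩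
  · exact h1
  · rw [e'] at e
    exact absurd (by rw [← (Prod.ext_iff.1 e).1]; exact vv _) (h.ne hl h0).2
  · rw [e'] at e
    exact absurd (add_eq_left.1 (Prod.ext_iff.1 e).1) (h.ne hl h0).1

def Sp (p : V × V) (v : V) : Prop := ∃ a b : ZMod 2, v = a • p.1 + b • p.2

/-- the trace over a cyclic group of order three -/
def tr3 (f : EW) : EW := 1 + f + f * f

theorem tr3_fix {f : EW} {v : V} (h : f v = v) : tr3 f v = v := by
  simp only [tr3, LinearMap.add_apply, Module.End.one_apply, Module.End.mul_apply, h, vv, zero_add]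

theorem Sp.tr3 {p : V × V} {v : V} (h : Sp p v) {f : EW} {n : ℕ} (e : lp f p = om^[n] p) :
    tr3 f v = if n % 3 = 0 then v else 0 := by
  obtain ⟨a, b, rfl⟩ := h
  have : ∀ u : V, W4.tr3 f u = u + f u + f (f u) := fun u => rfl
  rcases om_cases n p with ⟨h1, e'⟩ | ⟨h1, e'⟩ | ⟨h1, e'⟩ <;> rw [e'] at e <;>
    obtain ⟨h2, h3⟩ := Prod.ext_iff.1 e <;> simp only [lp] at h2 h3 <;> rw [h1]
  · rw [if_pos rfl, tr3_fix]; rw [map_add, map_smul, map_smul, h2, h3]
  · rw [if_neg (by norm_num), map_add, map_smul, map_smul, this, this, h2, h3, map_add, h2, h3, vv,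
      add_comm p.1 p.2, vv' p.2, vv]
    simp
  · rw [if_neg (by norm_num), map_add, map_smul, map_smul, this, this, h2, h3, map_add, h2, h3,
      vv' p.1, add_comm p.1 p.2, vv, add_assoc p.2, vv, add_zero, vv]
    simp

section fam

variable {J : Type*} [Fintype J] {p : J → V × V} {l : J → ℕ → ℕ}

theorem sum_zero (hW : ∀ j, Wt ρ x (l j) (p j)) (hN : Pairwise fun j k => NP (l j) (l k))
    {v : J → V} (hv : ∀ j, Sp (p j) (v j)) (S : Finset J) (h : ∑ j ∈ S, v j = 0) :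
    ∀ j ∈ S, v j = 0 := by
  classical
  induction S using Finset.strongInduction with
  | H S ih =>
    intro j hj
    by_cases hS : ∃ k ∈ S, k ≠ j
    · obtain ⟨k, hk, n⟩ := hS
      obtain ⟨w, hw, e1, e2⟩ := (hN n.symm).sep
      refine ih (S.filter fun i => lw (l i) w % 3 = 0) ?_ ?_ j (Finset.mem_filter.2 ⟨hj, e1⟩)
      · exact Finset.filter_ssubset.2 ⟨k, hk, e2⟩
      · have := congrArg (tr3 (ρ (el x w))) h
        rw [map_sum, map_zero] at this
        rw [Finset.sum_filter]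
        exact (Finset.sum_congr rfl fun i _ => ((hv i).tr3 ((hW i).ev hw)).symm).trans this
    · push Not at hS
      rwa [Finset.sum_eq_single_of_mem j hj fun k hk n => absurd (hS k hk) n] at h

def fam (p : J → V × V) : J ⊕ J → V := Sum.elim (fun j => (p j).1) fun j => (p j).2

theorem indep (hW : ∀ j, Wt ρ x (l j) (p j)) (hN : Pairwise fun j k => NP (l j) (l k))
    (hZ : ∀ j, NZ (l j)) (h0 : ∀ j, (p j).1 ≠ 0) : LinearIndependent (ZMod 2) (fam p) := by
  rw [Fintype.linearIndependent_iff]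
  intro c hc
  rw [Fintype.sum_sum_type, ← Finset.sum_add_distrib] at hc
  have h1 := fun j => sum_zero hW hN (fun j => ⟨_, _, rfl⟩) _ hc j (Finset.mem_univ j)
  have h2 : ∀ j, c (.inl j) = 0 ∧ c (.inr j) = 0 := fun j => by
    have h3 := h1 j
    have h4 := (hW j).ne (hZ j) (h0 j)
    have h5 := h0 j
    rcases z2 (c (.inl j)) with a | a <;> rcases z2 (c (.inr j)) with b | b <;>
      simp_all [fam]
  rintro (j | j)
  exacts [(h2 j).1, (h2 j).2]

theorem card_le (hW : ∀ j, Wt ρ x (l j) (p j)) (hN : Pairwise fun j k => NP (l j) (l k))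
    (hZ : ∀ j, NZ (l j)) (h0 : ∀ j, (p j).1 ≠ 0) : Fintype.card J ≤ 10 := by
  have := (indep hW hN hZ h0).fintype_card_le_finrank
  simp only [Fintype.card_sum, Module.finrank_fintype_fun_eq_card, Fintype.card_fin] at this
  omega

end fam

/-- the relations in `3^4` -/
structure St (x : ℕ → G) : Prop where
  comm : ∀ i < 4, ∀ k < 4, x i * x k = x k * x i
  cube : ∀ i < 4, x i * (x i * x i) = 1

theorem St.exists_wt (h : St x) (hρ : ρ (x 0) ≠ 1) : ∃ l p, Wt ρ x l p ∧ p.1 ≠ 0 ∧ NZ l := by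
  have cube : ∀ i < 4, ∀ v, ρ (x i) (ρ (x i) (ρ (x i) v)) = v := fun i hi v => by
    simp only [← Module.End.mul_apply, ← map_mul]; rw [h.cube i hi, map_one]; rfl
  have key : ∀ n ≤ 3, ∃ (l : ℕ → ℕ) (p : V × V), p ≠ 0 ∧ l 0 = 1 ∧
      ∀ i ≤ n, lp (ρ (x i)) p = om^[l i] p := by
    intro n
    induction n with
    | zero =>
      intro _
      obtain ⟨v, hv⟩ : ∃ v, ρ (x 0) v ≠ v := by
        by_contra hh; push Not at hh; exact hρ (LinearMap.ext hh)
      refine ⟨fun _ => 1, (v + ρ (x 0) v, ρ (x 0) (v + ρ (x 0) v)), fun e => hv ?_, rfl, fun i hi => ?_⟩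
      · have := (Prod.ext_iff.1 e).1
        rw [← vv' v (ρ (x 0) v), show v + ρ (x 0) v = 0 from this, add_zero]
      · obtain rfl : i = 0 := by omega
        simp only [lp, om, Function.iterate_one, map_add, cube 0 (by norm_num), Prod.mk.injEq, true_and]
        rw [add_assoc, vv', add_comm]
    | succ n ih =>
      intro hn
      obtain ⟨l, p, h0, h1, h2⟩ := ih (by omega)
      set B := ρ (x (n + 1)) with hB
      have step : ∀ (q : V × V) (m : ℕ), (∀ i ≤ n, lp (ρ (x i)) q = om^[l i] q) →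
          ∀ i ≤ n, lp (ρ (x i)) (lp B q + om^[m] q) = om^[l i] (lp B q + om^[m] q) := by
        intro q m hq i hi
        rw [lp_add, om_add, lp_om, ← lp_mul, hB, ← map_mul, h.comm i (by omega) _ (by omega), map_mul,
          lp_mul, hq i hi, lp_om, ← Function.iterate_add_apply, ← Function.iterate_add_apply,
          add_comm m]
      have fin : ∀ (q : V × V) (m : ℕ), q ≠ 0 → (∀ i ≤ n, lp (ρ (x i)) q = om^[l i] q) →
          lp B q + om^[m] q = 0 → ∃ (l : ℕ → ℕ) (p : V × V), p ≠ 0 ∧ l 0 = 1 ∧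
            ∀ i ≤ n + 1, lp (ρ (x i)) p = om^[l i] p := by
        intro q m q0 hq e
        refine ⟨Function.update l (n + 1) m, q, q0, by simpa using h1, fun i hi => ?_⟩
        rcases Nat.lt_or_eq_of_le hi with hi | rfl
        · rw [Function.update_of_ne hi.ne, hq i (by omega)]
        · rw [Function.update_self, ← hB, eq_neg_of_add_eq_zero_left e]
          exact Prod.ext (CharTwo.neg_eq _) (CharTwo.neg_eq _)
      by_cases e2 : lp B p + om^[2] p = 0
      · exact fin p 2 h0 h2 e2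
      by_cases e1 : lp B (lp B p + om^[2] p) + om^[1] (lp B p + om^[2] p) = 0
      · exact fin _ 1 e2 (step p 2 h2) e1
      refine fin _ 0 e1 (step _ 1 (step p 2 h2)) ?_
      have c := cube (n + 1) (by omega)
      rw [← hB] at c
      have t : (2 : V) = 0 := CharTwo.two_eq_zero
      simp only [om2, lp, om, Function.iterate_one, Function.iterate_zero, id, Prod.mk_add_mk, map_add, c,
        Prod.mk_eq_zero]
      constructor
      · grind
      · grind
  obtain ⟨l, p, h0, h1, h2⟩ := key 3 le_rfl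
  refine ⟨l, p, fun i hi => h2 i (by omega), fun e => h0 ?_, 0, by norm_num, by rw [h1]; norm_num⟩
  have := (Prod.ext_iff.1 (h2 0 (by norm_num))).1
  rw [h1] at this
  simp only [lp, e, map_zero, om, Function.iterate_one] at this
  exact Prod.ext e this.symm

/-- `t` moves the weight `l` to the weight `m` -/
def Mv (x : ℕ → G) (t : G) (l m : ℕ → ℕ) : Prop :=
  ∀ (ρ : G →* EW) (p : V × V), Wt ρ x l p → Wt ρ x m (lp (ρ t) p)

theorem mv_of {t : G} {l m : ℕ → ℕ}
    (h : ∀ i < 4, ∃ w, L4 w ∧ x i * t = t * el x w ∧ m i % 3 = lw l w % 3) : Mv x t l m := by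
  intro ρ p hp i hi
  obtain ⟨w, hw, e, e'⟩ := h i hi
  rw [← lp_mul, ← map_mul, e, map_mul, lp_mul, hp.ev hw, lp_om, om_congr e']

theorem Mv.mul {s t : G} {l m n : ℕ → ℕ} (h : Mv x t l m) (h' : Mv x s m n) : Mv x (s * t) l n :=
  fun ρ p hp => by rw [map_mul, lp_mul]; exact h' ρ _ (h ρ p hp)

/-- ten weights -/
structure Fr (x : ℕ → G) (l : Fin 10 → ℕ → ℕ) (t : Fin 10 → G) : Prop where
  mv : ∀ j, Mv x (t j) (l 0) (l j)
  np : Pairwise fun j k => NP (l j) (l k)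
  t0 : t 0 = 1

namespace Fr

variable {l : Fin 10 → ℕ → ℕ} {t : Fin 10 → G} (h : Fr x l t) {p : V × V}
include h

theorem nz (j : Fin 10) : NZ (l j) := by
  obtain ⟨k, hk⟩ := exists_ne j
  exact (h.np hk.symm).nz

theorem ind (hp : Wt ρ x (l 0) p) (h0 : p.1 ≠ 0) :
    LinearIndependent (ZMod 2) (fam fun j => lp (ρ (t j)) p) :=
  indep (fun j => h.mv j ρ p hp) h.np h.nz fun _ => ne_zero_map ρ _ h0

/-- the basis of weight vectors -/
noncomputable def bas (hp : Wt ρ x (l 0) p) (h0 : p.1 ≠ 0) : Module.Basis (Fin 10 ⊕ Fin 10) (ZMod 2) V :=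
  basisOfLinearIndependentOfCardEqFinrank (h.ind hp h0) (by simp)

theorem bas_apply (hp : Wt ρ x (l 0) p) (h0 : p.1 ≠ 0) (j : Fin 10 ⊕ Fin 10) :
    h.bas hp h0 j = fam (fun j => lp (ρ (t j)) p) j := by
  rw [bas, coe_basisOfLinearIndependentOfCardEqFinrank]

theorem sp (hp : Wt ρ x (l 0) p) (h0 : p.1 ≠ 0) {v : V}
    (hv : ∀ w, L4 w → lw (l 0) w % 3 = 0 → ρ (el x w) v = v) : Sp p v := by
  have e := (h.bas hp h0).sum_repr v
  rw [Fintype.sum_sum_type, ← Finset.sum_add_distrib] at e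
  simp only [bas_apply, fam, Sum.elim_inl, Sum.elim_inr] at e
  generalize (h.bas hp h0).repr v = c at e
  set u : Fin 10 → V := fun j => c (.inl j) • (lp (ρ (t j)) p).1 + c (.inr j) • (lp (ρ (t j)) p).2 with hu
  have hs : ∀ j, Sp (lp (ρ (t j)) p) (u j) := fun j => ⟨_, _, rfl⟩
  have h1 : ∀ j, j ≠ 0 → u j = 0 := fun j hj => by
    obtain ⟨w, hw, e1, e2⟩ := (h.np hj.symm).sep
    have h2 := tr3_fix (hv w hw e1)
    have h3 : ∀ k, tr3 (ρ (el x w)) (u k) = _ := fun k => (hs k).tr3 ((h.mv k ρ p hp).ev hw)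
    have h4 := sum_zero (fun j => h.mv j ρ p hp) h.np
      (v := fun k => u k + tr3 (ρ (el x w)) (u k)) (fun k => by
        rw [h3]
        split_ifs
        · exact ⟨0, 0, by simp [vv]⟩
        · simpa using hs k) Finset.univ
      (by rw [Finset.sum_add_distrib, ← map_sum, e, h2, vv]) j (Finset.mem_univ j)
    simpa [h3, e2] using h4
  rw [Finset.sum_eq_single 0 (fun j _ n => h1 j n) (by simp)] at e
  have := hs 0
  rw [h.t0, map_one] at this
  exact e ▸ this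

omit h in
theorem lw_two (l : ℕ → ℕ) (w : List ℕ) : lw (fun i => 2 * l i) w = 2 * lw l w := by
  simp [lw, List.sum_map_mul_left]

theorem exists_norm (hp : Wt ρ x (l 0) p) (h0 : p.1 ≠ 0) {g : G} (hg : g * g = 1)
    (mg : Mv x g (l 0) fun i => 2 * l 0 i) :
    ∃ p, Wt ρ x (l 0) p ∧ p.1 ≠ 0 ∧ ρ g p.1 = p.1 := by
  have h1 : ∀ v, ρ g (ρ g v) = v := fun v => by
    rw [← Module.End.mul_apply, ← map_mul, hg, map_one]; rfl
  obtain ⟨a, b, e⟩ := h.sp hp h0 (v := ρ g p.1) fun w hw e => by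
    have := (mg ρ p hp).ev hw
    rw [om_mod, lw_two, Nat.mul_mod, e] at this
    exact (Prod.ext_iff.1 this).1
  rcases z2 a with rfl | rfl <;> rcases z2 b with rfl | rfl <;>
    simp only [zero_smul, one_smul, add_zero, zero_add] at e
  · exact absurd e (ne_zero_map ρ _ h0)
  · refine ⟨_, hp.om 2, hp.om_ne (h.nz 0) h0 2, ?_⟩
    rw [om2]
    simp only [map_add]
    rw [← e, h1, add_comm]
  · exact ⟨p, hp, h0, e⟩
  · refine ⟨_, hp.om 1, hp.om_ne (h.nz 0) h0 1, ?_⟩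
    change ρ g p.2 = p.2
    rw [← vv' p.1 p.2, map_add, ← e, h1, add_comm]

omit h in
theorem snd_eq (hp : Wt ρ x (l 0) p) {u : List ℕ} (hu : L4 u) (eu : lw (l 0) u % 3 = 1) :
    p.2 = ρ (el x u) p.1 := by
  have := hp.ev hu
  rw [om_mod, eu] at this
  exact (Prod.ext_iff.1 this).1.symm

theorem fix_of (hp : Wt ρ x (l 0) p) (h0 : p.1 ≠ 0) {g : G} (hg : g * g = 1)
    (mg : Mv x g (l 0) (l 0)) : ρ g p.1 = p.1 := by
  have hq := mg ρ p hp
  obtain ⟨a, b, e⟩ := h.sp hp h0 (v := ρ g p.1) fun w hw e => by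
    have := hq.ev hw
    rw [om_mod, e] at this
    exact (Prod.ext_iff.1 this).1
  obtain ⟨u, hu, eu⟩ := (h.nz 0).one
  have e2 : ρ g p.2 = ρ (el x u) (ρ g p.1) := snd_eq hq hu eu
  have e3 := hp.ev hu
  rw [om_mod, eu] at e3
  have e4 : ρ (el x u) p.1 = p.2 := (Prod.ext_iff.1 e3).1
  have e5 : ρ (el x u) p.2 = p.1 + p.2 := (Prod.ext_iff.1 e3).2
  have h1 : ρ g (ρ g p.1) = p.1 := by
    rw [← Module.End.mul_apply, ← map_mul, hg, map_one]; rfl
  obtain ⟨n1, n2⟩ := hp.ne (h.nz 0) h0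
  rcases z2 a with rfl | rfl <;> rcases z2 b with rfl | rfl <;>
    simp only [zero_smul, one_smul, add_zero, zero_add] at e
  · exact absurd e (ne_zero_map ρ _ h0)
  · rw [e, e2, e, e5] at h1
    exact absurd (add_eq_left.1 h1) n1
  · exact e
  · rw [e, map_add, e2, e, map_add, e4, e5, add_comm p.2, add_assoc p.1 p.2 p.2, vv, add_zero,
      add_comm, vv'] at h1
    exact absurd (h1 ▸ vv _) n2

theorem exists_T {ρ₁ ρ₂ : G →* EW} {p₁ p₂ : V × V} (h1 : Wt ρ₁ x (l 0) p₁) (n1 : p₁.1 ≠ 0)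
    (h2 : Wt ρ₂ x (l 0) p₂) (n2 : p₂.1 ≠ 0) {u : List ℕ} (hu : L4 u) (eu : lw (l 0) u % 3 = 1) :
    ∃ T : V ≃ₗ[ZMod 2] V, ∀ g : G, (∀ j, ∀ c ∈ [[], u], ∃ k w κ, L4 w ∧ ρ₁ κ p₁.1 = p₁.1 ∧
      ρ₂ κ p₂.1 = p₂.1 ∧ g * (t j * el x c) = t k * (el x w * κ)) → ∀ v, T (ρ₁ g v) = ρ₂ g (T v) := by
  let T := (h.bas h1 n1).equiv (h.bas h2 n2) (Equiv.refl _)
  have hT : ∀ j, lp T.toLinearMap (lp (ρ₁ (t j)) p₁) = lp (ρ₂ (t j)) p₂ := fun j => by
    have := fun i => (h.bas h1 n1).equiv_apply i (h.bas h2 n2) (Equiv.refl _)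
    simp only [bas_apply] at this
    exact Prod.ext (this (.inl j)) (this (.inr j))
  have star : ∀ j w, L4 w → T (ρ₁ (t j * el x w) p₁.1) = ρ₂ (t j * el x w) p₂.1 := fun j w hw => by
    have := congrArg (om^[lw (l 0) w]) (hT j)
    rw [← lp_om, ← lp_om, ← lp_om, ← h1.ev hw, ← h2.ev hw] at this
    rw [map_mul, map_mul]
    exact (Prod.ext_iff.1 this).1
  refine ⟨T, fun g hg => LinearMap.congr_fun (f := T.toLinearMap ∘ₗ ρ₁ g) (g := ρ₂ g ∘ₗ T.toLinearMap)
    ((h.bas h1 n1).ext fun i => ?_)⟩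
  obtain ⟨j, c, hc, hc', e⟩ : ∃ j, ∃ c ∈ [[], u], L4 c ∧ h.bas h1 n1 i = ρ₁ (t j * el x c) p₁.1 := by
    rw [bas_apply]
    rcases i with j | j
    · exact ⟨j, [], by simp, fun _ h => absurd h List.not_mem_nil, by simp [fam, lp]⟩
    · exact ⟨j, u, by simp, hu, by rw [map_mul, Module.End.mul_apply, ← snd_eq h1 hu eu]; rfl⟩
  obtain ⟨k, w, κ, hw, f1, f2, e'⟩ := hg j c hc
  simp only [LinearMap.comp_apply, e, LinearEquiv.coe_coe]
  rw [star j c hc', ← Module.End.mul_apply, ← map_mul, ← Module.End.mul_apply (ρ₂ g), ← map_mul, e',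
    ← mul_assoc, map_mul ρ₁, map_mul ρ₂, Module.End.mul_apply, Module.End.mul_apply, f1, f2,
    star k w hw]

end Fr

end Cfsg.Agent.E62.W4
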